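import Mathlib
import Cfsg.Agent.H150.FarLin

/-!
# Centralizers of isometries with one nontrivial irreducible constituent
-/

set_option autoImplicit false
set_option linter.unusedVariables false
set_option linter.unusedSectionVars false

namespace Cfsg.Agent.H990.TC.Cent

open Module Polynomial

variable {F : Type*} [Field F] {V : Type*} [AddCommGroup V] [Module F V] [FiniteDimensional F V]

theorem polar_isom (Q : QuadraticForm F V) (y : Module.End F V) (hy : ∀ v, Q (y v) = Q v) (v w : V) :
    QuadraticMap.polar Q (y v) (y w) = QuadraticMap.polar Q v w := by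
  rw [QuadraticMap.polar, QuadraticMap.polar, ← map_add, hy, hy, hy]

/-- **irreducible isometries**: at most `q ^ k + 1` commuting isometries -/
theorem card_irr [Finite F] [Nontrivial V] (Q : QuadraticForm F V)
    (hnd : ∀ u, (∀ v, QuadraticMap.polar Q v u = 0) → u = 0) {r : ℕ} (hr : 0 < r) (x : Module.End F V)
    (hirr : ∀ W : Submodule F V, (∀ w ∈ W, x w ∈ W) → W = ⊥ ∨ W = ⊤) (hx : x ^ r = 1)
    (hxQ : ∀ v, Q (x v) = Q v) {k : ℕ} (hk : r ∣ Nat.card F ^ k + 1) :
    Nat.card {y : Module.End F V // Commute x y ∧ ∀ v, Q (y v) = Q v} ≤ Nat.card F ^ k + 1 := by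
  classical
  set N := Nat.card F ^ k + 1 with hN
  letI : CommRing (Algebra.adjoin F {x}) := Algebra.adjoinCommRingOfComm F (by
    intro a ha b hb
    rw [Set.mem_singleton_iff] at ha hb
    rw [ha, hb])
  have hnz : NoZeroDivisors (Algebra.adjoin F {x}) := by
    constructor
    intro a b hab
    by_cases ha : (a : Module.End F V) = 0
    · left; exact Subtype.ext ha
    right
    obtain ⟨f, hf⟩ : ∃ f : F[X], aeval x f = (a : Module.End F V) := by
      exact (Algebra.adjoin_singleton_eq_range_aeval F x).le a.2
    have hinv : ∀ w ∈ LinearMap.ker (a : Module.End F V), x w ∈ LinearMap.ker (a : Module.End F V) := by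
      intro w hw
      rw [LinearMap.mem_ker] at hw ⊢
      have h1 : Commute (aeval x f) x := by
        have := (Polynomial.aeval x).toRingHom.map_mul f X
        have h2 : aeval x (f * X) = aeval x (X * f) := by rw [mul_comm]
        rw [map_mul, map_mul, aeval_X] at h2
        exact h2
      rw [hf] at h1
      have h2 := LinearMap.congr_fun h1.eq w
      rw [Module.End.mul_apply, Module.End.mul_apply, hw, map_zero] at h2
      exact h2
    rcases hirr _ hinv with h | h
    · apply Subtype.ext
      apply LinearMap.ext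
      intro v
      have h2 : (a : Module.End F V) ((b : Module.End F V) v) = 0 := by
        have h3 : (a : Module.End F V) * (b : Module.End F V) = 0 := congrArg Subtype.val hab
        exact LinearMap.congr_fun h3 v
      have h4 : (b : Module.End F V) v ∈ LinearMap.ker (a : Module.End F V) := h2
      rw [h, Submodule.mem_bot] at h4
      exact h4
    · exact absurd (LinearMap.ker_eq_top.1 h) ha
  have hnt : Nontrivial (Algebra.adjoin F {x}) := inferInstance
  haveI : IsDomain (Algebra.adjoin F {x}) := NoZeroDivisors.to_isDomain _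
  let g : {y : Module.End F V // Commute x y ∧ ∀ v, Q (y v) = Q v} →
      {a // a ∈ (nthRoots N (1 : Algebra.adjoin F {x})).toFinset} := fun y =>
    ⟨⟨y.1, by
      obtain ⟨f, hf⟩ := Cfsg.Agent.H150.exists_aeval_eq x y.1 y.2.1 hirr
      rw [hf]
      exact Polynomial.aeval_mem_adjoin_singleton _ _⟩, by
      rw [Multiset.mem_toFinset, mem_nthRoots (by omega)]
      apply Subtype.ext
      exact Cfsg.Agent.H150.irr_pow (QuadraticMap.polarBilin Q) hnd hr x y.1 y.2.1 hirr hx
        (fun v w => polar_isom Q x hxQ v w) (fun v w => polar_isom Q y.1 y.2.2 v w) hk⟩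
  have hg : Function.Injective g := by
    intro y z h
    apply Subtype.ext
    have h1 : (g y).1 = (g z).1 := congrArg Subtype.val h
    exact congrArg (fun a : Algebra.adjoin F {x} => (a : Module.End F V)) h1
  have h1 := Nat.card_le_card_of_injective g hg
  refine h1.trans ?_
  rw [Nat.card_eq_fintype_card, Fintype.card_coe]
  exact (Multiset.toFinset_card_le _).trans (card_nthRoots N _)

/-! ### small spaces -/

omit [FiniteDimensional F V] in
theorem quad_roots [Finite F] {a b c : F} (h : a ≠ 0 ∨ b ≠ 0) : Nat.card {s : F // a * s ^ 2 + b * s + c = 0} ≤ 2 := by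
  classical
  set P : F[X] := C a * X ^ 2 + C b * X + C c with hP
  have hP0 : P ≠ 0 := by
    intro h0
    rcases h with h | h
    · apply h
      have := congrArg (fun p => Polynomial.coeff p 2) h0
      simpa [hP, Polynomial.coeff_X, Polynomial.coeff_C] using this
    · apply h
      have := congrArg (fun p => Polynomial.coeff p 1) h0
      simpa [hP, Polynomial.coeff_X, Polynomial.coeff_C] using this
  have hd : P.natDegree ≤ 2 := by
    rw [hP]; compute_degree
  let g : {s : F // a * s ^ 2 + b * s + c = 0} → {s // s ∈ P.roots.toFinset} := fun s => ⟨s.1, by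
    rw [Multiset.mem_toFinset, mem_roots hP0, IsRoot.def, hP]
    simpa using s.2⟩
  have h1 := Nat.card_le_card_of_injective g (fun s t h => Subtype.ext (congrArg (fun z => z.1) h))
  refine h1.trans ?_
  rw [Nat.card_eq_fintype_card, Fintype.card_coe]
  exact (Multiset.toFinset_card_le _).trans ((card_roots' P).trans hd)

/-- fibrewise bound -/
theorem card_le_of_fibres {A B : Type*} [Finite A] [Finite B] (f : A → B) (n : ℕ)
    (h : ∀ b, Nat.card {a // f a = b} ≤ n) : Nat.card A ≤ n * Nat.card B := by
  classical
  have := Fintype.ofFinite A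
  have := Fintype.ofFinite B
  rw [Nat.card_eq_fintype_card, Nat.card_eq_fintype_card, ← Finset.card_univ, ← Finset.card_univ]
  refine Finset.card_le_mul_card_image_of_maps_to (f := f) (fun a _ => Finset.mem_univ _) n fun b _ => ?_
  refine le_trans (le_of_eq ?_) (h b)
  rw [Nat.card_eq_fintype_card, Fintype.card_subtype]

instance instFiniteEnd [Finite F] : Finite (Module.End F V) := by
  haveI : Finite V := Module.finite_of_finite F
  exact Finite.of_injective (fun (f : Module.End F V) => (f : V → V)) DFunLike.coe_injective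

theorem card_iso_zero [Finite F] (Q : QuadraticForm F V) (h : finrank F V = 0) :
    Nat.card {y : Module.End F V // ∀ v, Q (y v) = Q v} ≤ 1 := by
  haveI : Subsingleton V := finrank_zero_iff.1 h
  haveI : Subsingleton (Module.End F V) := ⟨fun a b => LinearMap.ext fun v => Subsingleton.elim _ _⟩
  exact Finite.card_le_one_iff_subsingleton.2 inferInstance

theorem card_iso_one [Finite F] (Q : QuadraticForm F V)
    (hnd : ∀ u, (∀ v, QuadraticMap.polar Q v u = 0) → u = 0) (h : finrank F V = 1) :
    Nat.card {y : Module.End F V // ∀ v, Q (y v) = Q v} ≤ 2 := by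
  obtain ⟨v, hv, hs⟩ := finrank_eq_one_iff'.1 h
  have hQv : Q v ≠ 0 := by
    intro h0
    apply hv
    apply hnd
    intro w
    obtain ⟨c, rfl⟩ := hs w
    rw [QuadraticMap.polar_smul_left, QuadraticMap.polar_self, h0, smul_zero, smul_zero]
  have hc : ∀ y : Module.End F V, ∃ c : F, c • v = y v := fun y => hs (y v)
  choose c hcy using hc
  let g : {y : Module.End F V // ∀ v, Q (y v) = Q v} → {s : F // 1 * s ^ 2 + 0 * s + (-1) = 0} := fun y =>
    ⟨c y.1, by
      have h1 := y.2 v
      rw [← hcy, QuadraticMap.map_smul, smul_eq_mul] at h1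
      have h2 : (c y.1 * c y.1 - 1) * Q v = 0 := by linear_combination h1
      rcases mul_eq_zero.1 h2 with h3 | h3
      · linear_combination h3
      · exact absurd h3 hQv⟩
  have hg : Function.Injective g := by
    intro y z h
    have h1 : c y.1 = c z.1 := congrArg Subtype.val h
    apply Subtype.ext
    apply LinearMap.ext
    intro w
    obtain ⟨a, rfl⟩ := hs w
    rw [map_smul, map_smul, ← hcy, ← hcy, h1]
  exact (Nat.card_le_card_of_injective g hg).trans (quad_roots (Or.inl one_ne_zero))

theorem polar_expand (Q : QuadraticForm F V) (s t : F) (v w : V) :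
    Q (s • v + t • w) = Q v * s ^ 2 + (t * QuadraticMap.polar Q v w) * s + t ^ 2 * Q w := by
  have h1 : Q (s • v + t • w) = QuadraticMap.polar Q (s • v) (t • w) + Q (s • v) + Q (t • w) := by
    rw [QuadraticMap.polar]; ring
  rw [h1, QuadraticMap.polar_smul_left, QuadraticMap.polar_smul_right, QuadraticMap.map_smul, QuadraticMap.map_smul]
  simp only [smul_eq_mul]
  ring

theorem card_iso_two [Finite F] (Q : QuadraticForm F V)
    (hnd : ∀ u, (∀ v, QuadraticMap.polar Q v u = 0) → u = 0) (h : finrank F V = 2) :
    Nat.card {y : Module.End F V // ∀ v, Q (y v) = Q v} ≤ 4 * Nat.card F := by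
  classical
  haveI : Finite V := Module.finite_of_finite F
  haveI : Nontrivial V := Module.nontrivial_of_finrank_pos (R := F) (by omega)
  -- an anisotropic vector
  obtain ⟨v, hQv⟩ : ∃ v, Q v ≠ 0 := by
    by_contra hcon
    push Not at hcon
    obtain ⟨u, hu⟩ := exists_ne (0 : V)
    exact hu (hnd u fun v => by rw [QuadraticMap.polar, hcon, hcon, hcon]; simp)
  have hv0 : v ≠ 0 := by rintro rfl; exact hQv (by simp)
  -- a second vector
  obtain ⟨w, hw⟩ : ∃ w, w ∉ Submodule.span F {v} := by
    by_contra hcon
    push Not at hcon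
    have h1 : (Submodule.span F {v} : Submodule F V) = ⊤ := by
      rw [eq_top_iff]; exact fun x _ => hcon x
    have h2 := finrank_span_singleton (K := F) hv0
    rw [h1, finrank_top, h] at h2
    omega
  have hli : LinearIndependent F ![v, w] := by
    rw [LinearIndependent.pair_iff' hv0]
    intro a ha
    exact hw (Submodule.mem_span_singleton.2 ⟨a, ha⟩)
  have hspan : ∀ u : V, ∃ s t : F, u = s • v + t • w := by
    intro u
    have h1 := hli.span_eq_top_of_card_eq_finrank' (by simp [h])
    have h2 : u ∈ Submodule.span F (Set.range ![v, w]) := by rw [h1]; exact Submodule.mem_top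
    rw [Matrix.range_cons, Matrix.range_cons, Matrix.range_empty, Set.union_empty] at h2
    rw [← Set.insert_eq] at h2
    obtain ⟨a, b, hab⟩ := Submodule.mem_span_pair.1 h2
    exact ⟨a, b, hab.symm⟩
  -- vectors of norm `Q v`
  have hS : Nat.card {z : V // Q z = Q v} ≤ 2 * Nat.card F := by
    choose cs ct hct using hspan
    refine card_le_of_fibres (fun z : {z : V // Q z = Q v} => ct z.1) 2 fun t => ?_
    let g : {a : {z : V // Q z = Q v} // ct a.1 = t} →
        {s : F // Q v * s ^ 2 + (t * QuadraticMap.polar Q v w) * s + (t ^ 2 * Q w - Q v) = 0} := fun a =>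
      ⟨cs a.1.1, by
        have h1 := a.1.2
        rw [hct a.1.1, a.2, polar_expand] at h1
        linear_combination h1⟩
    have hg : Function.Injective g := by
      intro a b hab
      have h1 : cs a.1.1 = cs b.1.1 := congrArg Subtype.val hab
      apply Subtype.ext
      apply Subtype.ext
      rw [hct a.1.1, hct b.1.1, a.2, b.2, h1]
    exact (Nat.card_le_card_of_injective g hg).trans (quad_roots (Or.inl hQv))
  -- fibres of `y ↦ y v`
  have hfib : ∀ z : {z : V // Q z = Q v}, Nat.card {y : {y : Module.End F V // ∀ v, Q (y v) = Q v} //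
      (⟨y.1 v, y.2 v⟩ : {z : V // Q z = Q v}) = z} ≤ 2 := by
    rintro ⟨z, hz⟩
    by_cases hne : Nonempty {y : {y : Module.End F V // ∀ v, Q (y v) = Q v} //
      (⟨y.1 v, y.2 v⟩ : {z : V // Q z = Q v}) = ⟨z, hz⟩}
    swap
    · rw [not_nonempty_iff] at hne
      rw [Nat.card_of_isEmpty]
      norm_num
    obtain ⟨⟨⟨y0, hy0⟩, hy0v⟩⟩ := hne
    have hy0v : y0 v = z := congrArg Subtype.val hy0v
    have hz0 : z ≠ 0 := by rintro rfl; rw [QuadraticMap.map_zero] at hz; exact hQv hz.symm
    let φ : V →ₗ[F] F := (QuadraticMap.polarBilin Q).flip z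
    have hφ : ∀ u, φ u = QuadraticMap.polar Q u z := fun u => rfl
    have hφ0 : φ ≠ 0 := by
      intro h0
      exact hz0 (hnd z fun u => by rw [← hφ, h0]; rfl)
    have hker : finrank F (LinearMap.ker φ) = 1 := by
      have h1 := LinearMap.finrank_range_add_finrank_ker φ
      have h2 : LinearMap.range φ = ⊤ := LinearMap.range_eq_top.2 (LinearMap.surjective_of_ne_zero hφ0)
      rw [h2, finrank_top, finrank_self, h] at h1
      omega
    obtain ⟨n0, hn0, hns⟩ := finrank_eq_one_iff'.1 hker
    have hn0' : (n0 : V) ≠ 0 := fun h0 => hn0 (Subtype.ext h0)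
    have hn0z : QuadraticMap.polar Q (n0 : V) z = 0 := n0.2
    have hinj : ∀ u, y0 u = 0 → u = 0 := by
      intro u hu
      apply hnd
      intro u'
      rw [← polar_isom Q y0 hy0 u' u, hu, QuadraticMap.polar_zero_right]
    -- `n0` is not orthogonal to `y0 w`
    have hb : QuadraticMap.polar Q (y0 w) (n0 : V) ≠ 0 := by
      intro h0
      apply hn0'
      -- `y0` is surjective
      have hsurj : Function.Surjective y0 := by
        apply LinearMap.surjective_of_injective
        rw [injective_iff_map_eq_zero]
        exact hinj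
      apply hnd
      intro u
      obtain ⟨u', rfl⟩ := hsurj u
      obtain ⟨s, t, rfl⟩ := hspan u'
      rw [map_add, map_smul, map_smul, hy0v, QuadraticMap.polar_add_left, QuadraticMap.polar_smul_left,
        QuadraticMap.polar_smul_left, h0, QuadraticMap.polar_comm, hn0z]
      simp
    have hcy : ∀ y : {y : {y : Module.End F V // ∀ v, Q (y v) = Q v} //
        (⟨y.1 v, y.2 v⟩ : {z : V // Q z = Q v}) = ⟨z, hz⟩}, ∃ c : F, y.1.1 w = y0 w + c • (n0 : V) := by
      rintro ⟨⟨y, hy⟩, hyv⟩
      have hyv : y v = z := congrArg Subtype.val hyv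
      have h1 : y w - y0 w ∈ LinearMap.ker φ := by
        rw [LinearMap.mem_ker, map_sub, hφ, hφ]
        nth_rw 1 [← hyv]
        rw [← hy0v, polar_isom Q y hy, polar_isom Q y0 hy0, sub_self]
      obtain ⟨c, hc⟩ := hns ⟨_, h1⟩
      refine ⟨c, ?_⟩
      have h2 : c • (n0 : V) = y w - y0 w := congrArg Subtype.val hc
      rw [h2]; abel
    choose c hc using hcy
    let g : {y : {y : Module.End F V // ∀ v, Q (y v) = Q v} //
        (⟨y.1 v, y.2 v⟩ : {z : V // Q z = Q v}) = ⟨z, hz⟩} →
        {s : F // Q (n0 : V) * s ^ 2 + QuadraticMap.polar Q (y0 w) (n0 : V) * s + 0 = 0} := fun y =>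
      ⟨c y, by
        have h1 : Q (y.1.1 w) = Q w := y.1.2 w
        rw [hc y] at h1
        have h2 := polar_expand Q 1 (c y) (y0 w) (n0 : V)
        rw [one_smul, h1, hy0 w] at h2
        linear_combination -h2⟩
    have hg : Function.Injective g := by
      intro y y' hyy
      have h1 : c y = c y' := congrArg Subtype.val hyy
      have h2 : y.1.1 w = y'.1.1 w := by rw [hc, hc, h1]
      have h3 : y.1.1 v = z := congrArg Subtype.val y.2
      have h4 : y'.1.1 v = z := congrArg Subtype.val y'.2
      apply Subtype.ext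
      apply Subtype.ext
      apply LinearMap.ext
      intro u
      obtain ⟨s, t, rfl⟩ := hspan u
      rw [map_add, map_add, map_smul, map_smul, map_smul, map_smul, h2, h3, h4]
    exact (Nat.card_le_card_of_injective g hg).trans (quad_roots (Or.inr hb))
  have h1 := card_le_of_fibres (fun y : {y : Module.End F V // ∀ v, Q (y v) = Q v} =>
    (⟨y.1 v, y.2 v⟩ : {z : V // Q z = Q v})) 2 hfib
  refine h1.trans ?_
  calc 2 * Nat.card {z : V // Q z = Q v} ≤ 2 * (2 * Nat.card F) := Nat.mul_le_mul_left _ hS
    _ = 4 * Nat.card F := by ring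

end Cfsg.Agent.H990.TC.Cent
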