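import Mathlib
import Cfsg.Agent.H68.Bounds
import Cfsg.Agent.H487.SchurMult

/-!
# Two commutators: definitions, and descent from a universal cover

* `One G`: every element of `G` is a commutator; `Two G`: every element is a product of two commutators.
* `Row K`: every finite perfect central extension of `K` satisfies `Two`.
* `exists_surj_of_trivial`: a perfect central extension `Γ → K` with `Γ` of trivial multiplier maps onto every perfect
  central extension of `K`.
* `exists_surj_of_card`: the same with `|ker| = |multiplier|`.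
-/

set_option autoImplicit false
set_option linter.unusedVariables false

namespace Cfsg.Agent.H990.TC

open Subgroup Cfsg.Agent.H51.Mult Cfsg.Agent.H68.Bounds

universe u v w u'

/-- every element is a commutator -/
def One (G : Type u) [Group G] : Prop := ∀ g : G, ∃ a b : G, a * b * a⁻¹ * b⁻¹ = g

/-- every element is a product of two commutators -/
def Two (G : Type u) [Group G] : Prop := ∀ g : G, ∃ a b c d : G, (a * b * a⁻¹ * b⁻¹) * (c * d * c⁻¹ * d⁻¹) = g

/-- every finite perfect central extension of `K` satisfies `Two` -/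
def Row (K : Type v) [Group K] : Prop :=
  ∀ (L : Type u) [Group L] [Finite L] (π : L →* K), PCE π → Two L

section basic

variable {G : Type u} {H : Type v} [Group G] [Group H]

theorem One.two (h : One G) : Two G := fun g => by
  obtain ⟨a, b, h1⟩ := h g
  exact ⟨a, b, 1, 1, by rw [h1]; simp⟩

theorem Two.of_surj (h : Two G) (f : G →* H) (hf : Function.Surjective f) : Two H := fun x => by
  obtain ⟨g, rfl⟩ := hf x
  obtain ⟨a, b, c, d, h1⟩ := h g
  exact ⟨f a, f b, f c, f d, by rw [← h1]; simp⟩

theorem One.of_surj (h : One G) (f : G →* H) (hf : Function.Surjective f) : One H := fun x => by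
  obtain ⟨g, rfl⟩ := hf x
  obtain ⟨a, b, h1⟩ := h g
  exact ⟨f a, f b, by rw [← h1]; simp⟩

theorem Row.congr {K : Type v} {K' : Type w} [Group K] [Group K'] (e : K ≃* K') (h : Row.{u} K) : Row.{u} K' := by
  intro L _ _ π hπ
  exact h L _ (hπ.congr e.symm)

end basic

section univ

variable {Γ : Type u} {K : Type v} {L : Type w} [Group Γ] [Group K] [Group L]

/-- A perfect central extension with trivial multiplier is universal. -/
theorem exists_surj_of_trivial {σ : Γ →* K} (hσ : PCE σ) (h : Cfsg.HasCyclicSchurMultiplier Γ 1)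
    {π : L →* K} (hπ : PCE π) : ∃ θ : Γ →* L, Function.Surjective θ := by
  obtain ⟨D, _, f, g, hf, hg, -, -, -⟩ := exists_common hσ hπ
  have h1 := (ker_of_hasCyclic h hf).2
  have h2 : Function.Injective f := by
    rw [← MonoidHom.ker_eq_bot_iff]
    exact Subgroup.eq_bot_of_card_eq _ (Nat.dvd_one.1 h1)
  let e : D ≃* Γ := MulEquiv.ofBijective f ⟨h2, hf.surj⟩
  exact ⟨g.comp e.symm.toMonoidHom, hg.surj.comp e.symm.surjective⟩

theorem row_of_trivial {σ : Γ →* K} (hσ : PCE σ) (h : Cfsg.HasCyclicSchurMultiplier Γ 1) (h2 : Two Γ) :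
    Row.{u'} K := by
  intro L _ _ π hπ
  obtain ⟨θ, hθ⟩ := exists_surj_of_trivial hσ h hπ
  exact h2.of_surj θ hθ

/-- the kernel order of a perfect central extension divides the order of the multiplier -/
theorem card_ker_dvd {A : Type u'} [CommGroup A] (h : Cfsg.HasSchurMultiplier K A) {π : L →* K} (hπ : PCE π) :
    Nat.card π.ker ∣ Nat.card A := by
  obtain ⟨f, hf⟩ := Cfsg.Agent.H487.HasSchurMultiplier.exists_surj_ker h hπ.toStem
  have h1 := Nat.card_congr (QuotientGroup.quotientKerEquivOfSurjective f hf).toEquiv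
  rw [← h1, ← Subgroup.index_eq_card]
  exact f.ker.index_dvd_card

/-- A perfect central extension whose kernel has the order of the multiplier is universal. -/
theorem exists_surj_of_card {A : Type u'} [CommGroup A] (h : Cfsg.HasSchurMultiplier K A) {σ : Γ →* K} (hσ : PCE σ)
    (hc : Nat.card σ.ker = Nat.card A) {π : L →* K} (hπ : PCE π) : ∃ θ : Γ →* L, Function.Surjective θ := by
  obtain ⟨D, _, f, g, hf, hg, hfg, hD, -⟩ := exists_common hσ hπ
  have hA : Finite A := Cfsg.Agent.H487.finite_multiplier h
  have h1 := card_ker_dvd h hD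
  rw [card_ker_comp hf.surj, hc] at h1
  have h3 : 0 < Nat.card A := Nat.card_pos
  have h4 : Nat.card f.ker ∣ 1 := by
    apply Nat.dvd_of_mul_dvd_mul_left h3
    rw [mul_one]; exact h1
  have h2 : Function.Injective f := by
    rw [← MonoidHom.ker_eq_bot_iff]
    exact Subgroup.eq_bot_of_card_eq _ (Nat.dvd_one.1 h4)
  let e : D ≃* Γ := MulEquiv.ofBijective f ⟨h2, hf.surj⟩
  exact ⟨g.comp e.symm.toMonoidHom, hg.surj.comp e.symm.surjective⟩

theorem row_of_card {A : Type u'} [CommGroup A] (h : Cfsg.HasSchurMultiplier K A) {σ : Γ →* K} (hσ : PCE σ)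
    (hc : Nat.card σ.ker = Nat.card A) (h2 : Two Γ) : Row.{w} K := by
  intro L _ _ π hπ
  obtain ⟨θ, hθ⟩ := exists_surj_of_card h hσ hc hπ
  exact h2.of_surj θ hθ

end univ

end Cfsg.Agent.H990.TC
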