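import Mathlib
import Cfsg.Agent.H990.TC.Univ
import Cfsg.Agent.H51.Tools

/-!
# Two commutators: central commutators and coprime reduction

* `comm_zpow_left`: `[a, b] = z` central implies `[a ^ k, b] = z ^ k`.
* `comm_of_pair`: central `p`-elements of a perfect group over a pair of commuting elements generating a subgroup of
  index prime to `p` are commutators.
* `two_of_quot`: `L / N` with all elements commutators, and all elements of the central subgroup `N` commutators.
* `comm_lift_coprime`: a commutator of order prime to the kernel lifts.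
-/

set_option autoImplicit false
set_option linter.unusedVariables false

namespace Cfsg.Agent.H990.TC

open Subgroup Cfsg.Agent.H51.Mult Cfsg.Agent.H51.Crit Cfsg.Agent.H68.Bounds
open scoped commutatorElement

universe u v w

section central

variable {L : Type u} [Group L]

theorem comm_zpow_left {a b z : L} (hz : ∀ g, z * g = g * z) (h : ⁅a, b⁆ = z) (k : ℤ) : ⁅a ^ k, b⁆ = z ^ k := by
  have h1 := zpow_swap hz (mul_comm_of_comm.1 h) k 1
  rw [zpow_one, mul_one] at h1
  exact mul_comm_of_comm.2 h1

theorem One.comm_iff : One L ↔ ∀ g : L, ∃ a b : L, ⁅a, b⁆ = g := by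
  simp only [One, commutatorElement_def]

/-- central elements that are commutators: the coprime part of a central commutator -/
theorem comm_part {a b z w : L} (hz : ∀ g, z * g = g * z) (hw : ∀ g, w * g = g * w) (h : ⁅a, b⁆ = z * w) {m n : ℕ}
    (hm : z ^ m = 1) (hn : w ^ n = 1) (hmn : Nat.Coprime m n) : ∃ c d : L, ⁅c, d⁆ = z := by
  have hzw : ∀ g, z * w * g = g * (z * w) := fun g => by
    rw [mul_assoc, hw g, ← mul_assoc, hz g, mul_assoc]
  obtain ⟨k, hk1, hk2⟩ := Nat.chineseRemainder hmn 1 0
  refine ⟨a ^ (k : ℤ), b, ?_⟩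
  rw [comm_zpow_left hzw h, zpow_natCast, (show Commute z w from hz w).mul_pow]
  have h1 : z ^ k = z := by
    have h2 : orderOf z ∣ m := orderOf_dvd_of_pow_eq_one hm
    have h3 : z ^ k = z ^ 1 := pow_eq_pow_iff_modEq.2 (hk1.of_dvd h2)
    rw [h3, pow_one]
  have h2 : w ^ k = 1 := by
    obtain ⟨j, hj⟩ := (Nat.modEq_zero_iff_dvd.1 hk2)
    rw [hj, pow_mul, hn, one_pow]
  rw [h1, h2, mul_one]

/-- If all elements of a quotient by a central subgroup `N` and all elements of `N` are commutators: `Two`. -/
theorem two_of_quot {L' : Type v} [Group L'] {q : L →* L'} (hq : Function.Surjective q) (hc : q.ker ≤ center L)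
    (h1 : One L') (h2 : ∀ z ∈ q.ker, ∃ a b : L, ⁅a, b⁆ = z) : Two L := by
  intro g
  obtain ⟨a', b', hab⟩ := h1 (q g)
  obtain ⟨a, rfl⟩ := hq a'
  obtain ⟨b, rfl⟩ := hq b'
  have h3 : (a * b * a⁻¹ * b⁻¹)⁻¹ * g ∈ q.ker := by
    rw [MonoidHom.mem_ker, map_mul, ← hab]
    simp only [map_mul, map_inv]
    group
  obtain ⟨c, d, hcd⟩ := h2 _ h3
  refine ⟨a, b, c, d, ?_⟩
  rw [← commutatorElement_def c d, hcd]
  group

end central

section pair

variable {L : Type u} {X : Type v} [Group L] [Group X] {π : L →* X}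

theorem pow_index_mem [Finite L] (hL : commutator L = ⊤) (H : Subgroup L) {z : L} (hz : z ∈ center L) (hzH : z ∈ H) :
    z ^ H.index ∈ ⁅H, H⁆ := by
  have h1 := Cfsg.Agent.Transfer.CentralTransfer.map_pow_index_eq_one_of_perfect hL (H := H) (Abelianization.of (G := H)) ⟨z, hzH⟩ hz
  rw [← map_pow] at h1
  have h2 : (⟨z, hzH⟩ : H) ^ H.index ∈ commutator H := by
    rw [← Abelianization.ker_of]
    exact h1
  have h3 : ((⟨z, hzH⟩ : H) ^ H.index : H).1 ∈ (commutator H).map H.subtype := ⟨_, h2, rfl⟩
  rw [_root_.commutator_def, Subgroup.map_commutator, ← MonoidHom.range_eq_map, Subgroup.range_subtype] at h3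
  exact h3

/-- the kernel elements of `p`-power order are commutators, if there is a commuting pair generating a subgroup of index
prime to `p` -/
theorem comm_of_pair [Finite L] (h : PCE π) {p : ℕ} (hp : p.Prime) {x y : X} (hxy : x * y = y * x)
    (hidx : ¬ p ∣ (closure {x, y} : Subgroup X).index) {z : L} (hz : π z = 1) {k : ℕ} (hk : z ^ p ^ k = 1) :
    ∃ a b : L, ⁅a, b⁆ = z := by
  obtain ⟨α, hα⟩ := h.surj x
  obtain ⟨β, hβ⟩ := h.surj y
  set κ := ⁅α, β⁆ with hκ
  have hk1 : π κ = 1 := by
    rw [hκ, map_commutatorElement, hα, hβ, commutatorElement_eq_one_iff_mul_comm, hxy]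
  have hkc := h.comm hk1
  have hS : ({x, y} : Set X) = π '' {α, β} := by rw [Set.image_pair, hα, hβ]
  have h7 := commutator_comap_le h (S := {α, β}) (M := zpowers κ) (by
    intro s _ m hm
    obtain ⟨j, rfl⟩ := mem_zpowers_iff.1 hm
    have h1 : Commute (κ ^ j) s := (show Commute κ s from hkc s).zpow_left j
    constructor
    · rw [← h1.eq, mul_inv_cancel_right]; exact hm
    · rw [mul_assoc, h1.eq, inv_mul_cancel_left]; exact hm) (by
    intro s hs t ht
    rcases hs with rfl | rfl <;> rcases ht with rfl | rfl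
    · rw [commutatorElement_self]; exact one_mem _
    · exact mem_zpowers _
    · rw [← commutatorElement_inv]; exact inv_mem (mem_zpowers _)
    · rw [commutatorElement_self]; exact one_mem _)
  rw [← hS] at h7
  have h8 := pow_index_mem h.perf ((closure {x, y} : Subgroup X).comap π) (h.cen (MonoidHom.mem_ker.2 hz))
    (by rw [mem_comap, hz]; exact one_mem _)
  obtain ⟨j, hj⟩ := mem_zpowers_iff.1 (h7 h8)
  have hi : ((closure {x, y} : Subgroup X).comap π).index = (closure {x, y} : Subgroup X).index :=
    Subgroup.index_comap_of_surjective _ h.surj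
  rw [hi] at hj
  have hcop : Nat.Coprime (closure {x, y} : Subgroup X).index (p ^ k) :=
    ((Nat.Prime.coprime_iff_not_dvd hp).2 hidx).symm.pow_right k
  obtain ⟨m, hm⟩ := exists_pow_eq_self_of_coprime (n := (closure {x, y} : Subgroup X).index) (x := z) (by
    exact hcop.coprime_dvd_right (orderOf_dvd_of_pow_eq_one hk))
  refine ⟨α ^ (j * m), β, ?_⟩
  rw [comm_zpow_left hkc hκ.symm, zpow_mul, hj, zpow_natCast, hm]

end pair

end Cfsg.Agent.H990.TC
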