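import Mathlib
import Cfsg.Agent.H990.TC.Coprime
import Cfsg.Agent.S2493
import Cfsg.Agent.S2116
import Cfsg.Agent.S0892

/-!
# Two commutators in the covers of the alternating groups
-/

set_option autoImplicit false
set_option linter.unusedVariables false

namespace Cfsg.Agent.H990.TC

open Subgroup Equiv Cfsg.Agent.H51.Mult Cfsg.Agent.H51.Crit Cfsg.Agent.H68.Bounds
open scoped commutatorElement

universe u v w

theorem one_alt {n : ℕ} (hn : 5 ≤ n) : One (alternatingGroup (Fin n)) := by
  rintro ⟨g, hg⟩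
  obtain ⟨a, b, ha, hb, hab, -⟩ := Cfsg.Agent.H155.AltComm.exists_comm (α := Fin n) (by rw [Fintype.card_fin]; exact hn)
    (Perm.mem_alternatingGroup.1 hg)
  exact ⟨⟨a, Perm.mem_alternatingGroup.2 ha⟩, ⟨b, Perm.mem_alternatingGroup.2 hb⟩, Subtype.ext hab⟩

theorem center_alt {n : ℕ} (hn : 5 ≤ n) : center (alternatingGroup (Fin n)) = ⊥ := by
  have hs : IsSimpleGroup (alternatingGroup (Fin n)) := alternatingGroup.isSimpleGroup (by
    rw [Nat.card_eq_fintype_card, Fintype.card_fin]; exact hn)
  rcases hs.eq_bot_or_eq_top_of_normal (center (alternatingGroup (Fin n))) inferInstance with h | h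
  · exact h
  · exfalso
    have h1 : ∀ x y : alternatingGroup (Fin n), x * y = y * x := fun x y => by
      have : y ∈ center (alternatingGroup (Fin n)) := by rw [h]; exact mem_top _
      exact mem_center_iff.1 this x
    obtain ⟨m, rfl⟩ := Nat.exists_eq_add_of_le hn
    have := alternatingGroup.center_eq_bot (α := Fin (5 + m)) (by
      rw [Nat.card_eq_fintype_card, Fintype.card_fin]; omega)
    rw [this] at h
    have h2 : (⊤ : Subgroup (alternatingGroup (Fin (5 + m)))) ≠ ⊥ := top_ne_bot
    exact h2 h.symm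

/-- the centre of a perfect central extension of a centreless group -/
theorem ker_eq_center {L : Type u} {X : Type v} [Group L] [Group X] {π : L →* X} (h : PCE π) (hX : center X = ⊥) :
    π.ker = center L := by
  refine le_antisymm h.cen fun z hz => ?_
  rw [MonoidHom.mem_ker]
  have h1 : π z ∈ center X := by
    rw [mem_center_iff]
    intro x
    obtain ⟨g, rfl⟩ := h.surj x
    rw [← map_mul, ← map_mul, mem_center_iff.1 hz g]
  rw [hX] at h1
  exact h1

/-- the covers of `A_n` with kernel of order at most two -/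
theorem one_of_two {n : ℕ} (hn : 5 ≤ n) {L : Type u} [Group L] [Finite L] {π : L →* alternatingGroup (Fin n)}
    (h : PCE π) (h2 : Nat.card π.ker ∣ 2) : One L := by
  rcases (Nat.dvd_prime Nat.prime_two).1 h2 with h3 | h3
  · have h4 : Function.Injective π := by
      rw [← MonoidHom.ker_eq_bot_iff]; exact Subgroup.eq_bot_of_card_eq _ h3
    let e : L ≃* alternatingGroup (Fin n) := MulEquiv.ofBijective π ⟨h4, h.surj⟩
    exact (one_alt hn).of_surj e.symm.toMonoidHom e.symm.surjective
  · have hk := ker_eq_center h (center_alt hn)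
    rw [hk] at h3
    let e : L ⧸ center L ≃* alternatingGroup (Fin n) :=
      (QuotientGroup.quotientMulEquivOfEq hk.symm).trans (QuotientGroup.quotientKerEquivOfSurjective π h.surj)
    intro g
    exact Cfsg.Agent.S2493.result h.perf hn h3 e g

/-- **the generic alternating row** -/
theorem row_alt_generic {n : ℕ} (hn : 5 ≤ n) (h6 : n ≠ 6) (h7 : n ≠ 7) : Row.{u} (alternatingGroup (Fin n)) := by
  intro L _ _ π h
  refine One.two (one_of_two hn h ?_)
  have h1 := Cfsg.Agent.S0892.result n (by omega) h6 h7 π.ker h.cen (by rw [h.perf]; exact le_top)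
    (QuotientGroup.quotientKerEquivOfSurjective π h.surj)
  have h2 : 0 < Nat.card π.ker := Nat.card_pos
  interval_cases h5 : Nat.card π.ker
  · exact one_dvd _
  · exact dvd_refl _

/-- the 3-torsion of the kernel -/
theorem row_of_six {X : Type v} [Group X] [Finite X] (hm : Cfsg.HasCyclicSchurMultiplier X 6)
    (h2 : ∀ (L : Type u) [Group L] [Finite L] (π : L →* X), PCE π → Nat.card π.ker ∣ 2 → One L)
    {x y : X} (hxy : x * y = y * x) (hidx : ¬ 3 ∣ (closure {x, y} : Subgroup X).index) : Row.{u} X := by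
  intro L _ _ π h
  obtain ⟨hc, hd⟩ := ker_of_hasCyclic hm h
  obtain ⟨z, hz⟩ := hc.exists_generator
  have hz6 : (z : L) ^ 6 = 1 := by
    obtain ⟨k, hk⟩ := hd
    have h1 : z ^ 6 = 1 := by rw [hk, pow_mul, pow_card_eq_one', one_pow]
    have := congrArg Subtype.val h1
    simpa using this
  have hN : zpowers ((z : L) ^ 2) ≤ π.ker := by
    rw [zpowers_le]; exact pow_mem z.2 2
  obtain ⟨L', _, q, ρ, hq, hk, hρ, h1⟩ := h.quot hN
  haveI : Finite L' := Finite.of_surjective q hq
  refine two_of_quot hq (hk ▸ hN.trans h.cen) (h2 L' ρ h1 ?_) ?_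
  · have h3 : ∀ w ∈ ρ.ker, w ∈ zpowers (q z) := by
      intro w hw
      obtain ⟨v, rfl⟩ := hq w
      have hv : v ∈ π.ker := by rw [MonoidHom.mem_ker, ← hρ]; exact hw
      obtain ⟨j, hj⟩ := mem_zpowers_iff.1 (hz ⟨v, hv⟩)
      rw [mem_zpowers_iff]
      refine ⟨j, ?_⟩
      rw [← map_zpow]
      congr 1
      have := congrArg Subtype.val hj
      simpa using this
    have h4 : (q z) ^ 2 = 1 := by
      rw [← map_pow]
      have : (z : L) ^ 2 ∈ q.ker := by rw [hk]; exact mem_zpowers _
      exact this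
    have h5 : Nat.card ρ.ker ∣ Nat.card (zpowers (q (z : L))) := Subgroup.card_dvd_of_le h3
    rw [Nat.card_zpowers] at h5
    exact h5.trans (orderOf_dvd_of_pow_eq_one h4)
  · intro w hw
    rw [hk] at hw
    obtain ⟨j, rfl⟩ := mem_zpowers_iff.1 hw
    refine comm_of_pair h Nat.prime_three hxy hidx (k := 1) ?_ ?_
    · have : (z : L) ^ 2 ∈ π.ker := pow_mem z.2 2
      exact zpow_mem this j
    · rw [pow_one, ← zpow_natCast, ← zpow_mul, mul_comm, zpow_mul, zpow_natCast, ← pow_mul, hz6, one_zpow]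

/-- a pair of commuting elements of order three -/
def ThreePair {X : Type v} [Group X] (x y : X) : Prop :=
  x ^ 3 = 1 ∧ y ^ 3 = 1 ∧ x * y = y * x ∧ x ≠ 1 ∧ y ≠ 1 ∧ y ≠ x ∧ y ≠ x ^ 2

theorem ThreePair.not_dvd {X : Type v} [Group X] [Finite X] {x y : X} (h : ThreePair x y)
    (hX : ¬ 3 ^ 3 ∣ Nat.card X) : ¬ 3 ∣ (closure {x, y} : Subgroup X).index := by
  obtain ⟨k1, k2, k3, k4, k5, k6, k7⟩ := h
  refine Cfsg.Agent.H51.Tools.not_dvd_index_sq Nat.prime_three k1 k2 k3 k4 ?_ hX
  intro h
  obtain ⟨j, hj⟩ := (Submonoid.mem_powers_iff _ _).1 (mem_powers_iff_mem_zpowers.2 h)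
  have h3 : x ^ j = x ^ (j % 3) := by
    conv_lhs => rw [← Nat.div_add_mod j 3, pow_add, pow_mul, k1, one_pow, one_mul]
  rw [h3] at hj
  have h4 : j % 3 < 3 := Nat.mod_lt _ (by norm_num)
  interval_cases j % 3
  · exact k5 (by rw [← hj, pow_zero])
  · exact k6 (by rw [← hj, pow_one])
  · exact k7 hj.symm

theorem row_alt_six : Row.{u} (alternatingGroup (Fin 6)) := by
  have key : ThreePair (X := alternatingGroup (Fin 6))
      ⟨swap 0 1 * swap 1 2, Perm.mem_alternatingGroup.2 (by decide)⟩
      ⟨swap 3 4 * swap 4 5, Perm.mem_alternatingGroup.2 (by decide)⟩ := by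
    unfold ThreePair; decide
  refine row_of_six (Cfsg.Agent.S2116.result 6 (Or.inl rfl))
    (fun L _ _ π h h2 => one_of_two (by norm_num) h h2) key.2.2.1 (key.not_dvd ?_)
  rw [nat_card_alternatingGroup, Nat.card_eq_fintype_card, Fintype.card_fin]; decide

theorem row_alt_seven : Row.{u} (alternatingGroup (Fin 7)) := by
  have key : ThreePair (X := alternatingGroup (Fin 7))
      ⟨swap 0 1 * swap 1 2, Perm.mem_alternatingGroup.2 (by decide)⟩
      ⟨swap 3 4 * swap 4 5, Perm.mem_alternatingGroup.2 (by decide)⟩ := by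
    unfold ThreePair; decide
  refine row_of_six (Cfsg.Agent.S2116.result 7 (Or.inr rfl))
    (fun L _ _ π h h2 => one_of_two (by norm_num) h h2) key.2.2.1 (key.not_dvd ?_)
  rw [nat_card_alternatingGroup, Nat.card_eq_fintype_card, Fintype.card_fin]; decide

/-- **the alternating row** -/
theorem row_alt {n : ℕ} (hn : 5 ≤ n) : Row.{u} (alternatingGroup (Fin n)) := by
  by_cases h6 : n = 6
  · subst h6; exact row_alt_six
  by_cases h7 : n = 7
  · subst h7; exact row_alt_seven
  exact row_alt_generic hn h6 h7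

end Cfsg.Agent.H990.TC
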