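import Mathlib
import Cfsg.Agent.H990.TC.Univ
import Cfsg.Agent.H990.TC.RowAlt
import Cfsg.Agent.S2444
import Cfsg.Agent.S2445
import Cfsg.Agent.H60.MultA
import Cfsg.Agent.H62.SpMult
import Cfsg.Agent.S0252
import Cfsg.Agent.S0254
import Cfsg.Agent.S0255
import Cfsg.Agent.S0256

/-!
# Two commutators in the covers of the linear and symplectic groups (without `L3(4)` and `Sp6(2)`)
-/

set_option autoImplicit false
set_option linter.unusedVariables false

namespace Cfsg.Agent.H990.TC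

open Subgroup Cfsg.Agent.H51.Mult Cfsg.Agent.H68.Bounds

universe u v w

variable {F : Type v} [Field F] [Fintype F]

theorem perf_of_one {G : Type u} [Group G] (h : One G) : commutator G = ⊤ := by
  rw [eq_top_iff]
  intro g _
  obtain ⟨a, b, rfl⟩ := h g
  exact commutator_mem_commutator (mem_top a) (mem_top b)

theorem one_SL {n : ℕ} (hn : 2 ≤ n) (hex : n = 2 → 4 ≤ Fintype.card F) : One (Matrix.SpecialLinearGroup (Fin n) F) :=
  fun g => by
    obtain ⟨a, b, h⟩ := Cfsg.Agent.S2444.result (F := F) n hn hex g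
    exact ⟨a, b, h.symm⟩

theorem pce_mk {G : Type u} [Group G] (h : commutator G = ⊤) : PCE (QuotientGroup.mk' (center G)) :=
  ⟨QuotientGroup.mk'_surjective _, by rw [QuotientGroup.ker_mk'], h⟩

theorem row_psl_generic {n : ℕ} (h : Cfsg.Agent.H60.MultA.Ok n (Nat.card F)) :
    Row.{u} (Matrix.ProjectiveSpecialLinearGroup (Fin n) F) := by
  have h1 : One (Matrix.SpecialLinearGroup (Fin n) F) := one_SL h.two (fun h2 => by
    rw [← Nat.card_eq_fintype_card]; exact h.four h2)
  exact row_of_trivial (pce_mk (perf_of_one h1)) (Cfsg.Agent.H60.MultA.hasTrivial_SL h) h1.two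

/-- **the linear row** without `L3(4)` -/
theorem row_psl {n : ℕ} (hn : 2 ≤ n) (h2 : n = 2 → 4 ≤ Fintype.card F) (h34 : ¬ (n = 3 ∧ Fintype.card F = 4)) :
    Row.{u} (Matrix.ProjectiveSpecialLinearGroup (Fin n) F) := by
  have hc : Nat.card F = Fintype.card F := Nat.card_eq_fintype_card
  by_cases h24 : n = 2 ∧ Fintype.card F = 4
  · obtain ⟨rfl, hF⟩ := h24
    obtain ⟨e⟩ := Cfsg.Agent.S0252.result hF
    exact Row.congr e.symm (row_alt (by norm_num))
  by_cases h29 : n = 2 ∧ Fintype.card F = 9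
  · obtain ⟨rfl, hF⟩ := h29
    obtain ⟨e⟩ := Cfsg.Agent.S0254.result hF
    exact Row.congr e.symm (row_alt (by norm_num))
  by_cases h32 : n = 3 ∧ Fintype.card F = 2
  · obtain ⟨rfl, hF⟩ := h32
    haveI : Fact (Nat.Prime 7) := ⟨by norm_num⟩
    obtain ⟨e⟩ := Cfsg.Agent.S0255.result (F := ZMod 7) (K := F) (ZMod.card 7) hF
    refine Row.congr e (row_psl_generic ⟨by norm_num, fun _ => ?_, ?_⟩)
    · rw [Nat.card_zmod]; norm_num
    · rw [Nat.card_zmod]; simp
  by_cases h42 : n = 4 ∧ Fintype.card F = 2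
  · obtain ⟨rfl, hF⟩ := h42
    obtain ⟨e⟩ := Cfsg.Agent.S0256.result hF
    exact Row.congr e.symm (row_alt (by norm_num))
  refine row_psl_generic ⟨hn, by rwa [hc], ?_⟩
  rw [hc]
  simp only [Set.mem_insert_iff, Set.mem_singleton_iff, Prod.mk.injEq, not_or]
  exact ⟨h24, h29, h32, h34, h42⟩

/-- **the symplectic row** without `Sp6(2)` -/
theorem row_psp {m : ℕ} (hm : 2 ≤ m) (h2 : m = 2 → 3 ≤ Fintype.card F) (hexc : ¬ (m = 3 ∧ Fintype.card F = 2)) :
    Row.{u} (Cfsg.PSp m F) := by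
  have h1 : One (Matrix.symplecticGroup (Fin m) F) := fun g => by
    obtain ⟨a, b, h⟩ := Cfsg.Agent.S2445.result (F := F) m (by omega) (fun h => by omega) h2 g
    exact ⟨a, b, h.symm⟩
  exact row_of_trivial (pce_mk (perf_of_one h1)) (Cfsg.Agent.H62.SpMult.hasTrivial_Sp hm h2 hexc) h1.two

end Cfsg.Agent.H990.TC
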