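import Mathlib
import Cfsg.Agent.H253.TwoComm.Base
import Cfsg.Agent.H990.TC.RowLin
import Cfsg.Agent.S2392
import Cfsg.Agent.S0249

/-!
# Degrees of representations of the covers of the linear groups
-/

set_option autoImplicit false
set_option linter.unusedVariables false

namespace Cfsg.Agent.H990.TC

open Subgroup Cfsg.Agent.H51.Mult Cfsg.Agent.H68.Bounds
open Cfsg.Agent.H253.TC (PD)
open scoped commutatorElement

universe u v w

/-- a proper normal subgroup of a quasisimple group is central -/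
theorem le_center_or_top {G : Type u} [Group G] (hp : commutator G = ⊤) (hs : IsSimpleGroup (G ⧸ center G))
    (N : Subgroup G) [hN : N.Normal] : N ≤ center G ∨ N = ⊤ := by
  have h1 : (N.map (QuotientGroup.mk' (center G))).Normal := hN.map _ (QuotientGroup.mk'_surjective _)
  rcases hs.eq_bot_or_eq_top_of_normal _ h1 with h2 | h2
  · left
    intro x hx
    have h3 : QuotientGroup.mk' (center G) x ∈ N.map (QuotientGroup.mk' (center G)) := ⟨x, hx, rfl⟩
    rw [h2, mem_bot] at h3
    exact (QuotientGroup.eq_one_iff x).1 h3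
  · right
    have h4 : ∀ g : G, ∃ n ∈ N, ∃ z ∈ center G, g = n * z := by
      intro g
      have h3 : QuotientGroup.mk' (center G) g ∈ N.map (QuotientGroup.mk' (center G)) := by rw [h2]; exact mem_top _
      obtain ⟨n, hn, hng⟩ := h3
      refine ⟨n, hn, n⁻¹ * g, ?_, by group⟩
      rw [← QuotientGroup.eq]
      exact hng
    rw [eq_top_iff, ← hp, _root_.commutator_def, commutator_le]
    intro a _ b _
    obtain ⟨n, hn, z, hz, rfl⟩ := h4 a
    obtain ⟨m, hm, w, hw, rfl⟩ := h4 b
    have hz' := mem_center_iff.1 hz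
    have hw' := mem_center_iff.1 hw
    have : ⁅n * z, m * w⁆ = ⁅n, m⁆ := by
      rw [commutatorElement_def, commutatorElement_def]
      calc n * z * (m * w) * (n * z)⁻¹ * (m * w)⁻¹ = n * (z * (m * w)) * z⁻¹ * n⁻¹ * (m * w)⁻¹ := by group
        _ = n * ((m * w) * z) * z⁻¹ * n⁻¹ * (m * w)⁻¹ := by rw [hz']
        _ = n * m * (w * n⁻¹) * w⁻¹ * m⁻¹ := by group
        _ = n * m * (n⁻¹ * w) * w⁻¹ * m⁻¹ := by rw [hw']
        _ = n * m * n⁻¹ * m⁻¹ := by group
    rw [this, commutatorElement_def]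
    exact mul_mem (mul_mem (mul_mem hn hm) (inv_mem hn)) (inv_mem hm)

theorem perf_SL {F : Type v} [Field F] [Fintype F] {n : ℕ} (hn : 2 ≤ n) (hex : n = 2 → 4 ≤ Fintype.card F) :
    commutator (Matrix.SpecialLinearGroup (Fin n) F) = ⊤ := perf_of_one (one_SL hn hex)

/-- degrees of `SL_n(q)` itself -/
theorem deg_SL {F : Type v} [Field F] [Fintype F] {n : ℕ} (hn : 3 ≤ n) {d : ℕ}
    (ρ : Representation ℂ (Matrix.SpecialLinearGroup (Fin n) F) (Fin d → ℂ)) (hρ : ∃ g, ρ g ≠ 1) :
    Fintype.card F ^ (n - 1) - 1 ≤ d := by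
  let f : Matrix.SpecialLinearGroup (Fin n) F →* GL (Fin d) ℂ :=
    (Matrix.GeneralLinearGroup.toLin (n := Fin d) (R := ℂ)).symm.toMonoidHom.comp ρ.asGroupHom
  have hker : ∀ x, f x = 1 ↔ ρ x = 1 := by
    intro x
    constructor
    · intro h
      have h1 : ρ.asGroupHom x = 1 := by
        apply (Matrix.GeneralLinearGroup.toLin (n := Fin d) (R := ℂ)).symm.injective
        rw [map_one]; exact h
      rw [← Representation.asGroupHom_apply ρ x, h1, Units.val_one]
    · intro h
      have h1 : ρ.asGroupHom x = 1 := by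
        apply Units.ext
        rw [Representation.asGroupHom_apply, h, Units.val_one]
      show (Matrix.GeneralLinearGroup.toLin (n := Fin d) (R := ℂ)).symm (ρ.asGroupHom x) = 1
      rw [h1, map_one]
  have hs : IsSimpleGroup (Matrix.SpecialLinearGroup (Fin n) F ⧸ center (Matrix.SpecialLinearGroup (Fin n) F)) :=
    Cfsg.Agent.S0249.result n hn
  rcases le_center_or_top (perf_SL (F := F) (n := n) (by omega) (fun h => by omega)) hs f.ker with h | h
  · refine Cfsg.Agent.S2392.result rfl n hn ?_ f h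
    rw [ringChar.eq_zero (R := ℂ)]
    exact fun h0 => CharP.ringChar_ne_zero_of_finite F h0.symm
  · exfalso
    obtain ⟨g, hg⟩ := hρ
    exact hg ((hker g).1 (by
      have : g ∈ f.ker := by rw [h]; exact mem_top g
      exact this))

/-- **degrees of the covers of `SL_n(q)`** -/
theorem pd_SL {F : Type v} [Field F] [Fintype F] {n : ℕ} (hn : 3 ≤ n) (h : Cfsg.Agent.H60.MultA.Ok n (Nat.card F)) :
    PD (Matrix.SpecialLinearGroup (Fin n) F) (Fintype.card F ^ (n - 1) - 1) := by
  intro L _ _ π hπ d ρ hρ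
  have h1 := (ker_of_hasCyclic (Cfsg.Agent.H60.MultA.hasTrivial_SL h) hπ).2
  have h2 : Function.Injective π := by
    rw [← MonoidHom.ker_eq_bot_iff]
    exact Subgroup.eq_bot_of_card_eq _ (Nat.dvd_one.1 h1)
  let e : L ≃* Matrix.SpecialLinearGroup (Fin n) F := MulEquiv.ofBijective π ⟨h2, hπ.surj⟩
  refine deg_SL hn (ρ.comp e.symm.toMonoidHom) ?_
  obtain ⟨g, hg⟩ := hρ
  exact ⟨e g, by
    show ρ (e.symm (e g)) ≠ 1
    rwa [e.symm_apply_apply]⟩

end Cfsg.Agent.H990.TC
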