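import Mathlib
import Cfsg.Agent.H990.TC.CentDec
import Cfsg.Agent.LieClassical.OmegaCenter
import Cfsg.Agent.LieClassical.PomegaCard
import Cfsg.Prelude.Def_Classical

/-!
# Elements of `PΩ(Q)` with small centralizers
-/

set_option autoImplicit false
set_option linter.unusedVariables false
set_option linter.unusedSectionVars false

namespace Cfsg.Agent.H990.TC.OrthCent

open Subgroup Module QuadraticMap

/-- centralizers in a quotient by a central subgroup of order prime to the order of the element -/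
theorem card_cent_quot {G : Type*} [Group G] [Finite G] {Z : Subgroup G} [Z.Normal] (hZ : Z ≤ center G) {x : G}
    {r : ℕ} (hx : x ^ r = 1) (hcop : ∀ z ∈ Z, z ^ r = 1 → z = 1) :
    Nat.card (centralizer ({(QuotientGroup.mk' Z x)} : Set (G ⧸ Z))) * Nat.card Z =
      Nat.card (centralizer ({x} : Set G)) := by
  have h1 : (centralizer ({(QuotientGroup.mk' Z x)} : Set (G ⧸ Z))).comap (QuotientGroup.mk' Z) =
      centralizer ({x} : Set G) := by
    ext g
    rw [mem_comap, mem_centralizer_singleton_iff, mem_centralizer_singleton_iff]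
    constructor
    · intro h
      have h2 : (x * g)⁻¹ * (g * x) ∈ Z := by
        rw [← QuotientGroup.eq]
        have h3 : QuotientGroup.mk' Z (x * g) = QuotientGroup.mk' Z (g * x) := by rw [map_mul, map_mul, h]
        exact h3
      set z := (x * g)⁻¹ * (g * x) with hz
      have hgz : g * x = x * g * z := by rw [hz]; group
      have hzc : ∀ y, y * z = z * y := mem_center_iff.1 (hZ h2)
      have hgx : g * x * g⁻¹ = x * z := by
        rw [hgz, mul_assoc x g z, hzc g]; group
      have h4 : (g * x * g⁻¹) ^ r = 1 := by rw [conj_pow, hx, mul_one, mul_inv_cancel]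
      rw [hgx, (show Commute x z from hzc x).mul_pow, hx, one_mul] at h4
      rw [hgz, hcop z h2 h4, mul_one]
    · intro h
      rw [← map_mul, ← map_mul, h]
  have h2 : ((centralizer ({(QuotientGroup.mk' Z x)} : Set (G ⧸ Z))).comap (QuotientGroup.mk' Z)).index =
      (centralizer ({(QuotientGroup.mk' Z x)} : Set (G ⧸ Z))).index :=
    Subgroup.index_comap_of_surjective _ (QuotientGroup.mk'_surjective Z)
  have h3 := Subgroup.card_mul_index ((centralizer ({(QuotientGroup.mk' Z x)} : Set (G ⧸ Z))).comap (QuotientGroup.mk' Z))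
  have h4 := Subgroup.card_mul_index (centralizer ({(QuotientGroup.mk' Z x)} : Set (G ⧸ Z)))
  have h5 := Subgroup.card_eq_card_quotient_mul_card_subgroup Z
  rw [h2, h1] at h3
  have h6 : 0 < (centralizer ({(QuotientGroup.mk' Z x)} : Set (G ⧸ Z))).index := Nat.pos_of_ne_zero
    Subgroup.index_ne_zero_of_finite
  apply Nat.eq_of_mul_eq_mul_right h6
  rw [h3, h5, ← h4]
  ring

variable {F : Type*} [Field F] [Fintype F] {ι : Type} [Fintype ι] [DecidableEq ι]

/-- the linear map of an isometry -/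
def T (Q : (ι → F) → F) : Cfsg.isometryGroup F Q →* Module.End F (ι → F) :=
  (Matrix.toLinAlgEquiv' : Matrix ι ι F ≃ₐ[F] Module.End F (ι → F)).toMonoidHom.comp
    ((Units.coeHom (Matrix ι ι F)).comp (Cfsg.isometryGroup F Q).subtype)

theorem T_injective (Q : (ι → F) → F) : Function.Injective (T (F := F) Q) := by
  intro a b h
  apply Subtype.ext
  apply Units.ext
  exact (Matrix.toLinAlgEquiv' : Matrix ι ι F ≃ₐ[F] Module.End F (ι → F)).injective h

theorem T_isom (Q : (ι → F) → F) (x : Cfsg.isometryGroup F Q) (v : ι → F) : Q (T Q x v) = Q v := by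
  have h := x.2
  exact x.2 v v

theorem card_cent_le (Q : QuadraticForm F (ι → F)) (x : Cfsg.isometryGroup F (⇑Q)) :
    Nat.card (centralizer ({x} : Set (Cfsg.isometryGroup F (⇑Q)))) ≤
      Nat.card {y : Module.End F (ι → F) // Commute (T (⇑Q) x) y ∧ ∀ v, Q (y v) = Q v} := by
  let g : centralizer ({x} : Set (Cfsg.isometryGroup F (⇑Q))) →
      {y : Module.End F (ι → F) // Commute (T (⇑Q) x) y ∧ ∀ v, Q (y v) = Q v} := fun y =>
    ⟨T (⇑Q) y.1, by
      have h := mem_centralizer_singleton_iff.1 y.2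
      show T (⇑Q) x * T (⇑Q) y.1 = T (⇑Q) y.1 * T (⇑Q) x
      rw [← map_mul, ← map_mul, h], T_isom _ y.1⟩
  refine Nat.card_le_card_of_injective g fun a b h => ?_
  apply Subtype.ext
  exact T_injective _ (congrArg Subtype.val h)

/-- **main lemma**: an element of `PΩ(Q)` with small centralizer -/
theorem exists_elt (Q : QuadraticForm F (ι → F)) (hQ : (polarBilin Q).Nondegenerate) (hn : 3 ≤ Fintype.card ι)
    (hs : ∃ u : ι → F, u ≠ 0 ∧ Q u = 0) {i : ℕ} (hi : (Cfsg.Omega F (⇑Q)).index = 2 ^ i) {r : ℕ} (hr : r.Prime)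
    (hr2 : r ≠ 2) (hd : r ∣ Nat.card (Cfsg.isometryGroup F (⇑Q))) {N : ℕ}
    (hN : ∀ x : Module.End F (ι → F), x ≠ 1 → x ^ r = 1 → (∀ v, Q (x v) = Q v) →
      Nat.card {y : Module.End F (ι → F) // Commute x y ∧ ∀ v, Q (y v) = Q v} ≤ N) :
    ∃ m : Cfsg.POmega F (⇑Q), Nat.card (centralizer ({m} : Set (Cfsg.POmega F (⇑Q)))) *
      Nat.card (center (Cfsg.Omega F (⇑Q))) ≤ N := by
  haveI : Fact r.Prime := ⟨hr⟩
  haveI : Finite (Cfsg.isometryGroup F (⇑Q)) := inferInstance
  obtain ⟨x, hx⟩ := exists_prime_orderOf_dvd_card' r hd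
  have hxr : x ^ r = 1 := by rw [← hx]; exact pow_orderOf_eq_one x
  have hx1 : x ≠ 1 := by
    rintro rfl
    rw [orderOf_one] at hx
    exact hr.one_lt.ne hx
  -- `x ∈ Ω`
  have hxO : x ∈ Cfsg.Omega F (⇑Q) := by
    have h1 : x ^ (2 ^ i) ∈ Cfsg.Omega F (⇑Q) := by rw [← hi]; exact Subgroup.pow_index_mem _ _
    have hcop : Nat.Coprime (2 ^ i) (orderOf x) := by
      rw [hx]; exact ((Nat.coprime_primes Nat.prime_two hr).2 (Ne.symm hr2)).pow_left i
    obtain ⟨m, hm⟩ := exists_pow_eq_self_of_coprime hcop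
    rw [← hm]
    exact pow_mem h1 m
  set y : Cfsg.Omega F (⇑Q) := ⟨x, hxO⟩ with hy
  have hyr : y ^ r = 1 := Subtype.ext hxr
  refine ⟨QuotientGroup.mk' (center (Cfsg.Omega F (⇑Q))) y, ?_⟩
  have h1 := card_cent_quot (Z := center (Cfsg.Omega F (⇑Q))) le_rfl hyr (by
    intro z hz hzr
    have h2 : z ^ 2 = 1 := by
      apply Cfsg.Agent.LieClassical.OmegaCenter.omega_ext
      change Cfsg.Agent.LieClassical.OmegaCenter.omegaMat z ^ 2 = 1
      rcases (Cfsg.Agent.LieClassical.OmegaCenter.mem_center_omega_iff Q hQ hn hs z).1 hz with h | h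
      · rw [h, one_pow]
      · rw [h, neg_one_sq]
    have h3 : orderOf z ∣ Nat.gcd 2 r := Nat.dvd_gcd (orderOf_dvd_of_pow_eq_one h2) (orderOf_dvd_of_pow_eq_one hzr)
    rw [(Nat.coprime_primes Nat.prime_two hr).2 (Ne.symm hr2)] at h3
    exact orderOf_eq_one_iff.1 (Nat.dvd_one.1 h3))
  rw [h1]
  -- into the isometry group
  let g : centralizer ({y} : Set (Cfsg.Omega F (⇑Q))) → centralizer ({x} : Set (Cfsg.isometryGroup F (⇑Q))) := fun a =>
    ⟨a.1.1, by
      rw [mem_centralizer_singleton_iff]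
      exact congrArg Subtype.val (mem_centralizer_singleton_iff.1 a.2)⟩
  have hg : Function.Injective g := by
    intro a b h
    have h1 : a.1.1 = b.1.1 := congrArg (fun t : centralizer ({x} : Set (Cfsg.isometryGroup F (⇑Q))) => t.1) h
    exact Subtype.ext (Subtype.ext h1)
  refine (Nat.card_le_card_of_injective g hg).trans ((card_cent_le Q x).trans (hN _ ?_ ?_ ?_))
  · intro h
    apply hx1
    apply T_injective (⇑Q)
    rw [h, map_one]
  · rw [← map_pow, hxr, map_one]
  · exact T_isom _ x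

end Cfsg.Agent.H990.TC.OrthCent
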