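import Mathlib
import Cfsg.Agent.H990.TC.OrthCent
import Cfsg.Agent.H990.TC.PDLin
import Cfsg.Agent.H253.TwoComm.Crit
import Cfsg.Agent.H253.TwoComm.Deg
import Cfsg.Agent.H104.OrthEmb
import Cfsg.Agent.H376.WordEmb
import Cfsg.Agent.S2904
import Cfsg.Agent.S0286
import Cfsg.Agent.S0287
import Cfsg.Agent.S0288
import Cfsg.Agent.S0788
import Cfsg.Agent.S0789
import Cfsg.Agent.S0790
import Cfsg.Agent.S0791
import Cfsg.Agent.S0295
import Cfsg.Agent.S0296
import Cfsg.Agent.S0297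
import Cfsg.Agent.LieClassical.OrthCenter
import Cfsg.Agent.LieClassical.QuadForms
import Cfsg.Agent.ClassicalGeometry.OmegaIndex

/-!
# Two commutators in the covers of the orthogonal groups: general part
-/

set_option autoImplicit false
set_option linter.unusedVariables false
set_option linter.unusedSectionVars false

namespace Cfsg.Agent.H990.TC.OrthRow

open Subgroup Module QuadraticMap Cfsg.Agent.H253.TC Cfsg.Agent.H990.TC.OrthCent Cfsg.Agent.H51.Mult

/-- primitive prime divisors -/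
theorem exists_prim {q k : ℕ} (hq : 2 ≤ q) (hk : 2 ≤ k) (h6 : ¬ (q = 2 ∧ k = 3)) :
    ∃ r : ℕ, r.Prime ∧ r ≠ 2 ∧ orderOf ((q : ℕ) : ZMod r) = 2 * k ∧ r ∣ q ^ k + 1 ∧ ¬ r ∣ q := by
  obtain ⟨r, hr, hd, hn⟩ := Cfsg.Agent.S2904.result q (2 * k) (by omega) (by omega)
    (fun h => h6 ⟨h.1, by omega⟩) (fun h => by omega)
  haveI : Fact r.Prime := ⟨hr⟩
  have hpos : ∀ j : ℕ, 1 ≤ q ^ j := fun j => Nat.one_le_pow _ _ (by omega)
  have hiff : ∀ j : ℕ, ((q : ℕ) : ZMod r) ^ j = 1 ↔ r ∣ q ^ j - 1 := by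
    intro j
    rw [← Nat.cast_pow, ← Nat.cast_one, ZMod.natCast_eq_natCast_iff, Nat.ModEq.comm,
      Nat.modEq_iff_dvd' (hpos j)]
  have hord : orderOf ((q : ℕ) : ZMod r) = 2 * k := by
    rw [orderOf_eq_iff (by omega)]
    exact ⟨(hiff _).2 hd, fun m hm hm0 h => hn m hm0 hm ((hiff m).1 h)⟩
  have h1 : ¬ r ∣ q ^ k - 1 := hn k (by omega) (by omega)
  have h2 : r ∣ q ^ k + 1 := by
    have h3 : q ^ (2 * k) - 1 = (q ^ k + 1) * (q ^ k - 1) := by
      rw [mul_comm 2 k, pow_mul]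
      have := Nat.sq_sub_sq (q ^ k) 1
      rwa [one_pow] at this
    rw [h3] at hd
    exact (hr.dvd_mul.1 hd).resolve_right h1
  refine ⟨r, hr, ?_, hord, h2, ?_⟩
  · rintro rfl
    have h3 : orderOf ((q : ℕ) : ZMod 2) ≤ 1 := by
      have : ∀ a : ZMod 2, orderOf a ≤ 1 := by
        intro a
        fin_cases a
        · show orderOf (0 : ZMod 2) ≤ 1
          rw [orderOf_zero]; norm_num
        · show orderOf (1 : ZMod 2) ≤ 1
          rw [orderOf_one]
      exact this _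
    omega
  · intro h
    have h3 : r ∣ q ^ k := dvd_pow h (by omega)
    have h4 : r ∣ 1 := (Nat.dvd_add_right h3).1 h2
    exact hr.one_lt.ne' (Nat.dvd_one.1 h4)

theorem cast_ne_zero {F : Type*} [Field F] [Fintype F] {r : ℕ} (hr : r.Prime) (h : ¬ r ∣ Fintype.card F) :
    (r : F) ≠ 0 := by
  intro h0
  apply h
  obtain ⟨p, hp⟩ := CharP.exists F
  obtain ⟨m, hp', hm⟩ := FiniteField.card F p
  have h1 : p ∣ r := (CharP.cast_eq_zero_iff F p r).1 h0
  have h2 : p = r := (Nat.prime_dvd_prime_iff_eq hp' hr).1 h1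
  rw [hm, ← h2]
  exact dvd_pow_self p m.pos.ne'

/-- a nontrivial homomorphism of a perfect group to the isometry group gives one to `PΩ` -/
theorem exists_hom {F : Type*} [Field F] {ι : Type} [Fintype ι] [DecidableEq ι] (Q : (ι → F) → F) {H : Type*} [Group H]
    (hH : commutator H = ⊤) (f : H →* Cfsg.isometryGroup F Q) (hf : ∃ x, f x ≠ 1) :
    ∃ g : H →* Cfsg.POmega F Q, ∃ x, g x ≠ 1 := by
  have hmem : ∀ x : H, f x ∈ Cfsg.Omega F Q := by
    intro x
    have h1 : x ∈ commutator H := by rw [hH]; exact Subgroup.mem_top x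
    have h2 : f x ∈ (commutator H).map f := ⟨x, h1, rfl⟩
    have h3 : (commutator H).map f ≤ commutator (Cfsg.isometryGroup F Q) := by
      rw [commutator_def, commutator_def, Subgroup.map_commutator]
      exact Subgroup.commutator_mono le_top le_top
    exact h3 h2
  let f' : H →* Cfsg.Omega F Q := f.codRestrict _ hmem
  refine ⟨(QuotientGroup.mk' (center (Cfsg.Omega F Q))).comp f', ?_⟩
  by_contra hcon
  push Not at hcon
  have hc : ∀ x, f' x ∈ center (Cfsg.Omega F Q) := fun x => (QuotientGroup.eq_one_iff _).1 (hcon x)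
  have h1 : commutator H ≤ f'.ker := by
    rw [commutator_def, Subgroup.commutator_le]
    intro a _ b _
    rw [MonoidHom.mem_ker, map_commutatorElement, commutatorElement_eq_one_iff_mul_comm]
    exact mem_center_iff.1 (hc b) _
  obtain ⟨x, hx⟩ := hf
  apply hx
  have h2 : x ∈ f'.ker := h1 (by rw [hH]; exact mem_top x)
  exact congrArg Subtype.val (MonoidHom.mem_ker.1 h2)

/-- **the general orthogonal row** -/
theorem row_orth {F : Type*} [Field F] [Fintype F] {ι : Type} [Fintype ι] [DecidableEq ι] (Q : QuadraticForm F (ι → F))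
    (hQ : (polarBilin Q).Nondegenerate) (hn : 3 ≤ Fintype.card ι)
    (hs : ∃ u : ι → F, u ≠ 0 ∧ Q u = 0) {i : ℕ} (hi : (Cfsg.Omega F (⇑Q)).index = 2 ^ i) {r : ℕ} (hr : r.Prime)
    (hr2 : r ≠ 2) (hd : r ∣ Nat.card (Cfsg.isometryGroup F (⇑Q))) {N : ℕ}
    (hN : ∀ x : Module.End F (ι → F), x ≠ 1 → x ^ r = 1 → (∀ v, Q (x v) = Q v) →
      Nat.card {y : Module.End F (ι → F) // Commute x y ∧ ∀ v, Q (y v) = Q v} ≤ N)
    {A : Type*} [CommGroup A] [Finite A] (hA : Cfsg.HasSchurMultiplier (Cfsg.POmega F (⇑Q)) A) {D t : ℕ}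
    (hD : PD (Cfsg.POmega F (⇑Q)) D) (hD0 : 0 < D) (ht : Nat.card A ≤ t * Nat.card (center (Cfsg.Omega F (⇑Q))))
    (h : t * N ≤ D ^ 2) : Cfsg.Agent.H253.TC.Row (Cfsg.POmega F (⇑Q)) := by
  obtain ⟨m, hm⟩ := exists_elt Q hQ hn hs hi hr hr2 hd hN
  refine Cfsg.Agent.H253.TC.Row.of_mult hA m le_rfl hD hD0 (le_trans ?_ h)
  calc Nat.card A * Nat.card (centralizer ({m} : Set (Cfsg.POmega F (⇑Q))))
      ≤ (t * Nat.card (center (Cfsg.Omega F (⇑Q)))) * Nat.card (centralizer ({m} : Set (Cfsg.POmega F (⇑Q)))) :=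
        Nat.mul_le_mul_right _ ht
    _ = t * (Nat.card (centralizer ({m} : Set (Cfsg.POmega F (⇑Q)))) * Nat.card (center (Cfsg.Omega F (⇑Q)))) := by ring
    _ ≤ t * N := Nat.mul_le_mul_left _ hm

/-- degrees from a homomorphism of `SL_n(q)`; for groups with trivial multiplier -/
theorem pd_of_SL_triv {K : Type*} [Group K] [IsSimpleGroup K] (hA : Cfsg.HasCyclicSchurMultiplier K 1) {F : Type*} [Field F]
    [Fintype F] {n : ℕ} (hn : 3 ≤ n) (f : Matrix.SpecialLinearGroup (Fin n) F →* K) (hf : ∃ x, f x ≠ 1) :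
    PD K (Fintype.card F ^ (n - 1) - 1) := by
  intro L _ _ π hπ d ρ hρ
  have h1 := (Cfsg.Agent.H68.Bounds.ker_of_hasCyclic hA hπ).2
  have h2 : Function.Injective π := by
    rw [← MonoidHom.ker_eq_bot_iff]
    exact Subgroup.eq_bot_of_card_eq _ (Nat.dvd_one.1 h1)
  let e : L ≃* K := MulEquiv.ofBijective π ⟨h2, hπ.surj⟩
  refine deg_SL hn ((ρ : L →* _).comp (e.symm.toMonoidHom.comp f)) ?_
  obtain ⟨x, hx⟩ := hf
  refine ⟨x, fun h0 => hx ?_⟩
  have h3 := ker_le hπ ρ hρ (g := e.symm (f x)) h0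
  have h4 : e (e.symm (f x)) = 1 := h3
  rwa [e.apply_symm_apply] at h4

/-- degrees from a homomorphism of `SL_n(q)` -/
theorem pd_of_SL {K : Type*} [Group K] [IsSimpleGroup K] {F : Type*} [Field F]
    [Fintype F] {n : ℕ} (hn : 3 ≤ n) (hok : Cfsg.Agent.H60.MultA.Ok n (Nat.card F))
    (f : Matrix.SpecialLinearGroup (Fin n) F →* K) (hf : ∃ x, f x ≠ 1) :
    PD K (Fintype.card F ^ (n - 1) - 1) :=
  PD.of_hom (perf_SL (by omega) (fun h => by omega)) f hf (pd_SL hn hok)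

end Cfsg.Agent.H990.TC.OrthRow
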