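import Mathlib
import Cfsg.Agent.H990.TC.OrthRow
import Cfsg.Agent.S0292
import Cfsg.Agent.S0293
import Cfsg.Agent.S0294
import Cfsg.Agent.S2094
import Cfsg.Agent.S2095
import Cfsg.Agent.S2096
import Cfsg.Agent.S2097
import Cfsg.Agent.S2099

/-!
# Two commutators in the covers of the orthogonal groups: the families (without `Ω₈⁺(2)`)
-/

set_option autoImplicit false
set_option linter.unusedVariables false
set_option linter.unusedSectionVars false

namespace Cfsg.Agent.H990.TC.OrthFam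

open Subgroup Module QuadraticMap Cfsg.Agent.H990.TC.OrthCent Cfsg.Agent.H990.TC.OrthRow Cfsg.Agent.H990.TC.Cent
open Cfsg.Agent.LieClassical.OmegaReindex Cfsg.Agent.LieClassical.PomegaCard Cfsg.Agent.LieClassical.QuadForms
open Cfsg.Agent.H253.TC (PD)

variable {F : Type} [Field F] [Fintype F]

theorem hnd_of {ι : Type} [Fintype ι] {Q : QuadraticForm F (ι → F)} (hQ : (polarBilin Q).Nondegenerate) :
    ∀ u, (∀ v, polar Q v u = 0) → u = 0 := fun u h =>
  hQ.2 u fun v => h v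

theorem exists_ne_SL {n : ℕ} (hn : 3 ≤ n) : ∃ x : Matrix.SpecialLinearGroup (Fin n) F, x ≠ 1 := by
  haveI : IsSimpleGroup (Matrix.ProjectiveSpecialLinearGroup (Fin n) F) := Cfsg.Agent.S0249.result n hn
  obtain ⟨y, hy⟩ := exists_ne (1 : Matrix.ProjectiveSpecialLinearGroup (Fin n) F)
  obtain ⟨x, rfl⟩ := QuotientGroup.mk_surjective y
  exact ⟨x, fun h => hy (by rw [h]; rfl)⟩

theorem ne_of_inj {n : ℕ} (hn : 3 ≤ n) {H : Type*} [Group H] (f : Matrix.SpecialLinearGroup (Fin n) F →* H)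
    (hf : Function.Injective f) : ∃ x, f x ≠ 1 := by
  obtain ⟨x, hx⟩ := exists_ne_SL (F := F) hn
  exact ⟨x, fun h => hx (hf (by rw [h, map_one]))⟩

/-- an element of order three of `SL_4` -/
theorem exists_three : ∃ x : Matrix.SpecialLinearGroup (Fin 4) F, x ^ 3 = 1 ∧ x ≠ 1 := by
  refine ⟨⟨!![0, -1, 0, 0; 1, -1, 0, 0; 0, 0, 1, 0; 0, 0, 0, 1], ?_⟩, ?_, ?_⟩
  · simp [Matrix.det_succ_row_zero, Fin.sum_univ_succ, Fin.succAbove]
  · apply Subtype.ext
    show (!![0, -1, 0, 0; 1, -1, 0, 0; 0, 0, 1, 0; 0, 0, 0, 1] : Matrix (Fin 4) (Fin 4) F) ^ 3 = 1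
    rw [pow_succ, pow_two]
    ext i j
    fin_cases i <;> fin_cases j <;> simp [Matrix.mul_apply, Fin.sum_univ_succ]
  · intro h
    have h1 := congrArg (fun y : Matrix.SpecialLinearGroup (Fin 4) F => (y : Matrix (Fin 4) (Fin 4) F) 1 0) h
    simp at h1

/-- the Klein homomorphism -/
theorem exists_klein' : ∃ f : Matrix.SpecialLinearGroup (Fin 4) F →* Cfsg.isometryGroup F (Cfsg.quadFormPlus 3 F),
    ∃ x, f x ≠ 1 := by
  obtain ⟨f, hf⟩ := Cfsg.Agent.H104.OrthEmb.exists_klein (F := F) Nat.prime_three (by norm_num)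
  obtain ⟨x, hx, hx1⟩ := exists_three (F := F)
  exact ⟨f, x, fun h => hx1 (hf x hx h)⟩

theorem pd_of_SL_any {K : Type} [Group K] [IsSimpleGroup K] {n : ℕ} (hn : 3 ≤ n)
    (h : Cfsg.Agent.H60.MultA.Ok n (Nat.card F) ∨ Cfsg.HasCyclicSchurMultiplier K 1)
    (f : Matrix.SpecialLinearGroup (Fin n) F →* K) (hf : ∃ x, f x ≠ 1) :
    PD K (Fintype.card F ^ (n - 1) - 1) := by
  rcases h with h | h
  · exact pd_of_SL hn h f hf
  · exact pd_of_SL_triv h hn f hf

theorem ok_of {n : ℕ} (hn : 3 ≤ n) (h2 : n ≤ 4 → Fintype.card F ≠ 2) (h4 : n = 3 → Fintype.card F ≠ 4) :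
    Cfsg.Agent.H60.MultA.Ok n (Nat.card F) := by
  rw [Nat.card_eq_fintype_card]
  refine ⟨by omega, fun h => by omega, ?_⟩
  simp only [Set.mem_insert_iff, Set.mem_singleton_iff, Prod.mk.injEq, not_or]
  refine ⟨by omega, by omega, fun h => h2 (by omega) h.2, fun h => h4 h.1 h.2, fun h => h2 (by omega) h.2⟩

theorem two_le_card : 2 ≤ Fintype.card F := Fintype.one_lt_card

theorem card_mul {n : ℕ} [NeZero n] : Nat.card (Multiplicative (ZMod n)) = n := Nat.card_zmod n

/-! ### odd dimension -/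

theorem row_odd_aux {m : ℕ} (hodd : Odd (Fintype.card F)) (hm : 3 ≤ m) {A : Type} [CommGroup A] [Finite A]
    (hA : Cfsg.HasSchurMultiplier (Cfsg.POmega F (Cfsg.quadFormOdd m F)) A) {D : ℕ}
    (hD : PD (Cfsg.POmega F (Cfsg.quadFormOdd m F)) D) (hD0 : 0 < D)
    (h : Nat.card A * ((Fintype.card F ^ m + 1) * 2) ≤ D ^ 2) :
    Cfsg.Agent.H253.TC.Row (Cfsg.POmega F (Cfsg.quadFormOdd m F)) := by
  have h2 : (2 : F) ≠ 0 := odd_card_iff.1 hodd
  have hq2 := two_le_card (F := F)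
  have hQ := Cfsg.Agent.S0292.oddForm_nondegenerate (F := F) h2 m
  have hcard : Fintype.card (Unit ⊕ (Fin m ⊕ Fin m)) = 2 * m + 1 := by
    simp
    ring
  have hi := Cfsg.Agent.ClassicalGeometry.OmegaIndex.index_Omega h2 (by omega) (oddForm m F) hQ
  obtain ⟨r, hr, hr2, hro, hrk, hrq⟩ := exists_prim (q := Fintype.card F) (k := m) hq2 (by omega) (by
    intro h; rw [h.1] at hodd; exact absurd hodd (by decide))
  have hrF := cast_ne_zero hr hrq
  rw [← coe_oddForm] at hA hD ⊢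
  refine row_orth (oddForm m F) hQ (by omega) (Cfsg.Agent.S0292.exists_singular (by omega)) (i := 2) hi hr hr2 ?_
    (N := (Fintype.card F ^ m + 1) * 2) ?_ hA (t := Nat.card A) hD hD0 ?_ h
  · rw [coe_oddForm, Cfsg.Agent.S0286.result rfl hodd m]
    refine Dvd.dvd.mul_left (dvd_trans ?_ (Finset.dvd_prod_of_mem _ (Finset.mem_range.2 (show m - 1 < m by omega)))) _
    have h3 : Fintype.card F ^ (2 * (m - 1 + 1)) - 1 = (Fintype.card F ^ m + 1) * (Fintype.card F ^ m - 1) := by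
      rw [show 2 * (m - 1 + 1) = m * 2 by omega, pow_mul]
      have := Nat.sq_sub_sq (Fintype.card F ^ m) 1
      rwa [one_pow] at this
    rw [h3]
    exact Dvd.dvd.mul_right hrk _
  · intro x hx1 hx hxQ
    have := dec_one (oddForm m F) (hnd_of hQ) hr hrF x hx1 hx hxQ (k := m) (by omega)
      (by rw [Nat.card_eq_fintype_card]; exact hro) (by rw [Nat.card_eq_fintype_card]; exact hrk) (by
        rw [Module.finrank_fintype_fun_eq_card, hcard])
    rwa [Nat.card_eq_fintype_card (α := F)] at this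
  · have h5 : 0 < Nat.card (center (Cfsg.Omega F (⇑(oddForm m F)))) := Nat.card_pos
    exact Nat.le_mul_of_pos_right _ h5

theorem ineq_odd {q m : ℕ} (hq : 3 ≤ q) (h4 : q ≠ 4) (hm : 3 ≤ m) (h33 : ¬ (m = 3 ∧ q = 3)) :
    2 * ((q ^ m + 1) * 2) ≤ (q ^ (m - 1) - 1) ^ 2 := by
  have h1 : 4 * q + 3 ≤ q ^ (m - 1) := by
    rcases Nat.lt_or_ge m 4 with h | h
    · have : m = 3 := by omega
      subst this
      have : 5 ≤ q := by omega
      show 4 * q + 3 ≤ q ^ 2
      nlinarith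
    · have h3 : q ^ 3 ≤ q ^ (m - 1) := Nat.pow_le_pow_right (by omega) (by omega)
      have h5 : 4 * q + 3 ≤ q ^ 3 := by
        have : q ^ 3 = q * q * q := by ring
        nlinarith [mul_self_nonneg q]
      omega
  obtain ⟨D, hD⟩ : ∃ D, q ^ (m - 1) = D + 1 := ⟨q ^ (m - 1) - 1, by omega⟩
  have h2 : q ^ m = q * (D + 1) := by
    rw [← hD, ← pow_succ']
    congr 1
    omega
  rw [h2, hD, Nat.add_sub_cancel]
  nlinarith

/-- **the odd-dimensional orthogonal row** -/
theorem row_odd {m : ℕ} (hodd : Odd (Fintype.card F)) (hm : 3 ≤ m) :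
    Cfsg.Agent.H253.TC.Row (Cfsg.POmega F (Cfsg.quadFormOdd m F)) := by
  haveI : IsSimpleGroup (Cfsg.POmega F (Cfsg.quadFormOdd m F)) := Cfsg.Agent.S0295.result hodd m hm
  have hq2 := two_le_card (F := F)
  have hq3 : 3 ≤ Fintype.card F := by
    rcases hodd with ⟨k, hk⟩; omega
  have hq4 : Fintype.card F ≠ 4 := by rcases hodd with ⟨k, hk⟩; omega
  by_cases h33 : m = 3 ∧ Fintype.card F = 3
  · obtain ⟨rfl, hF⟩ := h33
    obtain ⟨f, x, hx⟩ := exists_klein' (F := F)
    obtain ⟨g, hg⟩ := Cfsg.Agent.H104.OrthEmb.exists_emb_odd (F := F) 3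
    have hperf := perf_SL (F := F) (n := 4) (by norm_num) (by norm_num)
    obtain ⟨φ, hφ⟩ := exists_hom (Cfsg.quadFormOdd 3 F) hperf (g.comp f) ⟨x, fun h => hx (hg (by rw [map_one]; exact h))⟩
    have hD := pd_of_SL (K := Cfsg.POmega F (Cfsg.quadFormOdd 3 F)) (n := 4) (by norm_num)
      (ok_of (by norm_num) (by omega) (by omega)) φ hφ
    rw [hF] at hD
    refine row_odd_aux hodd le_rfl (Cfsg.Agent.S2095.result hF) hD (by norm_num) ?_
    rw [card_mul, hF]
    norm_num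
  · obtain ⟨f, hf⟩ := Cfsg.Agent.H376.WordEmb.sl_odd (F := F) m
    have hperf := perf_SL (F := F) (n := m) (by omega) (by omega)
    obtain ⟨φ, hφ⟩ := exists_hom (Cfsg.quadFormOdd m F) hperf f (ne_of_inj hm f hf)
    have hD := pd_of_SL (K := Cfsg.POmega F (Cfsg.quadFormOdd m F)) hm (ok_of hm (by omega) (by omega)) φ hφ
    have hpos : 0 < Fintype.card F ^ (m - 1) - 1 := by
      have : Fintype.card F ≤ Fintype.card F ^ (m - 1) := Nat.le_self_pow (by omega) _
      omega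
    refine row_odd_aux hodd hm (Cfsg.Agent.S2094.result rfl hodd m hm h33) hD hpos ?_
    rw [card_mul]
    exact ineq_odd hq3 hq4 hm h33

/-! ### even dimension: the index of `Ω` and the order of its centre -/

theorem even_facts {ι : Type} [Fintype ι] [DecidableEq ι] {n : ℕ} (hn : Fintype.card ι = n) (hn6 : 6 ≤ n)
    (Q : QuadraticForm F (ι → F)) (hQ : (polarBilin Q).Nondegenerate) (hs : ∃ u : ι → F, u ≠ 0 ∧ Q u = 0) :
    ((2 : F) = 0 ∧ (Cfsg.Omega F (⇑Q)).index = 2 ^ 1) ∨ ((2 : F) ≠ 0 ∧ (Cfsg.Omega F (⇑Q)).index = 2 ^ 2 ∧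
      ((∃ g : Cfsg.isometryGroup F (⇑Q), g ∈ Cfsg.Omega F (⇑Q) ∧
        ((g : Matrix.GeneralLinearGroup ι F) : Matrix ι ι F) = -1) →
        Nat.card (center (Cfsg.Omega F (⇑Q))) = 2)) := by
  by_cases h2 : (2 : F) = 0
  · left
    have hch : CharP F 2 := CharTwo.of_one_ne_zero_of_two_eq_zero one_ne_zero h2
    exact ⟨h2, index_omega_of_fin hn (fun Q' hQ' => Cfsg.Agent.S0789.result (by omega) Q' hQ'
      (Or.inr (by omega))) Q hQ⟩
  · right
    refine ⟨h2, index_omega_of_fin hn (fun Q' hQ' => Cfsg.Agent.S0788.result h2 (by omega) Q' hQ') Q hQ, fun h => ?_⟩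
    exact Cfsg.Agent.LieClassical.OmegaCenter.card_center_omega_of_mem h2 Q hQ (by omega) hs h

theorem even_card (h2 : (2 : F) = 0) : Fintype.card F % 2 = 0 := by
  rw [← Nat.even_iff, ← Nat.not_odd_iff_even, odd_card_iff]
  exact not_not.2 h2

/-! ### plus type -/

theorem row_plus_aux {m : ℕ} (hm : 4 ≤ m) (h42 : ¬ (m = 4 ∧ Fintype.card F = 2)) {A : Type} [CommGroup A] [Finite A]
    (hA : Cfsg.HasSchurMultiplier (Cfsg.POmega F (Cfsg.quadFormPlus m F)) A) {t D : ℕ}
    (hD : PD (Cfsg.POmega F (Cfsg.quadFormPlus m F)) D) (hD0 : 0 < D)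
    (ht : Nat.card A ≤ t * Nat.card (center (Cfsg.Omega F (Cfsg.quadFormPlus m F))))
    (h : t * ((Fintype.card F ^ (m - 1) + 1) * (4 * Fintype.card F)) ≤ D ^ 2) :
    Cfsg.Agent.H253.TC.Row (Cfsg.POmega F (Cfsg.quadFormPlus m F)) := by
  have hq2 := two_le_card (F := F)
  have hn : Fintype.card (Fin m ⊕ Fin m) = 2 * m := by simp; ring
  have hQ : (QuadraticMap.polarBilin (quadPlus m F)).Nondegenerate := quadPlus_nondegenerate
  have hs := quadPlus_isotropic (m := m) (F := F) (by omega)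
  obtain ⟨r, hr, hr2, hro, hrk, hrq⟩ := exists_prim (q := Fintype.card F) (k := m - 1) hq2 (by omega) (by
    intro h; exact h42 ⟨by omega, h.1⟩)
  have hrF := cast_ne_zero hr hrq
  rw [← coe_quadPlus] at hA hD ht ⊢
  obtain ⟨i, hi⟩ : ∃ i, (Cfsg.Omega F (⇑(quadPlus m F))).index = 2 ^ i := by
    rcases even_facts hn (by omega) (quadPlus m F) hQ hs with h | h
    · exact ⟨1, h.2⟩
    · exact ⟨2, h.2.1⟩
  refine row_orth (quadPlus m F) hQ (by omega) hs hi hr hr2 ?_
    (N := (Fintype.card F ^ (m - 1) + 1) * (4 * Fintype.card F)) ?_ hA (t := t) hD hD0 ht h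
  · rw [coe_quadPlus, Cfsg.Agent.S0287.result rfl m (by omega)]
    refine Dvd.dvd.mul_left (dvd_trans ?_ (Finset.dvd_prod_of_mem _ (Finset.mem_range.2 (show m - 2 < m - 1 by omega)))) _
    have h3 : Fintype.card F ^ (2 * (m - 2 + 1)) - 1 = (Fintype.card F ^ (m - 1) + 1) * (Fintype.card F ^ (m - 1) - 1) := by
      rw [show 2 * (m - 2 + 1) = (m - 1) * 2 by omega, pow_mul]
      have := Nat.sq_sub_sq (Fintype.card F ^ (m - 1)) 1
      rwa [one_pow] at this
    rw [h3]
    exact Dvd.dvd.mul_right hrk _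
  · intro x hx1 hx hxQ
    have := dec_two (quadPlus m F) (hnd_of hQ) hr hrF x hx1 hx hxQ (k := m - 1) (by omega)
      (by rw [Nat.card_eq_fintype_card]; exact hro) (by rw [Nat.card_eq_fintype_card]; exact hrk) (by
        rw [Module.finrank_fintype_fun_eq_card, hn]; omega)
    rwa [Nat.card_eq_fintype_card (α := F)] at this

theorem ineq_plus {q m t : ℕ} (hq : 2 ≤ q) (hm : 4 ≤ m) (h42 : ¬ (m = 4 ∧ q = 2)) (ht : t ≤ 2)
    (ht2 : q = 2 ∨ q = 4 → t ≤ 1) : t * ((q ^ (m - 1) + 1) * (4 * q)) ≤ (q ^ (m - 1) - 1) ^ 2 := by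
  have hq3 : q ^ 3 ≤ q ^ (m - 1) := Nat.pow_le_pow_right (by omega) (by omega)
  obtain ⟨D, hD⟩ : ∃ D, q ^ (m - 1) = D + 1 := ⟨q ^ (m - 1) - 1, by
    have : 1 ≤ q ^ (m - 1) := Nat.one_le_pow _ _ (by omega)
    omega⟩
  rw [hD, Nat.add_sub_cancel]
  rw [hD] at hq3
  have key : t * (4 * q) + 2 ≤ D := by
    rcases Nat.lt_or_ge q 3 with h | h
    · have h2 : q = 2 := by omega
      subst h2
      have h3 := ht2 (Or.inl rfl)
      have h5 : 2 ^ 4 ≤ 2 ^ (m - 1) := Nat.pow_le_pow_right (by omega) (by omega)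
      rw [hD] at h5
      omega
    · rcases Nat.lt_or_ge q 5 with h' | h'
      · have : q = 3 ∨ q = 4 := by omega
        rcases this with rfl | rfl
        · norm_num at hq3
          omega
        · norm_num at hq3
          have := ht2 (Or.inr rfl)
          omega
      · have h6 : q ^ 3 = q * q * q := by ring
        have h7 : 25 * q ≤ q * q * q := by nlinarith
        have h8 : t * (4 * q) ≤ 2 * (4 * q) := Nat.mul_le_mul_right _ ht
        omega
  have h9 : t * ((D + 1 + 1) * (4 * q)) = t * (4 * q) * (D + 2) := by ring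
  rw [h9]
  set s := t * (4 * q) with hs
  nlinarith

/-- **the plus type orthogonal row** without `Ω₈⁺(2)` -/
theorem row_plus {m : ℕ} (hm : 4 ≤ m) (h42 : ¬ (m = 4 ∧ Fintype.card F = 2)) :
    Cfsg.Agent.H253.TC.Row (Cfsg.POmega F (Cfsg.quadFormPlus m F)) := by
  haveI : IsSimpleGroup (Cfsg.POmega F (Cfsg.quadFormPlus m F)) := Cfsg.Agent.S0296.result m hm
  have hq2 := two_le_card (F := F)
  have hn : Fintype.card (Fin m ⊕ Fin m) = 2 * m := by simp; ring
  have hQ : (QuadraticMap.polarBilin (quadPlus m F)).Nondegenerate := quadPlus_nondegenerate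
  have hs := quadPlus_isotropic (m := m) (F := F) (by omega)
  obtain ⟨f, hf⟩ := Cfsg.Agent.H376.WordEmb.sl_plus (F := F) m
  have hperf := perf_SL (F := F) (n := m) (by omega) (by omega)
  obtain ⟨φ, hφ⟩ := exists_hom (Cfsg.quadFormPlus m F) hperf f (ne_of_inj (by omega) f hf)
  have hD := pd_of_SL (K := Cfsg.POmega F (Cfsg.quadFormPlus m F)) (by omega)
    (ok_of (by omega) (fun h h' => h42 ⟨by omega, h'⟩) (by omega)) φ hφ
  have hpos : 0 < Fintype.card F ^ (m - 1) - 1 := by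
    have : Fintype.card F ≤ Fintype.card F ^ (m - 1) := Nat.le_self_pow (by omega) _
    omega
  have hq1 : 1 ≤ Fintype.card F ^ m := Nat.one_le_pow _ _ (by omega)
  have hZ : 0 < Nat.card (center (Cfsg.Omega F (Cfsg.quadFormPlus m F))) := Nat.card_pos
  rcases even_facts hn (by omega) (quadPlus m F) hQ hs with ⟨h2, -⟩ | ⟨h2, -, hcen⟩
  · -- characteristic two
    have hev := even_card h2
    have hqm : Fintype.card F ^ m % 2 = 0 := by
      rw [Nat.pow_mod, hev, Nat.zero_pow (by omega)]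
    have hineq := ineq_plus (t := 1) hq2 hm h42 (by norm_num) (by norm_num)
    rcases Nat.even_or_odd m with hme | hmo
    · have hg : Nat.gcd 2 (Fintype.card F ^ m - 1) = 1 := by
        rw [Nat.gcd_rec]
        have : (Fintype.card F ^ m - 1) % 2 = 1 := by omega
        rw [this]
        rfl
      have hA := Cfsg.Agent.S2097.result (F := F) rfl m hm hme h42
      rw [hg] at hA
      refine row_plus_aux hm h42 hA (t := 1) hD hpos ?_ hineq
      rw [one_mul]
      refine le_trans (le_of_eq ?_) hZ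
      rw [show Nat.card (Multiplicative (ZMod 1 × ZMod 1)) = Nat.card (ZMod 1 × ZMod 1) from rfl, Nat.card_prod,
        Nat.card_zmod]
    · have hg := gcd_four_of_odd (x := Fintype.card F ^ m - 1) (by omega)
      have hA := Cfsg.Agent.S2096.result (F := F) rfl m (by rcases hmo with ⟨k, hk⟩; omega) hmo
      rw [hg] at hA
      refine row_plus_aux hm h42 hA (t := 1) hD hpos ?_ hineq
      rw [one_mul, card_mul]
      exact hZ
  · -- odd characteristic
    have hodd : Odd (Fintype.card F) := odd_card_iff.2 h2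
    have hqo := Nat.odd_iff.1 hodd
    have hoddm : Fintype.card F ^ m % 2 = 1 := Nat.odd_iff.1 hodd.pow
    have h790 := Cfsg.Agent.S0790.result (F := F) rfl hodd m (by omega)
    rw [coe_quadPlus] at hcen
    have hineq := ineq_plus (t := 2) hq2 hm h42 le_rfl (by rintro (h | h) <;> rw [h] at hqo <;> omega)
    rcases Nat.even_or_odd m with hme | hmo
    · have hA := Cfsg.Agent.S2097.result (F := F) rfl m hm hme h42
      have h41 : Fintype.card F ^ m % 4 = 1 := by
        obtain ⟨k, hk⟩ := hme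
        rw [hk, ← two_mul, pow_mul, Nat.pow_mod]
        have h5 : Fintype.card F ^ 2 % 4 = 1 := by
          rw [Nat.pow_mod]
          have : Fintype.card F % 4 = 1 ∨ Fintype.card F % 4 = 3 := by omega
          rcases this with h | h <;> rw [h]
        rw [h5, one_pow]
        rfl
      have hZ2 := hcen (h790.2 h41)
      have hle : Nat.gcd 2 (Fintype.card F ^ m - 1) ≤ 2 := Nat.gcd_le_left _ (by norm_num)
      haveI : NeZero (Nat.gcd 2 (Fintype.card F ^ m - 1)) := ⟨(Nat.gcd_pos_of_pos_left _ (by norm_num)).ne'⟩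
      refine row_plus_aux hm h42 hA (t := 2) hD hpos ?_ hineq
      rw [hZ2, show Nat.card (Multiplicative (ZMod (Nat.gcd 2 (Fintype.card F ^ m - 1)) ×
        ZMod (Nat.gcd 2 (Fintype.card F ^ m - 1)))) = Nat.card (ZMod (Nat.gcd 2 (Fintype.card F ^ m - 1)) ×
        ZMod (Nat.gcd 2 (Fintype.card F ^ m - 1))) from rfl, Nat.card_prod, Nat.card_zmod]
      exact Nat.mul_le_mul hle hle
    · have hA := Cfsg.Agent.S2096.result (F := F) rfl m (by rcases hmo with ⟨k, hk⟩; omega) hmo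
      haveI : NeZero (Nat.gcd 4 (Fintype.card F ^ m - 1)) := ⟨(Nat.gcd_pos_of_pos_left _ (by norm_num)).ne'⟩
      refine row_plus_aux hm h42 hA (t := 2) hD hpos ?_ hineq
      rw [card_mul]
      by_cases h41 : Fintype.card F ^ m % 4 = 1
      · rw [hcen (h790.2 h41)]
        exact Nat.gcd_le_left _ (by norm_num)
      · rw [gcd_four_of_two (x := Fintype.card F ^ m - 1) (by omega)]
        omega

/-! ### minus type -/

theorem row_minus_aux {m : ℕ} (hm : 4 ≤ m) {a b : F}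
    (hab : ∀ z₁ z₂ : F, z₁ ^ 2 + a * z₁ * z₂ + b * z₂ ^ 2 = 0 → z₁ = 0 ∧ z₂ = 0) {D : ℕ}
    (hD : PD (Cfsg.POmega F (Cfsg.quadFormMinus (m - 1) F a b)) D) (hD0 : 0 < D)
    {t : ℕ} (ht12 : t = 2 ∨ (t = 1 ∧ Fintype.card F % 2 = 0)) (h : t * (Fintype.card F ^ m + 1) ≤ D ^ 2) :
    Cfsg.Agent.H253.TC.Row (Cfsg.POmega F (Cfsg.quadFormMinus (m - 1) F a b)) := by
  have hq2 := two_le_card (F := F)
  have hn : Fintype.card ((Fin (m - 1) ⊕ Fin (m - 1)) ⊕ Fin 2) = 2 * m := by
    simp only [Fintype.card_sum, Fintype.card_fin]; omega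
  have hQ : (QuadraticMap.polarBilin (quadMinus (m - 1) F a b)).Nondegenerate :=
    quadMinus_nondegenerate hab
  have hs := quadMinus_isotropic (m := m - 1) (F := F) (by omega) a b
  obtain ⟨r, hr, hr2, hro, hrk, hrq⟩ := exists_prim (q := Fintype.card F) (k := m) hq2 (by omega) (by omega)
  have hrF := cast_ne_zero hr hrq
  have hA := Cfsg.Agent.S2099.result (F := F) rfl m hm a b hab
  have hZ : 0 < Nat.card (center (Cfsg.Omega F (Cfsg.quadFormMinus (m - 1) F a b))) := Nat.card_pos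
  haveI : NeZero (Nat.gcd 4 (Fintype.card F ^ m + 1)) := ⟨(Nat.gcd_pos_of_pos_left _ (by norm_num)).ne'⟩
  have ht : Nat.card (Multiplicative (ZMod (Nat.gcd 4 (Fintype.card F ^ m + 1)))) ≤
      t * Nat.card (center (Cfsg.Omega F (Cfsg.quadFormMinus (m - 1) F a b))) := by
    rw [card_mul]
    rcases even_facts hn (by omega) (quadMinus (m - 1) F a b) hQ hs with ⟨h2, -⟩ | ⟨h2, -, hcen⟩
    · have hev := even_card h2
      have hqm : Fintype.card F ^ m % 2 = 0 := by
        rw [Nat.pow_mod, hev, Nat.zero_pow (by omega)]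
      rw [gcd_four_of_odd (by omega)]
      have ht1 : 1 ≤ t := by omega
      exact Nat.mul_pos ht1 hZ
    · have hodd : Odd (Fintype.card F) := odd_card_iff.2 h2
      have hqo := Nat.odd_iff.1 hodd
      have ht2 : t = 2 := by omega
      subst ht2
      have hoddm : Fintype.card F ^ m % 2 = 1 := Nat.odd_iff.1 hodd.pow
      have h791 := Cfsg.Agent.S0791.result (F := F) rfl hodd m (by omega) a b hab
      rw [coe_quadMinus] at hcen
      by_cases h43 : Fintype.card F ^ m % 4 = 3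
      · rw [hcen (h791.2 h43)]
        exact Nat.gcd_le_left _ (by norm_num)
      · rw [gcd_four_of_two (by omega)]
        omega
  rw [← coe_quadMinus] at hA hD ht ⊢
  obtain ⟨i, hi⟩ : ∃ i, (Cfsg.Omega F (⇑(quadMinus (m - 1) F a b))).index = 2 ^ i := by
    rcases even_facts hn (by omega) (quadMinus (m - 1) F a b) hQ hs with h | h
    · exact ⟨1, h.2⟩
    · exact ⟨2, h.2.1⟩
  refine row_orth (quadMinus (m - 1) F a b) hQ (by omega) hs hi hr hr2 ?_
    (N := Fintype.card F ^ m + 1) ?_ hA (t := t) hD hD0 ht h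
  · rw [coe_quadMinus, Cfsg.Agent.S0288.result rfl m (by omega) a b hab]
    exact Dvd.dvd.mul_right (Dvd.dvd.mul_left hrk _) _
  · intro x hx1 hx hxQ
    have := dec_zero (quadMinus (m - 1) F a b) (hnd_of hQ) hr hrF x hx1 hx hxQ (k := m) (by omega)
      (by rw [Nat.card_eq_fintype_card]; exact hro) (by rw [Nat.card_eq_fintype_card]; exact hrk) (by
        rw [Module.finrank_fintype_fun_eq_card, hn])
    rwa [Nat.card_eq_fintype_card (α := F)] at this

theorem exists_emb_minus' {j : ℕ} (hj : j = 3) (a b : F) :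
    ∃ g : Cfsg.isometryGroup F (Cfsg.quadFormPlus 3 F) →* Cfsg.isometryGroup F (Cfsg.quadFormMinus j F a b),
      Function.Injective g := by
  subst hj
  exact Cfsg.Agent.H104.OrthEmb.exists_emb_minus 3 a b

theorem ineq_minus {q m t : ℕ} (hq : 2 ≤ q) (hm : 5 ≤ m) (ht : t = 2 ∧ q % 2 = 1 ∨ t = 1 ∧ q % 2 = 0) :
    t * (q ^ m + 1) ≤ (q ^ (m - 1 - 1) - 1) ^ 2 := by
  have hq3 : q ^ 3 ≤ q ^ (m - 1 - 1) := Nat.pow_le_pow_right (by omega) (by omega)
  obtain ⟨D, hD⟩ : ∃ D, q ^ (m - 1 - 1) = D + 1 := ⟨q ^ (m - 1 - 1) - 1, by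
    have : 1 ≤ q ^ (m - 1 - 1) := Nat.one_le_pow _ _ (by omega)
    omega⟩
  have h2 : q ^ m = q ^ 2 * (D + 1) := by
    rw [← hD, ← pow_add]
    congr 1
    omega
  rw [hD] at hq3
  rw [h2, hD, Nat.add_sub_cancel]
  have h6 : q ^ 3 = q * q ^ 2 := by ring
  have h4 : 4 ≤ q ^ 2 := by nlinarith
  have key : t * q ^ 2 + 2 ≤ D := by
    rcases ht with ⟨rfl, h⟩ | ⟨rfl, h⟩
    · have h3 : 3 ≤ q := by omega
      have h9 : 9 ≤ q ^ 2 := by nlinarith
      have : 3 * q ^ 2 ≤ q * q ^ 2 := Nat.mul_le_mul_right _ h3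
      omega
    · have : 2 * q ^ 2 ≤ q * q ^ 2 := Nat.mul_le_mul_right _ hq
      omega
  have h9 : t * (q ^ 2 * (D + 1) + 1) = t * q ^ 2 * (D + 1) + t := by ring
  rw [h9]
  have ht2 : t ≤ 2 := by omega
  set s := t * q ^ 2 with hs
  nlinarith

/-- **the minus type orthogonal row** -/
theorem row_minus {m : ℕ} (hm : 4 ≤ m) {a b : F}
    (hab : ∀ z₁ z₂ : F, z₁ ^ 2 + a * z₁ * z₂ + b * z₂ ^ 2 = 0 → z₁ = 0 ∧ z₂ = 0) :
    Cfsg.Agent.H253.TC.Row (Cfsg.POmega F (Cfsg.quadFormMinus (m - 1) F a b)) := by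
  haveI : IsSimpleGroup (Cfsg.POmega F (Cfsg.quadFormMinus (m - 1) F a b)) := Cfsg.Agent.S0297.result m hm a b hab
  have hq2 := two_le_card (F := F)
  have hA := Cfsg.Agent.S2099.result (F := F) rfl m hm a b hab
  -- either the multiplier is trivial or the order is odd
  have hor : ∀ n, Fintype.card F % 2 = 1 ∧ 3 ≤ n → Cfsg.Agent.H60.MultA.Ok n (Nat.card F) := by
    intro n hn
    exact ok_of hn.2 (fun _ h => by omega) (fun _ h => by omega)
  have htriv : Fintype.card F % 2 = 0 → Cfsg.HasCyclicSchurMultiplier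
      (Cfsg.POmega F (Cfsg.quadFormMinus (m - 1) F a b)) 1 := by
    intro hev
    have hqm : Fintype.card F ^ m % 2 = 0 := by
      rw [Nat.pow_mod, hev, Nat.zero_pow (by omega)]
    rw [gcd_four_of_odd (x := Fintype.card F ^ m + 1) (by omega)] at hA
    exact hA
  rcases Nat.lt_or_ge m 5 with h5 | h5
  · have h4 : m = 4 := by omega
    subst h4
    obtain ⟨f, x, hx⟩ := exists_klein' (F := F)
    obtain ⟨g, hg⟩ := exists_emb_minus' (F := F) (j := 4 - 1) rfl a b
    have hperf := perf_SL (F := F) (n := 4) (by norm_num) (by norm_num)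
    obtain ⟨φ, hφ⟩ := exists_hom (Cfsg.quadFormMinus (4 - 1) F a b) hperf (g.comp f)
      ⟨x, fun h => hx (hg (by rw [map_one]; exact h))⟩
    have hD := pd_of_SL_any (K := Cfsg.POmega F (Cfsg.quadFormMinus (4 - 1) F a b)) (n := 4) (by norm_num)
      (by
        rcases Nat.mod_two_eq_zero_or_one (Fintype.card F) with h | h
        · exact Or.inr (htriv h)
        · exact Or.inl (hor 4 ⟨h, by norm_num⟩)) φ hφ
    have hc : ∃ D, Fintype.card F ^ 3 = D + 1 ∧ 7 ≤ D ∧ 2 * Fintype.card F + 2 ≤ D := by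
      refine ⟨Fintype.card F ^ 3 - 1, ?_, ?_, ?_⟩
      · have : 1 ≤ Fintype.card F ^ 3 := Nat.one_le_pow _ _ (by omega)
        omega
      · have : 2 ^ 3 ≤ Fintype.card F ^ 3 := Nat.pow_le_pow_left hq2 3
        omega
      · have h6 : Fintype.card F ^ 3 = Fintype.card F * Fintype.card F * Fintype.card F := by ring
        have h7 : 4 * Fintype.card F ≤ Fintype.card F * Fintype.card F * Fintype.card F := by nlinarith
        omega
    obtain ⟨D, hD1, hD7, hD2⟩ := hc
    rw [show 4 - 1 = 3 from rfl, hD1, Nat.add_sub_cancel] at hD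
    refine row_minus_aux le_rfl hab hD (by omega) (Or.inl rfl) ?_
    rw [pow_succ, hD1]
    nlinarith
  · obtain ⟨f, hf⟩ := Cfsg.Agent.H376.WordEmb.sl_minus (F := F) (m - 1) a b
    have hperf := perf_SL (F := F) (n := m - 1) (by omega) (by omega)
    obtain ⟨φ, hφ⟩ := exists_hom (Cfsg.quadFormMinus (m - 1) F a b) hperf f (ne_of_inj (by omega) f hf)
    have hD := pd_of_SL_any (K := Cfsg.POmega F (Cfsg.quadFormMinus (m - 1) F a b)) (n := m - 1) (by omega)
      (by
        rcases Nat.mod_two_eq_zero_or_one (Fintype.card F) with h | h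
        · exact Or.inr (htriv h)
        · exact Or.inl (hor (m - 1) ⟨h, by omega⟩)) φ hφ
    have hpos : 0 < Fintype.card F ^ (m - 1 - 1) - 1 := by
      have : Fintype.card F ≤ Fintype.card F ^ (m - 1 - 1) := Nat.le_self_pow (by omega) _
      omega
    rcases Nat.mod_two_eq_zero_or_one (Fintype.card F) with h | h
    · exact row_minus_aux hm hab hD hpos (Or.inr ⟨rfl, h⟩) (ineq_minus hq2 h5 (Or.inr ⟨rfl, h⟩))
    · exact row_minus_aux hm hab hD hpos (Or.inl rfl) (ineq_minus hq2 h5 (Or.inl ⟨rfl, h⟩))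

end Cfsg.Agent.H990.TC.OrthFam
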