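import Cfsg.Agent.H253.TwoComm.Fused
import Cfsg.Agent.H253.TwoComm.CritB

/-!
# The values of a character on a fused subgroup; a strict column bound (S2494, helper990)

* `fused_spec` : `χ(1) = m + (|B| - 1) k`, `χ(x) = m - k` for the elements over `B ∖ 1`;
* `norm_sq_lt` : `|χ(e)|² < |C_K(e)|` for `e` outside the kernel.
-/

set_option autoImplicit false
set_option linter.unusedSectionVars false

namespace Cfsg.Agent.H990.TC

open Cfsg Subgroup
open Cfsg.Agent.H51.Mult (PCE)
open Cfsg.Agent.Characters.Core Cfsg.Agent.Characters.Linear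
open Cfsg.Agent.H253.TC
open scoped ComplexConjugate

universe u v w

/-- a character constant off the identity -/
theorem spec_const {B : Type u} [Group B] [Finite B] {χ : B → ℂ} (hχ : IsCharacter B χ) {c : ℂ}
    (hc : ∀ b, b ≠ 1 → χ b = c) (hne : χ 1 ≠ c) {μ : B →* ℂˣ} (hμ : μ ≠ 1) {n : ℕ} (hn : χ 1 = n) :
    ∃ m k : ℕ, k ≠ 0 ∧ n + k = m + Nat.card B * k ∧ c = (m : ℂ) - k := by
  classical
  have := Fintype.ofFinite B
  have hB0 : (Nat.card B : ℂ) ≠ 0 := card_ne_zero_complex
  obtain ⟨m, hm⟩ := classInner_isNat hχ (isIrr_isCharacter (isIrr_one (G := B)))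
  obtain ⟨k, hk⟩ := classInner_isNat hχ (isCharacter_hom μ)
  have e1 : ∀ f : B → ℂ, ∑ b : B, χ b * f b = (χ 1 - c) * f 1 + c * ∑ b : B, f b := by
    intro f
    rw [← Finset.add_sum_erase _ _ (Finset.mem_univ (1 : B)), ← Finset.add_sum_erase _ f (Finset.mem_univ (1 : B)),
      mul_add, Finset.mul_sum, Finset.sum_congr rfl fun b hb => by rw [hc b (Finset.ne_of_mem_erase hb)]]
    ring
  rw [classInner_def, e1] at hm hk
  have h1 : (∑ b : B, conj ((1 : B → ℂ) b)) = Nat.card B := by simp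
  rw [h1] at hm
  rw [sum_hom_eq_zero μ hμ] at hk
  simp only [map_one, Units.val_one, mul_one, mul_zero, add_zero, Pi.one_apply] at hm hk
  have hk0 : k ≠ 0 := by
    rintro rfl
    rw [Nat.cast_zero, mul_eq_zero] at hk
    rcases hk with hk | hk
    · exact hB0 (inv_eq_zero.1 hk)
    · exact hne (sub_eq_zero.1 hk)
  have e2 : χ 1 - c = Nat.card B * k := by rw [← hk, mul_inv_cancel_left₀ hB0]
  have e3 : χ 1 - c + c * Nat.card B = Nat.card B * m := by rw [← hm, mul_inv_cancel_left₀ hB0]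
  have e5 : c = (m : ℂ) - k := by
    have e6 : (Nat.card B : ℂ) * c = Nat.card B * ((m : ℂ) - k) := by linear_combination e3 - e2
    exact mul_left_cancel₀ hB0 e6
  refine ⟨m, k, hk0, ?_, e5⟩
  have e4 : (n : ℂ) + k = m + Nat.card B * k := by
    rw [hn, e5] at e2
    linear_combination e2
  exact_mod_cast e4

section Lift

variable {L : Type u} {K : Type v} [Group L] [Finite L] [Group K] {π : L →* K} [IsSimpleGroup K]

/-- **The values on a fused `p`-subgroup.** -/
theorem fused_spec (hπ : PCE π) {p : ℕ} (hp : p.Prime) (hcop : ¬ p ∣ Nat.card π.ker) {n : ℕ}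
    (ρ : Representation ℂ L (Fin n → ℂ)) (hρ : ∃ g, ρ g ≠ 1) (B : Subgroup K) (hB : IsPGroup p B)
    (hB1 : Nat.card B ≠ 1) (hconj : ∀ a ∈ B, a ≠ 1 → ∀ b ∈ B, b ≠ 1 → IsConj a b) :
    ∃ m k : ℕ, k ≠ 0 ∧ n + k = m + Nat.card B * k ∧
      ∀ x : L, π x ∈ B → π x ≠ 1 → x ^ Nat.card B = 1 → ρ.character x = (m : ℂ) - k := by
  classical
  have := Fact.mk hp
  have hKfin : Finite K := Finite.of_surjective _ hπ.surj
  -- a Sylow subgroup of the preimage
  let H : Subgroup L := B.comap π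
  obtain ⟨P⟩ : Nonempty (Sylow p H) := inferInstance
  let Q : Subgroup L := (P : Subgroup H).map H.subtype
  have hQp : IsPGroup p Q := P.isPGroup'.map _
  have hQH : ∀ x ∈ Q, π x ∈ B := by
    rintro _ ⟨x, -, rfl⟩
    exact x.2
  have hinj : ∀ x ∈ Q, π x = 1 → x = 1 := by
    intro x hx h1
    obtain ⟨k, hk⟩ := IsPGroup.iff_orderOf.1 hQp ⟨x, hx⟩
    rw [orderOf_mk] at hk
    have h2 : orderOf x ∣ Nat.card π.ker := by
      have h3 : orderOf (⟨x, MonoidHom.mem_ker.2 h1⟩ : π.ker) ∣ Nat.card π.ker := orderOf_dvd_natCard _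
      rwa [orderOf_mk] at h3
    rcases Nat.eq_zero_or_pos k with h0 | h0
    · rw [h0, pow_zero] at hk
      exact orderOf_eq_one_iff.1 hk
    · exact absurd ((dvd_pow_self p h0.ne').trans (hk ▸ h2)) hcop
  -- its order
  have hcardQ : Nat.card Q = Nat.card B := by
    have h1 : Nat.card Q = Nat.card (P : Subgroup H) :=
      Nat.card_congr ((P : Subgroup H).equivMapOfInjective _ H.subtype_injective).symm.toEquiv
    rw [h1]
    have h2 : Nat.card H = Nat.card π.ker * Nat.card B := by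
      have h3 : Nat.card H * B.index = Nat.card π.ker * Nat.card B * B.index := by
        rw [← index_comap_of_surjective B hπ.surj, card_mul_index, index_comap_of_surjective B hπ.surj, mul_assoc,
          card_mul_index, ← card_mul_index π.ker, index_ker, MonoidHom.range_eq_top.2 hπ.surj,
          Nat.card_congr topEquiv.toEquiv]
      exact Nat.eq_of_mul_eq_mul_right (Nat.pos_of_ne_zero (index_ne_zero_of_finite (H := B))) h3
    obtain ⟨b, hb⟩ := hB.exists_card_eq
    rw [P.card_eq_multiplicity, h2, Nat.factorization_mul Nat.card_pos.ne' Nat.card_pos.ne', Finsupp.add_apply,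
      Nat.factorization_eq_zero_of_not_dvd hcop, zero_add, hb, hp.factorization_pow, Finsupp.single_eq_same]
  have hQ1 : Nontrivial Q := by
    rw [← Finite.one_lt_card_iff_nontrivial, hcardQ]
    have := Nat.card_pos (α := B)
    omega
  -- a nontrivial linear character
  obtain ⟨μ, hμ⟩ : ∃ μ : Q →* ℂˣ, μ ≠ 1 := by
    by_contra hcon
    push Not at hcon
    have h1 : Nat.card (Q →* ℂˣ) = 1 := by
      rw [Nat.card_eq_one_iff_unique]
      exact ⟨⟨fun a b => (hcon a).trans (hcon b).symm⟩, ⟨1⟩⟩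
    rw [card_hom_eq_index_commutator, index_eq_one] at h1
    have := hQp.isNilpotent
    exact (Group.IsSolvable.commutator_lt_top_of_nontrivial Q).ne h1
  -- the powers
  have hord : ∀ x ∈ Q, x ^ Nat.card Q = 1 := by
    intro x hx
    have h3 : (⟨x, hx⟩ : Q) ^ Nat.card Q = 1 := pow_card_eq_one'
    exact congrArg Subtype.val h3
  have hNcop : (Nat.card Q).Coprime (Nat.card π.ker) := by
    obtain ⟨b, hb⟩ := hQp.exists_card_eq
    rw [hb]
    exact Nat.Coprime.pow_left b ((Nat.Prime.coprime_iff_not_dvd hp).2 hcop)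
  obtain ⟨b0, hb0⟩ := exists_ne (1 : Q)
  have hfuse' : ∀ x : L, π x ∈ B → π x ≠ 1 → x ^ Nat.card Q = 1 → ρ.character x = ρ.character b0 := by
    intro x hx hx1 hxp
    have h1 : IsConj (b0 : L) x :=
      isConj_of_lift hπ hNcop (hord b0 b0.2) hxp (hconj _ (hQH b0 b0.2)
        (fun h => hb0 (Subtype.ext (hinj b0 b0.2 h))) _ hx hx1)
    obtain ⟨g, hg⟩ := isConj_iff.1 h1
    rw [← hg, Representation.char_conj]
  have e1 : ρ.character ((1 : Q) : L) = (n : ℂ) := by
    rw [OneMemClass.coe_one, Representation.char_one]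
    simp
  have hne : ρ.character ((1 : Q) : L) ≠ ρ.character b0 := by
    intro h
    have h2 : ρ.character (b0 : L) = (Module.finrank ℂ (Fin n → ℂ) : ℂ) := by
      rw [← h, OneMemClass.coe_one, Representation.char_one]
    rw [Cfsg.Agent.Characters.Values.character_eq_finrank_iff] at h2
    exact hb0 (Subtype.ext (hinj b0 b0.2 (ker_le hπ ρ hρ h2)))
  obtain ⟨m, k, hk0, h1, h2⟩ := spec_const (B := Q) (χ := ρ.character ∘ Q.subtype)
    (isCharacter_comp Q.subtype ⟨n, ρ, rfl⟩) (c := ρ.character b0) (fun b hb => hfuse' b (hQH b b.2)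
      (fun h => hb (Subtype.ext (hinj b b.2 h))) (hord b b.2)) hne hμ (n := n) e1
  rw [hcardQ] at h1 hfuse'
  exact ⟨m, k, hk0, h1, fun x hx hx1 hxp => (hfuse' x hx hx1 hxp).trans h2⟩

end Lift

section Col

variable {L : Type u} {K : Type v} [Group L] [Finite L] [Group K] {π : L →* K}

/-- the degrees against the values, over one central character -/
theorem sum_lam_one (hπ : PCE π) {e : L} (he : π e ≠ 1) [Fintype (IrrCharacter L)] [DecidableEq (π.ker →* ℂˣ)]
    (μ : π.ker →* ℂˣ) :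
    ∑ χ : IrrCharacter L with lam π.ker hπ.cen χ = μ, (χ : L → ℂ) 1 * conj ((χ : L → ℂ) e) = 0 := by
  classical
  have := Fintype.ofFinite π.ker
  have hZ0' : (Nat.card π.ker : ℂ) ≠ 0 := by exact_mod_cast Nat.card_pos.ne'
  have e1 : ∑ χ : IrrCharacter L with lam π.ker hπ.cen χ = μ, (χ : L → ℂ) 1 * conj ((χ : L → ℂ) e) =
      (Nat.card π.ker : ℂ)⁻¹ * ∑ z : π.ker, conj (μ z : ℂ) *
        (if IsConj ((z : L) * 1) e then (Nat.card (centralizer ({e} : Set L)) : ℂ) else 0) := by
    have e2 : ∀ z : π.ker, (if IsConj ((z : L) * 1) e then (Nat.card (centralizer ({e} : Set L)) : ℂ) else 0) =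
        ∑ χ : IrrCharacter L, (lam π.ker hπ.cen χ z : ℂ) * ((χ : L → ℂ) 1 * conj ((χ : L → ℂ) e)) := by
      intro z
      rw [← Cfsg.Agent.H686.CharKit.col_orth]
      refine Finset.sum_congr rfl fun χ _ => ?_
      rw [lam_spec π.ker hπ.cen χ z 1, mul_assoc]
    simp only [e2, Finset.mul_sum]
    rw [Finset.sum_comm]
    rw [Finset.sum_filter]
    refine Finset.sum_congr rfl fun χ _ => ?_
    have e3 : ∑ z : π.ker, (Nat.card π.ker : ℂ)⁻¹ * (conj (μ z : ℂ) *
        ((lam π.ker hπ.cen χ z : ℂ) * ((χ : L → ℂ) 1 * conj ((χ : L → ℂ) e)))) =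
        (Nat.card π.ker : ℂ)⁻¹ * (∑ z : π.ker, conj (μ z : ℂ) * (lam π.ker hπ.cen χ z : ℂ)) *
          ((χ : L → ℂ) 1 * conj ((χ : L → ℂ) e)) := by
      rw [Finset.mul_sum, Finset.sum_mul]
      exact Finset.sum_congr rfl fun z _ => by ring
    rw [e3, sum_hom_conj_mul]
    split_ifs with hc
    · rw [inv_mul_cancel₀ hZ0', one_mul]
    · simp
  rw [e1]
  have h0 : ∀ z : π.ker, ¬ IsConj ((z : L) * 1) e := by
    intro z h
    obtain ⟨g, hg⟩ := isConj_iff.1 h
    apply he
    have h1 := mem_center_iff.1 (hπ.cen z.2) g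
    rw [← hg, mul_one, h1, mul_inv_cancel_right]
    exact z.2
  rw [Finset.sum_eq_zero fun z _ => by rw [if_neg (h0 z), mul_zero], mul_zero]

/-- **The strict column bound.** -/
theorem norm_sq_lt (hπ : PCE π) {e : L} (he : π e ≠ 1) (χ : IrrCharacter L) :
    ‖(χ : L → ℂ) e‖ ^ 2 < (Nat.card (centralizer ({π e} : Set K)) : ℝ) := by
  classical
  have hK : Finite K := Finite.of_surjective _ hπ.surj
  have : Finite (IrrCharacter L) := finite_irr
  have := Fintype.ofFinite (IrrCharacter L)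
  by_contra hcon
  push Not at hcon
  set μ := lam π.ker hπ.cen χ with hμ
  have hmem : χ ∈ Finset.univ.filter fun χ' : IrrCharacter L => lam π.ker hπ.cen χ' = μ := by
    rw [Finset.mem_filter]; exact ⟨Finset.mem_univ _, rfl⟩
  have h1 := sum_lam_le hπ e μ
  rw [← Finset.add_sum_erase _ _ hmem] at h1
  have h2 : ∑ χ' ∈ (Finset.univ.filter fun χ' : IrrCharacter L => lam π.ker hπ.cen χ' = μ).erase χ,
      ‖(χ' : L → ℂ) e‖ ^ 2 = 0 :=
    le_antisymm (by linarith) (Finset.sum_nonneg fun χ' _ => by positivity)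
  rw [Finset.sum_eq_zero_iff_of_nonneg fun χ' _ => by positivity] at h2
  have h3 := sum_lam_one hπ he μ
  rw [← Finset.add_sum_erase _ _ hmem, Finset.sum_eq_zero (s := (Finset.univ.filter _).erase χ), add_zero,
    mul_eq_zero] at h3
  · have hc0 : (0 : ℝ) < Nat.card (centralizer ({π e} : Set K)) := by exact_mod_cast Nat.card_pos
    rcases h3 with h3 | h3
    · exact isIrr_apply_one_ne_zero χ.2 h3
    · have h4 : (χ : L → ℂ) e = 0 := by simpa using h3
      rw [h4, norm_zero, zero_pow two_ne_zero] at hcon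
      linarith
  · intro χ' hχ'
    have h4 := h2 χ' hχ'
    have h5 : (χ' : L → ℂ) e = 0 := by simpa using h4
    rw [h5, map_zero, mul_zero]

end Col

end Cfsg.Agent.H990.TC
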