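import Cfsg.Agent.H990.TC.SumTwo
import Cfsg.Agent.H253.TwoComm.Fused

/-!
# Quotients of perfect central extensions, centralizers in central quotients (S2494, helper990)
-/

set_option autoImplicit false

namespace Cfsg.Agent.H990.TC

open Cfsg Subgroup
open Cfsg.Agent.H51.Mult (PCE)
open Cfsg.Agent.Characters.Core Cfsg.Agent.Characters.Central
open Cfsg.Agent.H253.TC (TwoComm oneChar sum_erase_norm_sq exists_ne_one card_ker_mul_card_range)

universe u v w

/-- the centralizer in a central quotient is not larger -/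
theorem card_cent_le {G : Type u} {K : Type v} [Group G] [Group K] [Finite G] (π : G →* K) (hs : Function.Surjective π)
    (hc : π.ker ≤ center G) (x : G) :
    Nat.card (centralizer ({π x} : Set K)) ≤ Nat.card (centralizer ({x} : Set G)) := by
  have hK : Finite K := Finite.of_surjective _ hs
  let H : Subgroup G := (centralizer ({π x} : Set K)).comap π
  have hH : Nat.card H = Nat.card π.ker * Nat.card (centralizer ({π x} : Set K)) := by
    have h3 : Nat.card H * (centralizer ({π x} : Set K)).index =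
        Nat.card π.ker * Nat.card (centralizer ({π x} : Set K)) * (centralizer ({π x} : Set K)).index := by
      rw [← index_comap_of_surjective _ hs, card_mul_index, index_comap_of_surjective _ hs, mul_assoc,
        card_mul_index, ← card_mul_index π.ker, index_ker, MonoidHom.range_eq_top.2 hs,
        Nat.card_congr topEquiv.toEquiv]
    exact Nat.eq_of_mul_eq_mul_right (Nat.pos_of_ne_zero index_ne_zero_of_finite) h3
  have hmem : ∀ g : G, g ∈ H → g * x * g⁻¹ * x⁻¹ ∈ π.ker := by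
    intro g hg
    have h1 : π g * π x = π x * π g := mem_centralizer_singleton_iff.1 hg
    rw [MonoidHom.mem_ker, map_mul, map_mul, map_mul, map_inv, map_inv, h1]
    group
  let f : H →* π.ker := MonoidHom.mk' (fun g => ⟨(g : G) * x * (g : G)⁻¹ * x⁻¹, hmem g g.2⟩) (by
    intro g h
    apply Subtype.ext
    show ((g : G) * (h : G)) * x * ((g : G) * (h : G))⁻¹ * x⁻¹ =
      ((g : G) * x * (g : G)⁻¹ * x⁻¹) * ((h : G) * x * (h : G)⁻¹ * x⁻¹)
    have h1 := mem_center_iff.1 (hc (hmem h h.2))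
    calc ((g : G) * (h : G)) * x * ((g : G) * (h : G))⁻¹ * x⁻¹
        = (g : G) * ((h : G) * x * (h : G)⁻¹ * x⁻¹) * (x * (g : G)⁻¹ * x⁻¹) := by group
      _ = ((h : G) * x * (h : G)⁻¹ * x⁻¹) * (g : G) * (x * (g : G)⁻¹ * x⁻¹) := by rw [h1]
      _ = ((h : G) * x * (h : G)⁻¹ * x⁻¹) * ((g : G) * x * (g : G)⁻¹ * x⁻¹) := by group
      _ = ((g : G) * x * (g : G)⁻¹ * x⁻¹) * ((h : G) * x * (h : G)⁻¹ * x⁻¹) := by rw [← h1])
  have h4 := card_ker_mul_card_range f
  have h5 : Nat.card f.ker ≤ Nat.card (centralizer ({x} : Set G)) := by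
    refine Nat.card_le_card_of_injective (fun g : f.ker => (⟨((g : H) : G), ?_⟩ : centralizer ({x} : Set G))) ?_
    · have h6 : ((g : H) : G) * x * ((g : H) : G)⁻¹ * x⁻¹ = 1 := congrArg Subtype.val g.2
      rw [mem_centralizer_singleton_iff]
      calc ((g : H) : G) * x = (((g : H) : G) * x * ((g : H) : G)⁻¹ * x⁻¹) * (x * ((g : H) : G)) := by group
        _ = x * ((g : H) : G) := by rw [h6, one_mul]
    · intro a b h
      exact Subtype.ext (Subtype.ext (Subtype.mk.inj h))
  have h6 : Nat.card f.range ≤ Nat.card π.ker := Nat.card_le_card_of_injective _ Subtype.val_injective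
  have h7 : Nat.card π.ker * Nat.card (centralizer ({π x} : Set K)) ≤
      Nat.card π.ker * Nat.card (centralizer ({x} : Set G)) := by
    rw [← hH, ← h4, mul_comm]
    exact Nat.mul_le_mul h6 h5
  exact Nat.le_of_mul_le_mul_left h7 Nat.card_pos

variable {L : Type u} {K : Type v} [Group L] [Group K] {π : L →* K}

/-- the quotient of a perfect central extension -/
def quo (N : Subgroup L) [N.Normal] (hN : N ≤ π.ker) : L ⧸ N →* K := QuotientGroup.lift N π fun _ hx => hN hx

theorem quo_mk (N : Subgroup L) [N.Normal] (hN : N ≤ π.ker) (g : L) : quo N hN (g : L ⧸ N) = π g := rfl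

theorem pce_quo (hπ : PCE π) (N : Subgroup L) [N.Normal] (hN : N ≤ π.ker) : PCE (quo N hN) := by
  refine ⟨?_, ?_, ?_⟩
  · intro x
    obtain ⟨g, rfl⟩ := hπ.surj x
    exact ⟨g, rfl⟩
  · intro x hx
    obtain ⟨g, rfl⟩ := QuotientGroup.mk_surjective x
    have h2 : g ∈ π.ker := hx
    rw [mem_center_iff]
    intro y
    obtain ⟨k, rfl⟩ := QuotientGroup.mk_surjective y
    rw [← QuotientGroup.mk_mul, ← QuotientGroup.mk_mul, mem_center_iff.1 (hπ.cen h2) k]
  · rw [_root_.commutator_def, ← Subgroup.map_top_of_surjective _ (QuotientGroup.mk'_surjective N),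
      ← Subgroup.map_commutator, ← _root_.commutator_def, hπ.perf]

theorem card_ker_quo [Finite L] (hπ : PCE π) (N : Subgroup L) [N.Normal] (hN : N ≤ π.ker) :
    Nat.card N * Nat.card (quo N hN).ker = Nat.card π.ker := by
  have hK : Finite K := Finite.of_surjective _ hπ.surj
  have h1 := card_ker_mul_card_range π
  have h2 := card_ker_mul_card_range (quo N hN)
  rw [MonoidHom.range_eq_top.2 hπ.surj, Nat.card_congr topEquiv.toEquiv] at h1
  rw [MonoidHom.range_eq_top.2 (pce_quo hπ N hN).surj, Nat.card_congr topEquiv.toEquiv] at h2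
  have h3 := Subgroup.card_eq_card_quotient_mul_card_subgroup N
  rw [← h1, ← h2] at h3
  have hK0 : 0 < Nat.card K := Nat.card_pos
  have h4 : (Nat.card N * Nat.card (quo N hN).ker) * Nat.card K = Nat.card π.ker * Nat.card K := by
    rw [h3]; ring
  exact Nat.eq_of_mul_eq_mul_right hK0 h4

/-- the sum over the nontrivial characters from a bound for the degrees -/
theorem sum_lt_one {G : Type u} [Group G] [Finite G] [Fintype (IrrCharacter G)] [DecidableEq (IrrCharacter G)] (m : G)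
    {d : ℕ} (hd : 0 < d) (hdeg : ∀ χ : G → ℂ, IsIrrCharacter G χ → χ ≠ 1 → (d : ℝ) ≤ ‖χ 1‖)
    (hc : Nat.card (centralizer ({m} : Set G)) ≤ d ^ 2) :
    ∑ χ ∈ Finset.univ.erase (oneChar G), ‖(χ : G → ℂ) m‖ ^ 2 / ‖(χ : G → ℂ) 1‖ ^ 2 < (1 : ℝ) := by
  have hd' : (0 : ℝ) < d := by exact_mod_cast hd
  have h1 : ∑ χ ∈ Finset.univ.erase (oneChar G), ‖(χ : G → ℂ) m‖ ^ 2 / ‖(χ : G → ℂ) 1‖ ^ 2 ≤
      ∑ χ ∈ Finset.univ.erase (oneChar G), ‖(χ : G → ℂ) m‖ ^ 2 / (d : ℝ) ^ 2 := by
    refine Finset.sum_le_sum fun χ hχ => ?_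
    have h2 : (d : ℝ) ≤ ‖(χ : G → ℂ) 1‖ := hdeg _ χ.2 fun h => (Finset.mem_erase.1 hχ).1 (Subtype.ext h)
    gcongr
  refine h1.trans_lt ?_
  rw [← Finset.sum_div, sum_erase_norm_sq, div_lt_one (by positivity)]
  have h3 : (Nat.card (centralizer ({m} : Set G)) : ℝ) ≤ (d : ℝ) ^ 2 := by exact_mod_cast hc
  linarith

/-- absorption of the powers of a central commutator -/
theorem absorb_zpowers {G : Type u} [Group G] {m w n : G} (hn : n ∈ center G) (h : w * m * w⁻¹ = n * m) :
    ∀ z ∈ zpowers n, IsConj m (z * m) := by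
  rintro _ ⟨k, rfl⟩
  have hc := mem_center_iff.1 hn
  have key : ∀ k : ℕ, w ^ k * m * (w ^ k)⁻¹ = n ^ k * m := by
    intro k
    induction k with
    | zero => simp
    | succ k ih =>
      calc w ^ (k + 1) * m * (w ^ (k + 1))⁻¹ = w ^ k * (w * m * w⁻¹) * (w ^ k)⁻¹ := by rw [pow_succ]; group
        _ = w ^ k * (n * m) * (w ^ k)⁻¹ := by rw [h]
        _ = n * (w ^ k * m * (w ^ k)⁻¹) := by
            rw [show w ^ k * (n * m) = (w ^ k * n) * m by rw [mul_assoc], hc]; group
        _ = n ^ (k + 1) * m := by rw [ih, pow_succ', mul_assoc]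
  obtain ⟨k, rfl | rfl⟩ := k.eq_nat_or_neg
  · exact isConj_iff.2 ⟨w ^ k, by rw [key]; simp⟩
  · refine isConj_iff.2 ⟨(w ^ k)⁻¹, ?_⟩
    have h1 := key k
    have h2 : n ^ k ∈ center G := pow_mem hn k
    have h3 := mem_center_iff.1 h2
    have h4 : m = n ^ k * ((w ^ k)⁻¹ * m * (w ^ k)) := by
      calc m = (w ^ k)⁻¹ * (w ^ k * m * (w ^ k)⁻¹) * (w ^ k) := by group
        _ = (w ^ k)⁻¹ * (n ^ k * m) * (w ^ k) := by rw [h1]
        _ = (w ^ k)⁻¹ * n ^ k * (m * w ^ k) := by group
        _ = n ^ k * ((w ^ k)⁻¹ * m * (w ^ k)) := by rw [h3]; group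
    show (w ^ k)⁻¹ * m * ((w ^ k)⁻¹)⁻¹ = n ^ (-(k : ℤ)) * m
    rw [inv_inv, zpow_neg, zpow_natCast]
    conv_rhs => rw [h4]
    group

end Cfsg.Agent.H990.TC
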