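import Cfsg.Agent.H990.TC.L34Data
import Cfsg.Agent.H990.TC.Quot
import Cfsg.Agent.H990.TC.FuseSpec
import Cfsg.Agent.H990.TC.OrthCent
import Cfsg.Agent.Characters.DegreeBounds
import Cfsg.Agent.S0249

/-!
# Two commutators: the row `L₃(4)` (S2494, helper990)
-/

set_option autoImplicit false
set_option linter.unusedVariables false
set_option linter.constructorNameAsVariable false

namespace Cfsg.Agent.H990.TC.L34

open Matrix Subgroup
open Cfsg.Agent.H51.Mult (PCE)
open Cfsg.Agent.SporadicA.FieldFour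
open Cfsg.Agent.ONType.Psl
open Cfsg.Agent.H60.LThreeFour
open Cfsg.Agent.H253.TC (TwoComm oneChar exists_ne_one card_centralizer_le sum_erase_norm_sq)
open Cfsg.Agent.Characters.Core
open Cfsg.Agent.SporadicStructure.FieldNine (K9)

theorem pce_prS : PCE prS := ⟨prS_surj, by rw [prS_ker], perfect_SL3⟩

/-- relations modulo scalars -/
theorem prS_eq_of_smul {x y : SL3} {c : F4} (h : (x : N3) = c • (y : N3)) : prS x = prS y := by
  have h1 : x * y⁻¹ ∈ center SL3 := by
    apply scalar_mem _ c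
    rw [Matrix.SpecialLinearGroup.coe_mul, h, smul_mul_assoc, ← Matrix.SpecialLinearGroup.coe_mul, mul_inv_cancel,
      Matrix.SpecialLinearGroup.coe_one, Matrix.scalar_apply, Matrix.smul_one_eq_diagonal]
  have h2 : prS (x * y⁻¹) = 1 := by rw [← MonoidHom.mem_ker, prS_ker]; exact h1
  rw [map_mul, map_inv, mul_inv_eq_one] at h2
  exact h2

def p (u : V) : SL3 := ⟨P u, det_P u⟩

theorem prS_p_mul (u v : V) : prS (p u) * prS (p v) = prS (p (u + v)) := by
  rw [← map_mul]
  obtain ⟨k, -, hk⟩ := P_mul u v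
  exact prS_eq_of_smul (c := ω ^ k) hk

def φ : Multiplicative V →* PSL3 := MonoidHom.mk' (fun u => prS (p u.toAdd)) fun u v => (prS_p_mul _ _).symm

theorem φ_injective : Function.Injective φ := by
  rw [injective_iff_map_eq_one]
  intro u hu
  by_contra hne
  have hne' : u.toAdd ≠ 0 := fun h => hne (by rw [← ofAdd_toAdd u, h]; rfl)
  obtain ⟨v, hv⟩ := P_comm u.toAdd hne'
  have h1 : p u.toAdd ∈ center SL3 := by rw [← prS_ker]; exact hu
  apply hv
  exact (congrArg (fun x : SL3 => (x : N3)) (mem_center_iff.1 h1 (p v))).symm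

theorem isConj_par (u : V) (hu : u ≠ 0) : IsConj (prS (p (par u))) (prS (p u)) := by
  rcases fuse u hu with h | h
  · rw [h]
  · let g : SL3 := ⟨Gm (gen u), det_Gm _ (gen_lt u)⟩
    refine isConj_iff.2 ⟨prS g, ?_⟩
    have h1 : prS (g * p (par u)) = prS (p u * g) := prS_eq_of_smul (c := ω ^ scl u) h
    rw [← map_mul, h1, map_mul, mul_inv_cancel_right]

theorem isConj_root (u : V) (hu : u ≠ 0) : IsConj (prS (p (ofIdx 3))) (prS (p u)) := by
  rw [← par_three u hu]
  have h1 := par_ne u hu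
  have h2 := par_ne _ h1
  exact ((isConj_par _ h2).trans (isConj_par _ h1)).trans (isConj_par u hu)

theorem card_range : Nat.card φ.range = 9 := by
  rw [← Nat.card_congr (MonoidHom.ofInjective φ_injective).toEquiv, Nat.card_congr Multiplicative.toAdd,
    Nat.card_prod, Nat.card_zmod]

theorem isPGroup_range : IsPGroup 3 φ.range := IsPGroup.of_card (n := 2) (by rw [card_range]; norm_num)

theorem conj_range : ∀ a ∈ φ.range, a ≠ 1 → ∀ b ∈ φ.range, b ≠ 1 → IsConj a b := by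
  have key : ∀ a ∈ φ.range, a ≠ 1 → IsConj (prS (p (ofIdx 3))) a := by
    rintro _ ⟨u, rfl⟩ h
    refine isConj_root u.toAdd fun h0 => h ?_
    have : u = 1 := by rw [← ofAdd_toAdd u, h0]; rfl
    rw [this, map_one]
  intro a ha ha1 b hb hb1
  exact (key a ha ha1).symm.trans (key b hb hb1)

/-! ### centralizers -/

theorem card_diag : Nat.card {t : F4 × F4 × F4 // t.1 * t.2.1 * t.2.2 = 1} = 9 := by
  rw [Nat.card_eq_fintype_card]
  decide +kernel

theorem diag_spec : ∀ i j : Fin 3, i ≠ j → ∀ x : F4,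
    x * (![1, ω, ω2] : Fin 3 → F4) j = (![1, ω, ω2] : Fin 3 → F4) i * x → x = 0 := by decide +kernel

/-- the element of order three -/
def eS : SL3 := p (1, 0)

theorem eS_coe : (eS : N3) = Matrix.diagonal ![1, ω, ω2] := P_one

theorem cent_eS_diag {g : SL3} (hg : g * eS = eS * g) {i j : Fin 3} (hij : i ≠ j) : (g : N3) i j = 0 := by
  apply diag_spec i j hij
  have h1 : (g : N3) * (eS : N3) = (eS : N3) * (g : N3) := congrArg (fun x : SL3 => (x : N3)) hg
  rw [eS_coe] at h1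
  have h2 := congrFun (congrFun h1 i) j
  rwa [Matrix.mul_diagonal, Matrix.diagonal_mul] at h2

theorem card_cent_eS : Nat.card (centralizer ({eS} : Set SL3)) ≤ 9 := by
  rw [← card_diag]
  have hd : ∀ g : centralizer ({eS} : Set SL3), ∀ i j : Fin 3, i ≠ j → ((g : SL3) : N3) i j = 0 :=
    fun g i j hij => cent_eS_diag (mem_centralizer_singleton_iff.1 g.2) hij
  refine Nat.card_le_card_of_injective
    (fun g => (⟨(((g : SL3) : N3) 0 0, ((g : SL3) : N3) 1 1, ((g : SL3) : N3) 2 2), ?_⟩ :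
      {t : F4 × F4 × F4 // t.1 * t.2.1 * t.2.2 = 1})) ?_
  · have h1 := (g : SL3).2
    rw [Matrix.det_fin_three, hd g 0 1 (by decide), hd g 0 2 (by decide), hd g 1 2 (by decide)] at h1
    simpa using h1
  · intro g g' h
    have h0 : ((g : SL3) : N3) 0 0 = ((g' : SL3) : N3) 0 0 := congrArg (fun t => t.1.1) h
    have h1 : ((g : SL3) : N3) 1 1 = ((g' : SL3) : N3) 1 1 := congrArg (fun t => t.1.2.1) h
    have h2 : ((g : SL3) : N3) 2 2 = ((g' : SL3) : N3) 2 2 := congrArg (fun t => t.1.2.2) h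
    apply Subtype.ext
    apply Subtype.ext
    refine Matrix.ext fun i j => ?_
    by_cases hij : i = j
    · subst hij
      fin_cases i
      · exact h0
      · exact h1
      · exact h2
    · rw [hd g i j hij, hd g' i j hij]

theorem card_row : Nat.card {t : F4 × F4 × F4 // t.1 ≠ 0} = 48 := by
  rw [Nat.card_eq_fintype_card]
  decide +kernel

theorem det_A3 : A3.det = 1 := by decide +kernel

/-- the regular unipotent element -/
def aS : SL3 := ⟨A3, det_A3⟩

theorem cent_aS_spec {g : SL3} (hg : g * aS = aS * g) :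
    (g : N3) 2 0 = 0 ∧ (g : N3) 2 1 = 0 ∧ (g : N3) 1 0 = 0 ∧ (g : N3) 1 1 = (g : N3) 0 0 ∧
      (g : N3) 2 2 = (g : N3) 0 0 ∧ (g : N3) 1 2 = ω * (g : N3) 0 1 := by
  have h1 : (g : N3) * A3 = A3 * (g : N3) := congrArg (fun x : SL3 => (x : N3)) hg
  have hω : (ω : F4) ≠ 0 := by decide
  have h21 := congrFun (congrFun h1 2) 1
  have h22 := congrFun (congrFun h1 2) 2
  have h11 := congrFun (congrFun h1 1) 1
  have h12 := congrFun (congrFun h1 1) 2
  have h01 := congrFun (congrFun h1 0) 1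
  have h02 := congrFun (congrFun h1 0) 2
  simp only [Matrix.mul_apply, Fin.sum_univ_three, A3, Matrix.of_apply, Matrix.cons_val', Matrix.cons_val_zero,
    Matrix.cons_val_one, Matrix.cons_val, Matrix.cons_val_fin_one, mul_one, mul_zero, zero_mul, one_mul, add_zero,
    zero_add] at h21 h22 h11 h12 h01 h02
  have e20 : (g : N3) 2 0 = 0 := by linear_combination h21
  have e21 : (g : N3) 2 1 = 0 := by
    have : (g : N3) 2 1 * ω = 0 := by rw [e20] at h22; linear_combination h22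
    exact (mul_eq_zero.1 this).resolve_right hω
  have e10 : (g : N3) 1 0 = 0 := by rw [e21] at h11; linear_combination h11
  have e11 : (g : N3) 2 2 = (g : N3) 1 1 := by
    have : ω * ((g : N3) 2 2 - (g : N3) 1 1) = 0 := by rw [e10] at h12; linear_combination -h12
    exact sub_eq_zero.1 ((mul_eq_zero.1 this).resolve_left hω)
  have e00 : (g : N3) 1 1 = (g : N3) 0 0 := by rw [e21] at h01; linear_combination -h01
  refine ⟨e20, e21, e10, e00, e11.trans e00, ?_⟩
  rw [e11, e00] at h02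
  linear_combination -h02

theorem card_cent_aS : Nat.card (centralizer ({aS} : Set SL3)) ≤ 48 := by
  rw [← card_row]
  have hd : ∀ g : centralizer ({aS} : Set SL3), _ := fun g => cent_aS_spec (mem_centralizer_singleton_iff.1 g.2)
  refine Nat.card_le_card_of_injective
    (fun g => (⟨(((g : SL3) : N3) 0 0, ((g : SL3) : N3) 0 1, ((g : SL3) : N3) 0 2), ?_⟩ :
      {t : F4 × F4 × F4 // t.1 ≠ 0})) ?_
  · intro h0
    obtain ⟨e20, e21, e10, e11, e22, e12⟩ := hd g
    have h1 := (g : SL3).2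
    have h0' : ((g : SL3) : N3) 0 0 = 0 := h0
    rw [Matrix.det_fin_three, e20, e10, h0'] at h1
    simp at h1
  · intro g g' h
    obtain ⟨e20, e21, e10, e11, e22, e12⟩ := hd g
    obtain ⟨f20, f21, f10, f11, f22, f12⟩ := hd g'
    have h0 : ((g : SL3) : N3) 0 0 = ((g' : SL3) : N3) 0 0 := congrArg (fun t => t.1.1) h
    have h1 : ((g : SL3) : N3) 0 1 = ((g' : SL3) : N3) 0 1 := congrArg (fun t => t.1.2.1) h
    have h2 : ((g : SL3) : N3) 0 2 = ((g' : SL3) : N3) 0 2 := congrArg (fun t => t.1.2.2) h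
    apply Subtype.ext
    apply Subtype.ext
    refine Matrix.ext fun i j => ?_
    fin_cases i <;> fin_cases j
    · exact h0
    · exact h1
    · exact h2
    · exact e10.trans f10.symm
    · exact e11.trans (h0.trans f11.symm)
    · exact e12.trans ((congrArg (ω * ·) h1).trans f12.symm)
    · exact e20.trans f20.symm
    · exact e21.trans f21.symm
    · exact e22.trans (h0.trans f22.symm)

theorem aS_four : aS ^ 4 = 1 := by
  have h : aS * aS * (aS * aS) = 1 := Subtype.ext A3_four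
  rw [← h]; simp only [pow_succ, pow_zero, one_mul, mul_assoc]

theorem center_cube {z : SL3} (hz : z ∈ center SL3) : z ^ 3 = 1 := by
  have h1 : (⟨z, hz⟩ : center SL3) ^ Nat.card (center SL3) = 1 := pow_card_eq_one'
  rw [card_center] at h1
  exact congrArg Subtype.val h1

theorem card_cent_prS_aS : Nat.card (centralizer ({prS aS} : Set PSL3)) ≤ 16 := by
  have h1 := Cfsg.Agent.H990.TC.OrthCent.card_cent_quot (Z := center SL3) le_rfl (x := aS) (r := 4) aS_four (fun z hz h => by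
    have h3 := center_cube hz
    rw [pow_succ, h3, one_mul] at h
    exact h)
  rw [card_center] at h1
  have h2 := card_cent_aS
  have h3 : Nat.card (centralizer ({prS aS} : Set PSL3)) * 3 = Nat.card (centralizer ({aS} : Set SL3)) := h1
  omega

theorem card_cent_prS_eS : Nat.card (centralizer ({prS eS} : Set PSL3)) ≤ 9 :=
  (card_cent_le prS pce_prS.surj pce_prS.cen eS).trans card_cent_eS

theorem prS_eS : prS eS = φ (Multiplicative.ofAdd (1, 0)) := rfl

theorem prS_eS_ne : prS eS ≠ 1 := by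
  rw [prS_eS]
  intro h
  rw [← map_one φ] at h
  have h1 := φ_injective h
  have h2 : ((1, 0) : V) = 0 := h1
  exact absurd h2 (by decide)

/-! ### the degrees against the values -/

/-- a perfect central extension with kernel of order dividing four: the values at the elements of order three are small -/
theorem value_bound {L : Type} [Group L] [Finite L] {π : L →* PSL3} (hπ : PCE π) (h4 : Nat.card π.ker ∣ 4) {e : L}
    (he : π e = prS eS) (he3 : e ^ 3 = 1) (χ : IrrCharacter L) (hχ : (χ : L → ℂ) ≠ 1) :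
    8 * ‖(χ : L → ℂ) e‖ ≤ ‖(χ : L → ℂ) 1‖ := by
  haveI : IsSimpleGroup PSL3 := Cfsg.Agent.S0249.result 3 le_rfl
  have hpr : Nat.Prime 3 := by norm_num
  have hcop : ¬ 3 ∣ Nat.card π.ker := fun h => absurd (h.trans h4) (by decide)
  have hlt := norm_sq_lt hπ (e := e) (by rw [he]; exact prS_eS_ne) χ
  obtain ⟨n, ρ, hρ, hρχ⟩ := χ.2
  rw [← hρχ] at hlt hχ ⊢
  obtain ⟨m, k, hk0, h1, h2⟩ := fused_spec hπ hpr hcop ρ (exists_ne_one hρ hχ) φ.range isPGroup_range
    (by rw [card_range]; norm_num) conj_range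
  have h3 := h2 e (by rw [he, prS_eS]; exact ⟨_, rfl⟩) (by rw [he]; exact prS_eS_ne)
    (by rw [card_range, show 9 = 3 * 3 by norm_num, pow_mul, he3, one_pow])
  rw [card_range] at h1
  have hdvd : n ∣ Nat.card L := by
    have h5 := Cfsg.Agent.Characters.DegreeBounds.finrank_dvd_card ρ
    rwa [Module.finrank_fin_fun] at h5
  have hcardL : Nat.card L ∣ 4 * 20160 := by
    rw [← card_mul_index π.ker, index_ker, MonoidHom.range_eq_top.2 hπ.surj, Nat.card_congr topEquiv.toEquiv,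
      Cfsg.Agent.ONType.PslCard.card_PSL3]
    exact Nat.mul_dvd_mul h4 dvd_rfl
  have hn11 : n ≠ 11 := by
    rintro rfl
    exact absurd (hdvd.trans hcardL) (by norm_num)
  have hc : (Nat.card (centralizer ({π e} : Set PSL3)) : ℝ) ≤ 9 := by
    rw [he]
    exact_mod_cast card_cent_prS_eS
  have h4' : ρ.character e = (((m : ℤ) - k : ℤ) : ℂ) := by rw [h3]; push_cast; ring
  have hnorm : ‖ρ.character e‖ = |(((m : ℤ) - k : ℤ) : ℝ)| := by
    rw [h4', Complex.norm_intCast]
  rw [hnorm] at hlt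
  have hsq : ((m : ℤ) - k) ^ 2 < 9 := by
    have h6 : |(((m : ℤ) - k : ℤ) : ℝ)| ^ 2 < 9 := lt_of_lt_of_le hlt hc
    rw [sq_abs] at h6
    exact_mod_cast h6
  have hlt3 : (m : ℤ) - k < 3 := by nlinarith
  rw [hnorm, Representation.char_one, Module.finrank_fin_fun, Complex.norm_natCast]
  have h7 : 8 * |(m : ℤ) - k| ≤ n := by
    rcases abs_cases ((m : ℤ) - k) with ⟨h8, h9⟩ | ⟨h8, h9⟩
    · rw [h8]
      have hk1 : k = 1 ∨ 2 ≤ k := by omega
      rcases hk1 with hk1 | hk1
      · subst hk1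
        omega
      · omega
    · rw [h8]
      omega
  exact_mod_cast h7

/-! ### the universal cover -/

theorem card_ker_prU : Nat.card prU.ker = 48 := by
  obtain ⟨e⟩ := nonempty_equiv
  rw [← Nat.card_congr e.toEquiv, Nat.card_congr Multiplicative.toAdd, Nat.card_prod, Nat.card_prod, Nat.card_zmod,
    Nat.card_zmod]

/-- commutators do not depend on central factors -/
theorem comm_central {G : Type*} [Group G] {a d c c' : G} (hc : c ∈ center G) (hc' : c' ∈ center G) :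
    (d * c') * (a * c) * (d * c')⁻¹ * (a * c)⁻¹ = d * a * d⁻¹ * a⁻¹ := by
  have h1 := mem_center_iff.1 hc
  have h2 := mem_center_iff.1 hc'
  have e1 : (d * c') * (a * c) = (d * a) * (c * c') := by
    calc (d * c') * (a * c) = d * (c' * (a * c)) := by group
      _ = d * ((a * c) * c') := by rw [h2]
      _ = (d * a) * (c * c') := by group
  have e2 : (a * c) * (d * c') = (a * d) * (c * c') := by
    calc (a * c) * (d * c') = a * (c * d) * c' := by group
      _ = a * (d * c) * c' := by rw [h1]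
      _ = (a * d) * (c * c') := by group
  calc (d * c') * (a * c) * (d * c')⁻¹ * (a * c)⁻¹ = ((d * c') * (a * c)) * ((a * c) * (d * c'))⁻¹ := by group
    _ = ((d * a) * (c * c')) * ((a * d) * (c * c'))⁻¹ := by rw [e1, e2]
    _ = d * a * d⁻¹ * a⁻¹ := by group

/-- the lifts in the group of helper60 -/
noncomputable def aM : MM := G 0 * ((G 3 * G 3) * (G 1 * G 3))
noncomputable def dM : MM := G 1 * ((G 3 * G 3) * ((G 0 * G 1) * G 3))

/-- the projection to the matrices over `F₉` -/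
def psi : MM →* N4 := (Units.coeHom _).comp ((MonoidHom.fst _ _).comp MM.subtype)

theorem psi_aM : psi aM = AM := AM_word
theorem psi_dM : psi dM = DM := DM_word

theorem psi_comm : psi (dM * aM * dM⁻¹ * aM⁻¹) = (k 6) • (1 : N4) := by
  have h1 : psi (dM * aM * dM⁻¹ * aM⁻¹) * psi (aM * dM) = (k 6) • psi (aM * dM) := by
    rw [← map_mul, show dM * aM * dM⁻¹ * aM⁻¹ * (aM * dM) = dM * aM by group, map_mul, map_mul, psi_aM, psi_dM,
      DM_mul_AM]
  calc psi (dM * aM * dM⁻¹ * aM⁻¹)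
      = psi (dM * aM * dM⁻¹ * aM⁻¹) * psi (aM * dM) * psi (aM * dM)⁻¹ := by
        rw [mul_assoc (psi (dM * aM * dM⁻¹ * aM⁻¹)), ← map_mul psi (aM * dM), mul_inv_cancel, map_one, mul_one]
    _ = (k 6) • (psi (aM * dM) * psi (aM * dM)⁻¹) := by rw [h1, smul_mul_assoc]
    _ = (k 6) • (1 : N4) := by rw [← map_mul, mul_inv_cancel, map_one]

theorem piM_aM : piM aM = prS aS := by
  have h : (aM : Amb).2 = aS := Subtype.ext A3_word
  rw [piM_mk]
  show (QuotientGroup.mk (aM : Amb).2 : PSL3) = _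
  rw [h]
  rfl

theorem piM_comm : piM (dM * aM * dM⁻¹ * aM⁻¹) = 1 := by
  have hd : (dM : Amb).2 = ⟨D3, by decide +kernel⟩ := Subtype.ext D3_word
  have ha : (aM : Amb).2 = aS := Subtype.ext A3_word
  have h : piM (dM * aM) = piM (aM * dM) := by
    rw [piM_mk, piM_mk]
    show (QuotientGroup.mk ((dM : Amb).2 * (aM : Amb).2) : PSL3) = QuotientGroup.mk ((aM : Amb).2 * (dM : Amb).2)
    rw [hd, ha]
    congr 1
    exact Subtype.ext A3_comm
  rw [show dM * aM * dM⁻¹ * aM⁻¹ = (dM * aM) * (aM * dM)⁻¹ by group, map_mul, map_inv, h, mul_inv_cancel]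

theorem orderOf_k6 : orderOf (k 6) = 4 := by
  haveI : Fact (Nat.Prime 2) := ⟨Nat.prime_two⟩
  have := orderOf_eq_prime_pow (p := 2) (n := 1) (x := k 6) (by rw [pow_one]; exact k6_four.2) k6_four.1
  simpa using this

/-- the element `a` absorbs a subgroup of order divisible by four -/
theorem exists_a : ∃ a d n : U, prU a = prS aS ∧ n ∈ prU.ker ∧ 4 ∣ orderOf n ∧ d * a * d⁻¹ = n * a := by
  obtain ⟨θ, hθ⟩ := H487.exists_prU_lift PSL3 (MonoidHom.id PSL3) ce.surj
    (fun k hk => mem_center_iff.2 fun m => (ce.cen k hk m).symm)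
  have hθ' : ∀ x, piM (θ x) = prU x := fun x => DFunLike.congr_fun hθ x
  obtain ⟨a, ha⟩ := pceU.surj (piM aM)
  obtain ⟨d, hd⟩ := pceU.surj (piM dM)
  have hcen : ∀ {x y : MM}, piM x = piM y → y⁻¹ * x ∈ center MM := by
    intro x y h
    have h1 : piM (y⁻¹ * x) = 1 := by rw [map_mul, map_inv, h, inv_mul_cancel]
    exact mem_center_iff.2 fun m => (ce.cen _ h1 m).symm
  have hn : θ (d * a * d⁻¹ * a⁻¹) = dM * aM * dM⁻¹ * aM⁻¹ := by
    rw [map_mul, map_mul, map_mul, map_inv, map_inv]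
    have h1 : θ a = aM * (aM⁻¹ * θ a) := by group
    have h2 : θ d = dM * (dM⁻¹ * θ d) := by group
    rw [h1, h2, comm_central (hcen ((hθ' a).trans ha)) (hcen ((hθ' d).trans hd))]
  refine ⟨a, d, d * a * d⁻¹ * a⁻¹, ha.trans piM_aM, ?_, ?_, by group⟩
  · rw [MonoidHom.mem_ker, ← hθ', hn, piM_comm]
  · rw [← orderOf_k6]
    apply orderOf_dvd_of_pow_eq_one
    have h1 := congrArg (fun x => psi (θ x)) (pow_orderOf_eq_one (d * a * d⁻¹ * a⁻¹))
    simp only [map_pow, hn, psi_comm, map_one] at h1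
    rw [smul_pow, one_pow] at h1
    have h2 := congrFun (congrFun h1 0) 0
    rw [Matrix.smul_apply, Matrix.one_apply_eq, smul_eq_mul, mul_one] at h2
    exact h2

/-- the element `e` absorbs a subgroup of order three -/
theorem exists_e : ∃ e w t : U, prU e = prS eS ∧ t ∈ prU.ker ∧ 3 ∣ orderOf t ∧ w * e * w⁻¹ = t * e ∧
    ∃ e0 : U, e0 ^ 16 = e ∧ prU (e0 ^ 3) = 1 := by
  have hcen : prS.ker ≤ center SL3 := by rw [prS_ker]
  obtain ⟨θ, hθ⟩ := H487.exists_prU_lift PSL3 (MonoidHom.id PSL3) prS_surj hcen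
  have hθ' : ∀ x, prS (θ x) = prU x := fun x => DFunLike.congr_fun hθ x
  have hs : Function.Surjective θ := by
    have h1 := H487.commutator_eq_map_of_central hcen (φ := θ) (by
      rw [hθ]; exact pceU.surj)
    rw [perfect_SL3, (H487.isPerfect_UU isPerfect_PSL3).commutator_eq_top, ← MonoidHom.range_eq_map] at h1
    exact MonoidHom.range_eq_top.1 h1.symm
  obtain ⟨e, he⟩ := hs eS
  obtain ⟨w, hw⟩ := hs (gs 3)
  have he3 : eS ^ 3 = 1 := by
    have h : eS * eS * eS = 1 := Subtype.ext P_pow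
    rw [← h]; simp only [pow_succ, pow_zero, one_mul]
  -- the commutator
  obtain ⟨t, ht⟩ : ∃ t, t = w * e * w⁻¹ * e⁻¹ := ⟨_, rfl⟩
  have hrel : ((gs 3 * eS : SL3) : N3) = ω • ((eS * gs 3 : SL3) : N3) := P_rel
  have hθt : θ t * (eS * gs 3) = gs 3 * eS := by
    rw [ht, map_mul, map_mul, map_mul, map_inv, map_inv, he, hw]; group
  have hθt1 : ((θ t : SL3) : N3) = ω • (1 : N3) := by
    have h1 : θ t = (gs 3 * eS) * (eS * gs 3)⁻¹ := by rw [← hθt, mul_inv_cancel_right]
    rw [h1, Matrix.SpecialLinearGroup.coe_mul, hrel, smul_mul_assoc, ← Matrix.SpecialLinearGroup.coe_mul,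
      mul_inv_cancel, Matrix.SpecialLinearGroup.coe_one]
  have htk : t ∈ prU.ker := by
    rw [MonoidHom.mem_ker, ← hθ', ← MonoidHom.mem_ker, prS_ker]
    apply scalar_mem _ ω
    rw [hθt1, Matrix.scalar_apply, Matrix.smul_one_eq_diagonal]
  have htc := mem_center_iff.1 (pceU.cen htk)
  have hwe : w * e * w⁻¹ = t * e := by rw [ht]; group
  have hw16 : w * e ^ 16 * w⁻¹ = t ^ 16 * e ^ 16 := by
    have h2 : Commute t e := (htc e).symm
    rw [← conj_pow, hwe, h2.mul_pow]
  refine ⟨e ^ 16, w, t ^ 16, ?_, pow_mem htk 16, ?_, hw16, e, rfl, ?_⟩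
  · rw [← hθ', map_pow, he, show eS ^ 16 = (eS ^ 3) ^ 5 * eS by group, he3, one_pow, one_mul]
  · have h3 : orderOf (ω : F4) = 3 := by
      haveI : Fact (Nat.Prime 3) := ⟨by norm_num⟩
      exact orderOf_eq_prime om_pow.1 om_pow.2
    have h4 : ω ^ (16 * orderOf (t ^ 16)) = 1 := by
      have h1 := congrArg (fun x => ((θ x : SL3) : N3)) (pow_orderOf_eq_one (t ^ 16))
      simp only [map_pow, map_one, Matrix.SpecialLinearGroup.coe_pow, hθt1, Matrix.SpecialLinearGroup.coe_one] at h1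
      rw [smul_pow, smul_pow, one_pow, one_pow, ← pow_mul] at h1
      have h2 := congrFun (congrFun h1 0) 0
      rw [Matrix.smul_apply, Matrix.one_apply_eq, smul_eq_mul, mul_one] at h2
      exact h2
    have h5 := orderOf_dvd_of_pow_eq_one h4
    rw [h3] at h5
    exact (Nat.Coprime.dvd_mul_left (by norm_num)).1 h5
  · rw [← hθ', map_pow, he, he3, map_one]

/-- **the row** -/
theorem row : Cfsg.Agent.H253.TC.Row PSL3 := by
  classical
  refine Cfsg.Agent.H253.TC.Row.of_univ hasMultiplier pceU ?_ ?_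
  · rw [card_ker_prU, Nat.card_congr Multiplicative.toAdd, Nat.card_prod, Nat.card_prod, Nat.card_zmod,
      Nat.card_zmod]
  obtain ⟨a, d, n, ha, hn, hn4, hda⟩ := exists_a
  obtain ⟨e, w, t, he, ht, ht3, hwe, e0, he0, he03⟩ := exists_e
  have hNle : zpowers n ⊔ zpowers t ≤ prU.ker := sup_le (by rwa [zpowers_le]) (by rwa [zpowers_le])
  haveI : (zpowers n ⊔ zpowers t).Normal := Cfsg.Agent.H51.Mult.normal_of_le_center (hNle.trans pceU.cen)
  have hnc := pceU.cen hn
  have htc := pceU.cen ht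
  have hq := pce_quo pceU (zpowers n ⊔ zpowers t) hNle
  have hqk := card_ker_quo pceU (zpowers n ⊔ zpowers t) hNle
  rw [card_ker_prU] at hqk
  have h4 : Nat.card (quo (zpowers n ⊔ zpowers t) hNle).ker ∣ 4 := by
    have h1 : 4 ∣ Nat.card (zpowers n ⊔ zpowers t : Subgroup U) := by
      refine hn4.trans ?_
      rw [← Nat.card_zpowers]
      exact card_dvd_of_le le_sup_left
    have h2 : 3 ∣ Nat.card (zpowers n ⊔ zpowers t : Subgroup U) := by
      refine ht3.trans ?_
      rw [← Nat.card_zpowers]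
      exact card_dvd_of_le le_sup_right
    obtain ⟨r, hr⟩ : 12 ∣ Nat.card (zpowers n ⊔ zpowers t : Subgroup U) :=
      Nat.Coprime.mul_dvd_of_dvd_of_dvd (by norm_num : Nat.Coprime 4 3) h1 h2
    rw [hr] at hqk
    exact ⟨r, by nlinarith⟩
  refine twoComm_of_absorb₂ (zpowers n ⊔ zpowers t) a e ?_ ?_
  · intro z hz
    haveI : (zpowers t).Normal := Cfsg.Agent.H51.Mult.normal_of_le_center (zpowers_le.2 htc)
    obtain ⟨x, hx, y, hy, rfl⟩ := mem_sup_of_normal_right.1 hz
    refine ⟨x, ?_, y, ?_, rfl, absorb_zpowers hnc hda x hx, absorb_zpowers htc hwe y hy⟩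
    · exact (zpowers_le.2 hnc) hx
    · exact (zpowers_le.2 htc) hy
  haveI : Finite (IrrCharacter (U ⧸ (zpowers n ⊔ zpowers t))) := finite_irr
  haveI := Fintype.ofFinite (IrrCharacter (U ⧸ (zpowers n ⊔ zpowers t)))
  refine fun g => exists_of_sum₂ _ _ ?_ g
  set a1 : U ⧸ (zpowers n ⊔ zpowers t) := (a : U ⧸ (zpowers n ⊔ zpowers t)) with ha1
  set e1 : U ⧸ (zpowers n ⊔ zpowers t) := (e : U ⧸ (zpowers n ⊔ zpowers t)) with he1
  have hqa : quo (zpowers n ⊔ zpowers t) hNle a1 = prS aS := ha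
  have hqe : quo (zpowers n ⊔ zpowers t) hNle e1 = prS eS := he
  have he13 : e1 ^ 3 = 1 := by
    obtain ⟨f, hf⟩ : ∃ f : U ⧸ (zpowers n ⊔ zpowers t), f = ((e0 ^ 3 : U) : U ⧸ (zpowers n ⊔ zpowers t)) := ⟨_, rfl⟩
    have hfk : f ∈ (quo (zpowers n ⊔ zpowers t) hNle).ker := by rw [hf]; exact he03
    have h1 : f ^ Nat.card (quo (zpowers n ⊔ zpowers t) hNle).ker = 1 := by
      have h3 : (⟨f, hfk⟩ : (quo (zpowers n ⊔ zpowers t) hNle).ker) ^
        Nat.card (quo (zpowers n ⊔ zpowers t) hNle).ker = 1 := pow_card_eq_one'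
      exact congrArg Subtype.val h3
    have h2 : f ^ 16 = 1 := by
      obtain ⟨r, hr⟩ := h4.trans (show 4 ∣ 16 by norm_num)
      rw [hr, pow_mul, h1, one_pow]
    have h5 : e1 ^ 3 = f ^ 16 := by
      rw [he1, hf, ← QuotientGroup.mk_pow, ← QuotientGroup.mk_pow, ← he0, ← pow_mul, ← pow_mul]
    rw [h5, h2]
  have hcard : Nat.card (centralizer ({a1} : Set (U ⧸ (zpowers n ⊔ zpowers t)))) ≤ 64 := by
    refine (card_centralizer_le hq a1).trans ?_
    rw [hqa]
    calc _ ≤ 4 * 16 := Nat.mul_le_mul (Nat.le_of_dvd (by norm_num) h4) card_cent_prS_aS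
      _ = 64 := by norm_num
  have hle : ∑ χ ∈ Finset.univ.erase (oneChar (U ⧸ (zpowers n ⊔ zpowers t))),
      ‖(χ : U ⧸ (zpowers n ⊔ zpowers t) → ℂ) a1‖ ^ 2 * ‖(χ : U ⧸ (zpowers n ⊔ zpowers t) → ℂ) e1‖ ^ 2 /
        ‖(χ : U ⧸ (zpowers n ⊔ zpowers t) → ℂ) 1‖ ^ 2 ≤
      ∑ χ ∈ Finset.univ.erase (oneChar (U ⧸ (zpowers n ⊔ zpowers t))),
        ‖(χ : U ⧸ (zpowers n ⊔ zpowers t) → ℂ) a1‖ ^ 2 / 64 := by
    refine Finset.sum_le_sum fun χ hχ => ?_
    have h1 := value_bound hq h4 hqe he13 χ fun h => (Finset.mem_erase.1 hχ).1 (Subtype.ext h)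
    have h0 : 0 < ‖(χ : U ⧸ (zpowers n ⊔ zpowers t) → ℂ) 1‖ := norm_pos_iff.mpr (isIrr_apply_one_ne_zero χ.2)
    have h2 := norm_nonneg ((χ : U ⧸ (zpowers n ⊔ zpowers t) → ℂ) e1)
    have h3 : 64 * ‖(χ : U ⧸ (zpowers n ⊔ zpowers t) → ℂ) e1‖ ^ 2 ≤
        ‖(χ : U ⧸ (zpowers n ⊔ zpowers t) → ℂ) 1‖ ^ 2 := by nlinarith
    have h5 : 0 ≤ ‖(χ : U ⧸ (zpowers n ⊔ zpowers t) → ℂ) a1‖ ^ 2 := by positivity
    rw [div_le_div_iff₀ (by positivity) (by norm_num)]
    nlinarith [mul_le_mul_of_nonneg_left h3 h5]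
  refine hle.trans_lt ?_
  rw [← Finset.sum_div, sum_erase_norm_sq, div_lt_one (by norm_num)]
  have h3 : (Nat.card (centralizer ({a1} : Set (U ⧸ (zpowers n ⊔ zpowers t)))) : ℝ) ≤ 64 := by exact_mod_cast hcard
  linarith

end Cfsg.Agent.H990.TC.L34

namespace Cfsg.Agent.H990.TC

/-- **the row `L₃(4)`** -/
theorem row_l34 {F : Type*} [Field F] [Fintype F] (hF : Fintype.card F = 4) :
    Cfsg.Agent.H253.TC.Row (Matrix.ProjectiveSpecialLinearGroup (Fin 3) F) := by
  obtain ⟨e⟩ := Cfsg.Agent.SporadicA.FieldFour.nonempty_psl_equiv (n := Fin 3) F hF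
  exact L34.row.congr e

end Cfsg.Agent.H990.TC
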