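import Cfsg.Agent.H990.TC.U43Data
import Cfsg.Agent.H990.TC.Quot
import Cfsg.Agent.LieClassical.HermPerfect
import Cfsg.Agent.LieClassical.FieldTransfer
import Cfsg.Agent.S2090
import Cfsg.Agent.S0283

/-!
# Two commutators: the row `U₄(3)` (S2494, helper990)
-/

set_option autoImplicit false
set_option linter.unusedVariables false

namespace Cfsg.Agent.H990.TC.U43

open Cfsg Matrix Subgroup
open Cfsg.Agent.H51.Mult (PCE)
open Cfsg.Agent.H253.TC (TwoComm oneChar exists_ne_one deg_fused card_centralizer_le)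
open Cfsg.Agent.H674.Explicit Cfsg.Agent.H674.ExplicitCases Cfsg.Agent.H674.SUTools Cfsg.Agent.H674.SUBlock
open Cfsg.Agent.Characters.Core

abbrev S := Cfsg.SU 4 F9 3
abbrev K := Cfsg.PSU 4 F9 3

theorem h9 : Fintype.card F9 = 3 ^ 2 := card_QF 3 2 0

theorem perf_S : commutator S = ⊤ :=
  Cfsg.Agent.LieClassical.HermPerfect.commutator_SU_eq_top h9 (by norm_num) (by norm_num)

theorem pce_pr : PCE (pr : S →* K) := by
  refine ⟨pr_surjective, ?_, perf_S⟩
  intro x hx
  exact (pr_eq_one_iff x).1 hx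

/-- scalars are central -/
theorem mem_center_of_smul {x : S} {c : F9} (h : cm x = c • (1 : M4)) : x ∈ center S := by
  rw [mem_center_iff]
  intro g
  apply cm_injective
  rw [map_mul, map_mul, h]
  simp

/-- relations modulo scalars -/
theorem pr_eq_of_smul {x y : S} {c : F9} (hc : good 3 (c • (1 : M4)) = true) (h : cm x = c • cm y) : pr x = pr y := by
  obtain ⟨z, hz⟩ := exists_of_good h9 hc
  have h1 : x = z * y := cm_injective (by rw [map_mul, h, hz]; simp)
  rw [h1, map_mul, (pr_eq_one_iff z).2 (mem_center_of_smul hz), one_mul]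

theorem good_neg : good 3 ((-1 : F9) • (1 : M4)) = true := by decide +kernel
theorem good_im_pow (k : ℕ) : good 3 (im ^ k • (1 : M4)) = true := by
  have h : ∀ k < 4, good 3 (im ^ k • (1 : M4)) = true := by decide +kernel
  have h1 : im ^ k = im ^ (k % 4) := by
    conv_lhs => rw [← Nat.div_add_mod k 4, pow_add, pow_mul, im_pow.1, one_pow, one_mul]
  rw [h1]
  exact h _ (Nat.mod_lt _ (by norm_num))

/-! ### the subgroup `2⁴` -/

noncomputable def p (u : V) : S := (exists_of_good h9 (good_P u)).choose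
theorem cm_p (u : V) : cm (p u) = P u := (exists_of_good h9 (good_P u)).choose_spec

theorem pr_p_mul (u v : V) : pr (p u) * pr (p v) = pr (p (u + v)) := by
  rw [← map_mul]
  rcases P_mul u v with h | h
  · refine congrArg _ (cm_injective ?_)
    rw [map_mul, cm_p, cm_p, cm_p, h]
  · refine pr_eq_of_smul good_neg ?_
    rw [map_mul, cm_p, cm_p, cm_p, h, neg_one_smul]

noncomputable def φ : Multiplicative V →* K := MonoidHom.mk' (fun u => pr (p u.toAdd)) fun u v => (pr_p_mul _ _).symm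

theorem φ_apply (u : V) : φ (Multiplicative.ofAdd u) = pr (p u) := rfl

theorem φ_injective : Function.Injective φ := by
  rw [injective_iff_map_eq_one]
  intro u hu
  by_contra hne
  have hne' : u.toAdd ≠ 0 := fun h => hne (by rw [← ofAdd_toAdd u, h]; rfl)
  obtain ⟨k, -, hk⟩ := P_comm u.toAdd hne'
  have h1 : p u.toAdd ∈ center S := (pr_eq_one_iff _).1 hu
  apply hk
  have h2 := congrArg cm (mem_center_iff.1 h1 (p (ofIdx (2 ^ k))))
  rw [map_mul, map_mul, cm_p, cm_p] at h2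
  exact h2.symm

theorem isConj_par (u : V) (hu : u ≠ 0) : IsConj (pr (p (par u))) (pr (p u)) := by
  rcases fuse u hu with h | h
  · rw [h]
  · obtain ⟨g, hg⟩ := exists_of_good h9 (good_Gm (gen u) (gen_lt u))
    refine isConj_iff.2 ⟨pr g, ?_⟩
    have h1 : pr (g * p (par u)) = pr (p u * g) := by
      refine pr_eq_of_smul (good_im_pow (scl u)) ?_
      rw [map_mul, map_mul, cm_p, cm_p, hg, h]
    rw [← map_mul, h1, map_mul, mul_inv_cancel_right]

theorem isConj_root (u : V) (hu : u ≠ 0) : IsConj (pr (p (ofIdx 1))) (pr (p u)) := by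
  rw [← par_four u hu]
  have h1 := par_ne u hu
  have h2 := par_ne _ h1
  have h3 := par_ne _ h2
  exact (((isConj_par _ h3).trans (isConj_par _ h2)).trans (isConj_par _ h1)).trans (isConj_par u hu)

theorem card_range : Nat.card φ.range = 16 := by
  rw [← Nat.card_congr (MonoidHom.ofInjective φ_injective).toEquiv, Nat.card_congr Multiplicative.toAdd,
    Nat.card_prod, Nat.card_prod, Nat.card_prod, Nat.card_zmod]

theorem isPGroup_range : IsPGroup 2 φ.range := IsPGroup.of_card (n := 4) (by rw [card_range]; norm_num)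

theorem conj_range : ∀ a ∈ φ.range, a ≠ 1 → ∀ b ∈ φ.range, b ≠ 1 → IsConj a b := by
  have key : ∀ a ∈ φ.range, a ≠ 1 → IsConj (pr (p (ofIdx 1))) a := by
    rintro _ ⟨u, rfl⟩ h
    refine isConj_root u.toAdd fun h0 => h ?_
    have : u = 1 := by rw [← ofAdd_toAdd u, h0]; rfl
    rw [this, map_one]
  intro a ha ha1 b hb hb1
  exact (key a ha ha1).symm.trans (key b hb hb1)

/-! ### the centralizer -/

def vec (l : F9) : Fin 4 → F9 := ![l ^ 3, l ^ 2, l, 1]

theorem Y_mulVec (w : Fin 4 → F9) : Y *ᵥ w = ![-w 3, w 0, w 1, w 2] := by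
  funext i
  fin_cases i <;> simp [Y, Matrix.mulVec, dotProduct, Fin.sum_univ_four, Matrix.vecHead, Matrix.vecTail]

theorem vec_eigen {l : F9} (hl : l ^ 4 = -1) : Y *ᵥ vec l = l • vec l := by
  rw [Y_mulVec]
  funext i
  fin_cases i
  · show -(1 : F9) = l * l ^ 3
    rw [← pow_succ', hl]
  · show l ^ 3 = l * l ^ 2
    ring
  · show l ^ 2 = l * l
    ring
  · show l = l * 1
    ring

/-- the eigenvalue of `M` on the eigenvector of `Y` -/
def ev (M : M4) (l : F9) : F9 := (M *ᵥ vec l) 3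

theorem mulVec_vec {M : M4} (hM : M * Y = Y * M) {l : F9} (hl : l ^ 4 = -1) : M *ᵥ vec l = ev M l • vec l := by
  have h1 : Y *ᵥ (M *ᵥ vec l) = l • (M *ᵥ vec l) := by
    rw [Matrix.mulVec_mulVec, ← hM, ← Matrix.mulVec_mulVec, vec_eigen hl, Matrix.mulVec_smul]
  rw [Y_mulVec] at h1
  set w := M *ᵥ vec l with hw
  have e1 : w 0 = l * w 1 := congrFun h1 1
  have e2 : w 1 = l * w 2 := congrFun h1 2
  have e3 : w 2 = l * w 3 := congrFun h1 3
  funext i
  fin_cases i
  · show w 0 = w 3 * l ^ 3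
    rw [e1, e2, e3]; ring
  · show w 1 = w 3 * l ^ 2
    rw [e2, e3]; ring
  · show w 2 = w 3 * l
    rw [e3]; ring
  · show w 3 = w 3 * 1
    ring

theorem herm_ev {M : M4} (hM : M * Y = Y * M) (hU : Mᵀ * M.map (fun x => x ^ 3) = 1) {l m : F9} (hl : l ^ 4 = -1)
    (hm : m ^ 4 = -1) (hne : vec l ⬝ᵥ (fun i => vec m i ^ 3) ≠ 0) : ev M l * ev M m ^ 3 = 1 := by
  have e1 : (M *ᵥ vec l) ⬝ᵥ (fun i => (M *ᵥ vec m) i ^ 3) = vec l ⬝ᵥ (fun i => vec m i ^ 3) := by
    have e2 : (fun i => (M *ᵥ vec m) i ^ 3) = M.map (fun x => x ^ 3) *ᵥ (fun i => vec m i ^ 3) := by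
      funext i
      haveI : CharP F9 3 := (CharP.charP_iff_prime_eq_zero Nat.prime_three).2 (by decide +kernel)
      haveI : ExpChar F9 3 := inferInstance
      show (∑ j, M i j * vec m j) ^ 3 = ∑ j, M i j ^ 3 * vec m j ^ 3
      rw [sum_pow_char 3]
      exact Finset.sum_congr rfl fun j _ => mul_pow _ _ _
    rw [e2, ← Matrix.vecMul_transpose, Matrix.dotProduct_mulVec, Matrix.vecMul_vecMul, hU, Matrix.vecMul_one]
  rw [mulVec_vec hM hl, mulVec_vec hM hm] at e1
  have e3 : (ev M l • vec l) ⬝ᵥ (fun i => (ev M m • vec m) i ^ 3) =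
      (ev M l * ev M m ^ 3) * (vec l ⬝ᵥ (fun i => vec m i ^ 3)) := by
    simp only [dotProduct, Pi.smul_apply, smul_eq_mul, mul_pow, Finset.mul_sum]
    exact Finset.sum_congr rfl fun i _ => by ring
  rw [e3] at e1
  exact mul_right_cancel₀ hne (e1.trans (one_mul _).symm)

def ze (j : Fin 4) : F9 := ![⟨1, 1⟩, ⟨2, 2⟩, ⟨1, 2⟩, ⟨2, 1⟩] j

theorem ze_pow : ∀ j, ze j ^ 4 = -1 := by decide +kernel

theorem ze_ne : vec (ze 0) ⬝ᵥ (fun i => vec (ze 1) i ^ 3) ≠ 0 ∧ vec (ze 1) ⬝ᵥ (fun i => vec (ze 0) i ^ 3) ≠ 0 ∧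
    vec (ze 2) ⬝ᵥ (fun i => vec (ze 3) i ^ 3) ≠ 0 ∧ vec (ze 3) ⬝ᵥ (fun i => vec (ze 2) i ^ 3) ≠ 0 := by
  decide +kernel

def VM : M4 := Matrix.of fun i j => vec (ze j) i

theorem det_VM : VM.det ≠ 0 := by decide +kernel

theorem mul_VM {M : M4} (hM : M * Y = Y * M) : M * VM = VM * Matrix.diagonal fun j => ev M (ze j) := by
  refine Matrix.ext fun i j => ?_
  rw [Matrix.mul_diagonal]
  have h := congrFun (mulVec_vec hM (ze_pow j)) i
  show (M *ᵥ vec (ze j)) i = vec (ze j) i * ev M (ze j)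
  rw [h, mul_comm]
  rfl

theorem ev_spec {M : M4} (hM : M * Y = Y * M) (hU : Mᵀ * M.map (fun x => x ^ 3) = 1) (hd : M.det = 1) :
    ev M (ze 1) * ev M (ze 0) ^ 3 = 1 ∧ ev M (ze 3) * ev M (ze 2) ^ 3 = 1 ∧ (ev M (ze 0) * ev M (ze 2)) ^ 2 = 1 := by
  have h01 := herm_ev hM hU (ze_pow 1) (ze_pow 0) ze_ne.2.1
  have h23 := herm_ev hM hU (ze_pow 3) (ze_pow 2) ze_ne.2.2.2
  refine ⟨h01, h23, ?_⟩
  have h1 := congrArg Matrix.det (mul_VM hM)
  rw [Matrix.det_mul, hd, one_mul, Matrix.det_mul, Matrix.det_diagonal, Fin.prod_univ_four] at h1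
  have h2 : ev M (ze 0) * ev M (ze 1) * ev M (ze 2) * ev M (ze 3) = 1 :=
    (mul_left_cancel₀ det_VM ((mul_one _).trans h1)).symm
  linear_combination -(ev M (ze 0) * ev M (ze 2)) ^ 2 * h2 + ev M (ze 3) * ev M (ze 2) ^ 3 * h01 + h23

theorem good_spec {M : M4} (h : good 3 M = true) : M.det = 1 ∧ Mᵀ * M.map (fun x => x ^ 3) = 1 := by
  rw [good, Bool.and_eq_true, decide_eq_true_eq, decide_eq_true_eq] at h
  exact h

theorem unitary_cm (x : S) : (cm x)ᵀ * (cm x).map (fun t => t ^ 3) = 1 :=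
  (Cfsg.Agent.LieClassical.GUOrder.mul_map_eq_one_iff h9 (cm x)).1 x.2

theorem card_pairs : Nat.card {t : F9 × F9 // (t.1 * t.2) ^ 2 = 1} = 16 := by
  rw [Nat.card_eq_fintype_card]
  decide +kernel

theorem card_cent {y : S} (hy : cm y = Y) : Nat.card (centralizer ({y} : Set S)) ≤ 16 := by
  rw [← card_pairs]
  have hM : ∀ g : centralizer ({y} : Set S), cm (g : S) * Y = Y * cm (g : S) := by
    intro g
    rw [← hy, ← map_mul, ← map_mul, mem_centralizer_singleton_iff.1 g.2]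
  have hs : ∀ g : centralizer ({y} : Set S), _ := fun g => ev_spec (hM g) (unitary_cm (g : S)) (det_cm (g : S))
  refine Nat.card_le_card_of_injective
    (fun g => (⟨(ev (cm (g : S)) (ze 0), ev (cm (g : S)) (ze 2)), (hs g).2.2⟩ :
      {t : F9 × F9 // (t.1 * t.2) ^ 2 = 1})) ?_
  intro g g' h
  have h1 : ev (cm (g : S)) (ze 0) = ev (cm (g' : S)) (ze 0) := congrArg (fun t => t.1.1) h
  have h2 : ev (cm (g : S)) (ze 2) = ev (cm (g' : S)) (ze 2) := congrArg (fun t => t.1.2) h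
  have hne : ∀ {a b : F9}, a * b ^ 3 = 1 → b ^ 3 ≠ 0 := fun h h0 => by rw [h0, mul_zero] at h; exact zero_ne_one h
  have h3 : ev (cm (g : S)) (ze 1) = ev (cm (g' : S)) (ze 1) :=
    mul_right_cancel₀ (hne (hs g).1) ((hs g).1.trans (by rw [h1]; exact (hs g').1.symm))
  have h4 : ev (cm (g : S)) (ze 3) = ev (cm (g' : S)) (ze 3) :=
    mul_right_cancel₀ (hne (hs g).2.1) ((hs g).2.1.trans (by rw [h2]; exact (hs g').2.1.symm))
  apply Subtype.ext
  apply cm_injective
  have h5 : cm (g : S) * VM = cm (g' : S) * VM := by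
    rw [mul_VM (hM g), mul_VM (hM g')]
    congr 2
    funext j
    fin_cases j
    · exact h1
    · exact h3
    · exact h2
    · exact h4
  have h6 : IsUnit VM.det := isUnit_iff_ne_zero.2 det_VM
  calc cm (g : S) = cm (g : S) * VM * VM⁻¹ := (Matrix.mul_nonsing_inv_cancel_right _ _ h6).symm
    _ = cm (g' : S) * VM * VM⁻¹ := by rw [h5]
    _ = cm (g' : S) := Matrix.mul_nonsing_inv_cancel_right _ _ h6

/-! ### the row -/

theorem row : Cfsg.Agent.H253.TC.Row K := by
  classical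
  haveI : IsSimpleGroup K := Cfsg.Agent.S0283.result h9 4 (by norm_num) (by norm_num)
  have hA := Cfsg.Agent.S2090.result (F := F9) (h9.trans (by norm_num))
  have hcardA : Nat.card (Multiplicative (ZMod 4 × ZMod 3 × ZMod 3)) = 36 := by
    rw [show Nat.card (Multiplicative (ZMod 4 × ZMod 3 × ZMod 3)) = Nat.card (ZMod 4 × ZMod 3 × ZMod 3) from rfl,
      Nat.card_prod, Nat.card_prod, Nat.card_zmod, Nat.card_zmod]
  have hK : commutator K = ⊤ := pce_pr.perf_base
  haveI : Finite (Multiplicative (ZMod 4 × ZMod 3 × ZMod 3)) := Nat.finite_of_card_ne_zero (by rw [hcardA]; norm_num)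
  obtain ⟨⟨Γ, _, _, σ, hσs, ⟨eA⟩⟩, -⟩ := id hA
  have hσ : PCE σ := PCE.of_stem hσs hK
  have hker : Nat.card σ.ker = 36 := (Nat.card_congr eA.toEquiv).trans hcardA
  refine Cfsg.Agent.H253.TC.Row.of_univ hA hσ (hker.trans hcardA.symm) ?_
  obtain ⟨θ, hθ, hcomp⟩ := Cfsg.Agent.H95.StemCover.exists_cover hK hA σ hσs (hker.trans hcardA.symm)
    (pr : S →* K) pce_pr.toStem
  obtain ⟨y, hy⟩ := exists_of_good h9 good_Y
  obtain ⟨w, hw⟩ := exists_of_good h9 good_W
  obtain ⟨z, hz⟩ := exists_of_good h9 good_im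
  obtain ⟨y0, hy0⟩ := hθ y
  obtain ⟨w0, hw0⟩ := hθ w
  have hwy : w * y * w⁻¹ = z * y := by
    rw [mul_inv_eq_iff_eq_mul]
    apply cm_injective
    rw [map_mul, map_mul, map_mul, hw, hy, hz, W_mul_Y, mul_assoc]
  have hzc : z ∈ center S := mem_center_of_smul hz
  -- the central element
  obtain ⟨ι, hι⟩ : ∃ ι, ι = w0 * y0 * w0⁻¹ * y0⁻¹ := ⟨_, rfl⟩
  have hθι : θ ι = z := by
    rw [hι, map_mul, map_mul, map_mul, map_inv, map_inv, hy0, hw0, hwy, mul_inv_cancel_right]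
  have hιk : ι ∈ σ.ker := by
    rw [MonoidHom.mem_ker, ← hcomp, hθι]
    exact (pr_eq_one_iff z).2 hzc
  have hιc : ι ∈ center Γ := hσ.cen hιk
  have hι36 : ι ^ 36 = 1 := by
    have h1 : (⟨ι, hιk⟩ : σ.ker) ^ Nat.card σ.ker = 1 := pow_card_eq_one'
    rw [hker] at h1
    exact congrArg Subtype.val h1
  have hm : w0 * y0 ^ 9 * w0⁻¹ = ι ^ 9 * y0 ^ 9 := by
    have h1 : w0 * y0 * w0⁻¹ = ι * y0 := by rw [hι]; group
    have h2 : Commute ι y0 := (mem_center_iff.1 hιc y0).symm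
    rw [← conj_pow, h1, h2.mul_pow]
  have hn : ι ^ 9 ∈ center Γ := pow_mem hιc 9
  have hzpow : ∀ k : ℕ, cm (z ^ k) = im ^ k • (1 : M4) := by
    intro k
    rw [map_pow, hz, smul_pow, one_pow]
  have hord : orderOf (ι ^ 9) = 4 := by
    have h1 : (ι ^ 9) ^ 2 ^ 2 = 1 := by rw [← pow_mul]; exact hι36
    have h2 : ¬ (ι ^ 9) ^ 2 ^ 1 = 1 := by
      intro h
      have h3 := congrArg θ h
      rw [map_pow, map_pow, hθι, map_one, ← pow_mul] at h3
      have h4 := congrArg cm h3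
      rw [hzpow, map_one] at h4
      have h5 := congrFun (congrFun h4 0) 0
      rw [Matrix.smul_apply, Matrix.one_apply_eq, smul_eq_mul, mul_one] at h5
      exact im_pow.2 (by
        calc im ^ 2 = (im ^ 4) ^ 4 * im ^ 2 := by rw [im_pow.1]; ring
          _ = im ^ (9 * 2 ^ 1) := by ring
          _ = 1 := h5)
    haveI : Fact (Nat.Prime 2) := ⟨Nat.prime_two⟩
    have := orderOf_eq_prime_pow h2 h1
    simpa using this
  -- the quotient
  have hNle : zpowers (ι ^ 9) ≤ σ.ker := by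
    rw [zpowers_le]
    exact pow_mem hιk 9
  haveI : (zpowers (ι ^ 9)).Normal := Cfsg.Agent.H51.Mult.normal_of_le_center (hNle.trans hσ.cen)
  refine twoComm_of_absorb (zpowers (ι ^ 9)) (hNle.trans hσ.cen) (y0 ^ 9) (absorb_zpowers hn hm) ?_
  have hq := pce_quo hσ (zpowers (ι ^ 9)) hNle
  have hqk := card_ker_quo hσ (zpowers (ι ^ 9)) hNle
  rw [Nat.card_zpowers, hord, hker] at hqk
  have hqk9 : Nat.card (quo (zpowers (ι ^ 9)) hNle).ker = 9 := by omega
  haveI : Finite (IrrCharacter (Γ ⧸ zpowers (ι ^ 9))) := finite_irr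
  haveI := Fintype.ofFinite (IrrCharacter (Γ ⧸ zpowers (ι ^ 9)))
  refine fun g => exists_of_sum _ (sum_lt_one (d := 15) _ (by norm_num) ?_ ?_) g
  · rintro χ ⟨n, ρ, hρ, rfl⟩ hne
    have h2 := deg_fused hq Nat.prime_two (by rw [hqk9]; decide) ρ (exists_ne_one hρ hne) φ.range isPGroup_range
      conj_range
    rw [card_range] at h2
    rw [Representation.char_one, Complex.norm_natCast]
    have h3 : 15 ≤ n := h2
    simpa using (by exact_mod_cast h3 : ((15 : ℕ) : ℝ) ≤ (n : ℝ))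
  · refine (card_centralizer_le hq _).trans ?_
    rw [hqk9, quo_mk]
    have h1 : σ (y0 ^ 9) = pr y := by
      rw [← hcomp, map_pow, hy0]
      have hy8 : cm (y ^ 8) = 1 := by
        rw [map_pow, hy]
        decide +kernel
      have h2 : y ^ 8 = 1 := (cm_eq_one_iff _).1 hy8
      rw [show y ^ 9 = y ^ 8 * y from pow_succ y 8, h2, one_mul]
    rw [h1]
    have h2 := (card_cent_le pr pce_pr.surj pce_pr.cen y).trans (card_cent hy)
    omega

end Cfsg.Agent.H990.TC.U43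

namespace Cfsg.Agent.H990.TC

/-- **the row `U₄(3)`** -/
theorem row_u43 {F : Type} [Field F] [Fintype F] (hF : Fintype.card F = 9) :
    Cfsg.Agent.H253.TC.Row (Cfsg.PSU 4 F 3) :=
  U43.row.congr (Cfsg.Agent.LieClassical.FieldTransfer.psuCongr 4 3
    (FiniteField.ringEquivOfCardEq (U43.h9.trans (hF.trans (by norm_num)).symm)))

end Cfsg.Agent.H990.TC
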