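import Cfsg.Agent.H990.TC.UniGen
import Cfsg.Agent.H990.TC.RowU43

/-!
# Two commutators: the row of the unitary groups, complete (S2494, helper990)
-/

set_option autoImplicit false
set_option linter.unusedVariables false

namespace Cfsg.Agent.H990.TC

open Subgroup Cfsg.Agent.H51.Mult

/-- **the unitary row** -/
theorem row_psu_all {F : Type} [Field F] [Fintype F] {n q : ℕ} (hF : Fintype.card F = q ^ 2) (hn : 3 ≤ n)
    (h3 : ¬ (n = 3 ∧ q = 2)) : Cfsg.Agent.H253.TC.Row (Cfsg.PSU n F q) := by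
  by_cases h42 : n = 4 ∧ q = 2
  · obtain ⟨rfl, rfl⟩ := h42
    haveI : Fact (Nat.Prime 3) := ⟨by norm_num⟩
    obtain ⟨e⟩ := Cfsg.Agent.S0822.result (F := F) (K := ZMod 3) (by rw [hF]; norm_num) (ZMod.card 3)
    have h : Row.{0} (Cfsg.PSp 2 (ZMod 3)) := row_psp le_rfl (fun _ => by rw [ZMod.card]) (by norm_num)
    exact Cfsg.Agent.H253.TC.Row.congr (K := Cfsg.PSp 2 (ZMod 3)) (fun L _ _ π hπ => h L π hπ) e.symm
  by_cases h43 : n = 4 ∧ q = 3
  · obtain ⟨rfl, rfl⟩ := h43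
    exact row_u43 (by rw [hF]; norm_num)
  by_cases h62 : n = 6 ∧ q = 2
  · obtain ⟨rfl, rfl⟩ := h62
    exact RowU6.row_u6 (by rw [hF]; norm_num)
  have hm := Cfsg.Agent.S2089.result n q hF hn h3 (by
    simp only [Set.mem_insert_iff, Set.mem_singleton_iff, Prod.mk.injEq, not_or]
    exact ⟨h42, h43, h62⟩)
  have hperf : commutator (Cfsg.SU n F q) = ⊤ :=
    Cfsg.Agent.LieClassical.HermPerfect.commutator_SU_eq_top hF hn h3
  have h0 : Nat.gcd n (q + 1) ≠ 0 := (Nat.gcd_pos_of_pos_left _ (by omega)).ne'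
  haveI : NeZero (Nat.gcd n (q + 1)) := ⟨h0⟩
  have h1 : Nat.card (Multiplicative (ZMod (Nat.gcd n (q + 1)))) = Nat.gcd n (q + 1) := Nat.card_zmod _
  have h := row_of_card.{0} hm (pce_mk hperf) (by
    rw [QuotientGroup.ker_mk', Cfsg.Agent.S0279.result hF n hn, h1]) (UniGen.two_SU hF hn h3 h42 h43 h62)
  exact fun L _ _ π hπ => h L π hπ

end Cfsg.Agent.H990.TC
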