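import Mathlib
import Cfsg.Agent.H253.TwoComm.Crit
import Cfsg.Agent.H253.TwoComm.Norm

/-!
# Rows from a self-centralizing subgroup of prime order
-/

set_option autoImplicit false
set_option linter.unusedVariables false

namespace Cfsg.Agent.H990.TC.SelfCent

open Subgroup Cfsg.Agent.H253.TC Cfsg.Agent.H51.Mult

universe u v w

theorem card_normalizer_le {K : Type v} [Group K] [Finite K] {r : ℕ} (hr : r.Prime) (R : Subgroup K)
    (hR : Nat.card R = r) (hc : centralizer (R : Set K) = R) : Nat.card (normalizer (R : Set K)) ≤ r * (r - 1) := by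
  haveI : Fact r.Prime := ⟨hr⟩
  haveI : IsCyclic R := isCyclic_of_prime_card hR
  have h1 := Subgroup.card_eq_card_quotient_mul_card_subgroup (normalizerMonoidHom R).ker
  have h2 : Nat.card (normalizer (R : Set K) ⧸ (normalizerMonoidHom R).ker) ≤ r - 1 := by
    rw [Nat.card_congr (QuotientGroup.quotientKerEquivRange (normalizerMonoidHom R)).toEquiv]
    have h3 : Nat.card (normalizerMonoidHom R).range ≤ Nat.card (MulAut R) :=
      Nat.card_le_card_of_injective _ Subtype.val_injective
    rwa [IsCyclic.card_mulAut, hR, Nat.totient_prime hr] at h3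
  have h4 : Nat.card (normalizerMonoidHom R).ker ≤ r := by
    rw [normalizerMonoidHom_ker]
    have h5 : Nat.card ((centralizer (R : Set K)).subgroupOf (normalizer (R : Set K))) ≤ Nat.card (centralizer (R : Set K)) :=
      Nat.card_le_card_of_injective (fun x => (⟨x.1.1, x.2⟩ : centralizer (R : Set K)))
        (fun a b h => by
          have h6 : a.1.1 = b.1.1 := congrArg (fun t : centralizer (R : Set K) => t.1) h
          exact Subtype.ext (Subtype.ext h6))
    exact h5.trans (by rw [hc, hR])
  rw [h1, mul_comm r]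
  exact Nat.mul_le_mul h2 h4

theorem card_normalizer {K : Type v} [Group K] [Finite K] {r M : ℕ} (hr : r.Prime) (hK : Nat.card K = r * M)
    (hM : ¬ r ∣ M) (R : Subgroup K) (hR : Nat.card R = r) (hc : centralizer (R : Set K) = R) :
    Nat.card (normalizer (R : Set K)) = (M % r) * r := by
  haveI : Fact r.Prime := ⟨hr⟩
  have hM0 : M ≠ 0 := by rintro rfl; exact hM (dvd_zero _)
  have hfac : (Nat.card K).factorization r = 1 := by
    rw [hK, Nat.factorization_mul hr.ne_zero hM0, Finsupp.add_apply, hr.factorization_self,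
      Nat.factorization_eq_zero_of_not_dvd hM]
  let P : Sylow r K := Sylow.ofCard R (by rw [hR, hfac, pow_one])
  have hP : (P : Subgroup K) = R := rfl
  have h1 := card_sylow_modEq_one r K
  rw [P.card_eq_index_normalizer] at h1
  have h2 := Subgroup.card_mul_index (normalizer (R : Set K))
  have hle := Cfsg.Agent.H990.TC.SelfCent.card_normalizer_le hr R hR hc
  obtain ⟨e, he⟩ : r ∣ Nat.card (normalizer (R : Set K)) := by
    rw [← hR]
    exact Subgroup.card_dvd_of_le Subgroup.le_normalizer
  rw [he, hK, mul_assoc] at h2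
  have h3 := Nat.eq_of_mul_eq_mul_left hr.pos h2
  have h4 : e < r := by
    rw [he] at hle
    have := Nat.le_of_mul_le_mul_left hle hr.pos
    have := hr.pos
    omega
  have h5 : M % r = e := by
    have h6 : M ≡ e [MOD r] := by
      rw [← h3]
      calc e * (normalizer (R : Set K)).index ≡ e * 1 [MOD r] := Nat.ModEq.mul_left e h1
        _ = e := mul_one e
    have h7 : M % r = e % r := h6
    rw [h7, Nat.mod_eq_of_lt h4]
  rw [he, h5, mul_comm]

/-- **rows from a self-centralizing subgroup of prime order** -/
theorem row_of_selfcent {K : Type v} [Group K] [Finite K] [IsSimpleGroup K] {r M : ℕ} (hr : r.Prime)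
    (hK : Nat.card K = r * M) (hM : ¬ r ∣ M) (hsc : ∃ R : Subgroup K, Nat.card R = r ∧ centralizer (R : Set K) = R)
    {A : Type w} [CommGroup A] [Finite A] (hA : Cfsg.HasSchurMultiplier K A) (hrA : ¬ r ∣ Nat.card A) (hMr : 0 < M % r)
    (h : Nat.card A * r ≤ (M % r) ^ 2) : Row K := by
  obtain ⟨R, hR, hc⟩ := hsc
  haveI : Fact r.Prime := ⟨hr⟩
  haveI : IsCyclic R := isCyclic_of_prime_card hR
  obtain ⟨x, hx⟩ := IsCyclic.exists_generator (α := R)
  have hz : zpowers (x : K) = R := by
    apply le_antisymm
    · rw [zpowers_le]; exact x.2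
    · intro y hy
      obtain ⟨j, hj⟩ := mem_zpowers_iff.1 (hx ⟨y, hy⟩)
      exact ⟨j, congrArg Subtype.val hj⟩
  have hord : orderOf (x : K) = r := by rw [← Nat.card_zpowers, hz, hR]
  have hcx : Nat.card (centralizer ({(x : K)} : Set K)) ≤ r := by
    have h1 : centralizer ({(x : K)} : Set K) ≤ centralizer (R : Set K) := by
      intro y hy
      rw [← hz]
      rw [mem_centralizer_iff]
      intro z hz'
      obtain ⟨j, rfl⟩ := hz'
      have h2 : Commute (x : K) y := (mem_centralizer_singleton_iff.1 hy).symm
      exact (h2.zpow_left j).eq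
    rw [hc] at h1
    calc Nat.card (centralizer ({(x : K)} : Set K)) ≤ Nat.card R :=
        Nat.card_le_card_of_injective (Subgroup.inclusion h1) (Subgroup.inclusion_injective h1)
      _ = r := hR
  refine Row.of_mult hA (x : K) hcx (PD.of_normalizer hr (not_dvd_ker hA hrA) hord (e := M % r) ?_) hMr h
  rw [hz, hc, hR, card_normalizer hr hK hM R hR hc]

end Cfsg.Agent.H990.TC.SelfCent
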