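import Mathlib
import Cfsg.Agent.H990.TC.SelfCent
import Cfsg.Agent.H732.SelfCentO
import Cfsg.Agent.S2093
import Cfsg.Agent.S2098
import Cfsg.Agent.S0293
import Cfsg.Agent.S0296
import Cfsg.Agent.S0270

/-!
# Two commutators: the rows `Sp₆(2)` and `Ω₈⁺(2)`
-/

set_option autoImplicit false
set_option linter.unusedVariables false

namespace Cfsg.Agent.H990.TC.RowSmall

open Subgroup Cfsg.Agent.H253.TC Cfsg.Agent.H990.TC.SelfCent

/-- **the row `Ω₈⁺(2)`** -/
theorem row_omega8plus {F : Type} [Field F] [Fintype F] (hF : Fintype.card F = 2) :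
    Row (Cfsg.POmega F (Cfsg.quadFormPlus 4 F)) := by
  haveI : IsSimpleGroup (Cfsg.POmega F (Cfsg.quadFormPlus 4 F)) := Cfsg.Agent.S0296.result 4 le_rfl
  have hc := Cfsg.Agent.S0293.result (F := F) rfl 4 le_rfl
  rw [hF, show Nat.gcd 4 (2 ^ 4 - 1) = 1 by norm_num] at hc
  simp only [Finset.prod_range_succ, Finset.prod_range_zero] at hc
  norm_num at hc
  refine row_of_selfcent (r := 7) (M := 24883200) (by norm_num) (by rw [hc]) (by norm_num)
    (Cfsg.Agent.H732.SelfCent.omega8plus_selfcent hF) (Cfsg.Agent.S2098.result hF) ?_ (by norm_num) ?_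
  · rw [show Nat.card (Multiplicative (ZMod 2 × ZMod 2)) = Nat.card (ZMod 2 × ZMod 2) from rfl, Nat.card_prod,
      Nat.card_zmod]
    norm_num
  · rw [show Nat.card (Multiplicative (ZMod 2 × ZMod 2)) = Nat.card (ZMod 2 × ZMod 2) from rfl, Nat.card_prod,
      Nat.card_zmod]
    norm_num

/-- **the row `Sp₆(2)`** -/
theorem row_sp6 {F : Type} [Field F] [Fintype F] (hF : Fintype.card F = 2) : Row (Cfsg.PSp 3 F) := by
  haveI : IsSimpleGroup (Cfsg.PSp 3 F) := Cfsg.Agent.S0270.result 3 (by norm_num) (by norm_num)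
  have hc := Cfsg.Agent.H732.SelfCent.card_psp hF (n := 3) (by norm_num)
  rw [show Nat.gcd 2 (2 - 1) = 1 by norm_num] at hc
  simp only [Finset.prod_range_succ, Finset.prod_range_zero] at hc
  norm_num at hc
  have hz : Nat.card (Multiplicative (ZMod 2)) = 2 := Nat.card_zmod 2
  refine row_of_selfcent (r := 7) (M := 207360) (by norm_num) (by rw [hc]) (by norm_num)
    (Cfsg.Agent.H732.SelfCent.psp_six_two hF) (Cfsg.Agent.S2093.result hF) ?_ (by norm_num) ?_
  · rw [hz]; norm_num
  · rw [hz]; norm_num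

end Cfsg.Agent.H990.TC.RowSmall
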