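import Cfsg.Prelude.Def_Classification2
import Cfsg.Agent.H990.TC.RowAlt
import Cfsg.Agent.H990.TC.RowLin
import Cfsg.Agent.H990.TC.RowL34
import Cfsg.Agent.H990.TC.RowPSU
import Cfsg.Agent.H990.TC.OrthFam
import Cfsg.Agent.H990.TC.RowSmall
import Cfsg.Agent.H951.TCTwF4
import Cfsg.Agent.H951.TCRankOne
import Cfsg.Agent.H951.TCRows
import Cfsg.Agent.H951.TCTwD4
import Cfsg.Agent.H951.TCTwE6Two
import Cfsg.Agent.H253.TwoComm.RowHSTits

/-!
# Two commutators: the rows of the classical and of the exceptional groups (S2494, helper990)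
-/

set_option autoImplicit false
set_option linter.unusedVariables false

namespace Cfsg.Agent.H990.TC

open Cfsg

universe u

theorem row_classical {K : Type u} [Group K]
    (h : IsAlternating K ∨ IsPSL K ∨ IsPSp K ∨ IsPSU K ∨ IsPOmegaOdd K ∨ IsPOmegaPlus K ∨ IsPOmegaMinus K) :
    Cfsg.Agent.H253.TC.Row K := by
  rcases h with h | h | h | h | h | h | h
  · obtain ⟨n, hn, ⟨e⟩⟩ := h
    have h1 : Row.{0} (alternatingGroup (Fin n)) := row_alt hn
    exact Cfsg.Agent.H253.TC.Row.congr (K := alternatingGroup (Fin n)) (fun L _ _ π hπ => h1 L π hπ) e.symm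
  · obtain ⟨F, _, _, n, hn, h2, ⟨e⟩⟩ := h
    by_cases h34 : n = 3 ∧ Fintype.card F = 4
    · obtain ⟨rfl, hF⟩ := h34
      exact (row_l34 hF).congr e.symm
    · have h1 : Row.{0} (Matrix.ProjectiveSpecialLinearGroup (Fin n) F) := row_psl hn h2 h34
      exact Cfsg.Agent.H253.TC.Row.congr (K := Matrix.ProjectiveSpecialLinearGroup (Fin n) F)
        (fun L _ _ π hπ => h1 L π hπ) e.symm
  · obtain ⟨F, _, _, m, hm, h2, ⟨e⟩⟩ := h
    by_cases h32 : m = 3 ∧ Fintype.card F = 2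
    · obtain ⟨rfl, hF⟩ := h32
      exact (RowSmall.row_sp6 hF).congr e.symm
    · have h1 : Row.{0} (Cfsg.PSp m F) := row_psp hm h2 h32
      exact Cfsg.Agent.H253.TC.Row.congr (K := Cfsg.PSp m F) (fun L _ _ π hπ => h1 L π hπ) e.symm
  · obtain ⟨F, _, _, n, q, hF, hn, h3, ⟨e⟩⟩ := h
    exact (row_psu_all hF hn h3).congr e.symm
  · obtain ⟨F, _, _, m, hm, ho, ⟨e⟩⟩ := h
    exact (OrthFam.row_odd ho hm).congr e.symm
  · obtain ⟨F, _, _, m, hm, ⟨e⟩⟩ := h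
    by_cases h42 : m = 4 ∧ Fintype.card F = 2
    · obtain ⟨rfl, hF⟩ := h42
      exact (RowSmall.row_omega8plus hF).congr e.symm
    · exact (OrthFam.row_plus hm h42).congr e.symm
  · obtain ⟨F, _, _, m, a, b, hm, hab, ⟨e⟩⟩ := h
    exact (OrthFam.row_minus hm hab).congr e.symm

theorem row_exceptional {K : Type u} [Group K] [IsSimpleGroup K] (h : IsExceptionalLieType K) :
    Cfsg.Agent.H253.TC.Row K := by
  rcases h with h | h | h | h | h | h | h | h | h | h | h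
  · obtain ⟨F, _, _, hF, ⟨e⟩⟩ := h
    exact (Cfsg.Agent.H951.TCRows.row_G2 hF).congr e.symm
  · obtain ⟨F, _, _, ⟨e⟩⟩ := h
    exact (Cfsg.Agent.H951.TCRows.row_F4 (F := F)).congr e.symm
  · obtain ⟨F, _, _, ⟨e⟩⟩ := h
    exact (Cfsg.Agent.H951.TCRows.row_E6 (F := F)).congr e.symm
  · obtain ⟨F, _, _, ⟨e⟩⟩ := h
    exact (Cfsg.Agent.H951.TCRows.row_E7 (F := F)).congr e.symm
  · obtain ⟨F, _, _, ⟨e⟩⟩ := h
    exact (Cfsg.Agent.H951.TCRows.row_E8 (F := F)).congr e.symm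
  · obtain ⟨F, _, _, q, hq, hF, ⟨e⟩⟩ := h
    exact (Cfsg.Agent.H951.TCTwE6.row hq hF).congr e.symm
  · obtain ⟨F, _, _, q, hq, hF, ⟨e⟩⟩ := h
    exact (Cfsg.Agent.H951.TCTwD4.row hq hF).congr e.symm
  · obtain ⟨F, _, _, m, hm, hF, ⟨e⟩⟩ := h
    exact (Cfsg.Agent.H951.TCRankOne.row_sz hm hF).congr e.symm
  · obtain ⟨F, _, _, m, hm, hF, ⟨e⟩⟩ := h
    exact (Cfsg.Agent.H951.TCRankOne.row_ree hm hF).congr e.symm
  · obtain ⟨F, _, _, m, hm, hF, ⟨e⟩⟩ := h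
    exact (Cfsg.Agent.H951.TCTwF4.row hm hF).congr e.symm
  · exact Cfsg.Agent.H253.TC.row_tits h

end Cfsg.Agent.H990.TC
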