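import Cfsg.Agent.H60.LThreeFour.Final

/-!
# Explicit matrices for `L₃(4)` (S2494, helper990)

* in the 4-dimensional group over `F₉` of helper60: lifts `AM`, `DM` of two commuting unipotent elements of `SL(3,4)` with
  `DM * AM = -i • AM * DM`;
* in `SL(3,4)`: the extraspecial group `3^{1+2}` modulo scalars, two elements fusing the elements of order three.
-/

set_option autoImplicit false
set_option maxRecDepth 100000

namespace Cfsg.Agent.H990.TC.L34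

open Matrix
open Cfsg.Agent.SporadicA.FieldFour
open Cfsg.Agent.ONType.Psl
open Cfsg.Agent.H60.LThreeFour
open Cfsg.Agent.SporadicStructure.FieldNine (K9)

abbrev N4 := Matrix (Fin 4) (Fin 4) K9
abbrev N3 := Matrix (Fin 3) (Fin 3) F4

def k (n : ℕ) : K9 := K9.mk n

def X1 : N4 := !![k 8, k 4, k 3, k 3; k 0, k 1, k 0, k 0; k 0, k 0, k 5, k 7; k 5, k 8, k 2, k 2]
def X2 : N4 := !![k 6, k 1, k 0, k 2; k 2, k 6, k 5, k 3; k 0, k 3, k 0, k 0; k 7, k 4, k 0, k 4]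
def C12 : N4 := !![k 5, k 7, k 1, k 2; k 2, k 6, k 5, k 3; k 3, k 7, k 0, k 2; k 1, k 0, k 2, k 1]
def AM : N4 := !![k 5, k 7, k 1, k 1; k 2, k 4, k 0, k 6; k 3, k 2, k 4, k 1; k 1, k 4, k 3, k 2]
def Y1 : N4 := !![k 1, k 6, k 0, k 0; k 0, k 2, k 0, k 0; k 0, k 0, k 2, k 0; k 0, k 0, k 0, k 1]
def Y2 : N4 := !![k 5, k 2, k 0, k 8; k 0, k 2, k 0, k 0; k 3, k 2, k 4, k 1; k 6, k 1, k 4, k 2]
def C12b : N4 := !![k 2, k 0, k 7, k 6; k 0, k 2, k 0, k 0; k 4, k 5, k 0, k 7; k 3, k 2, k 4, k 2]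
def DM : N4 := !![k 5, k 8, k 8, k 3; k 7, k 4, k 0, k 8; k 0, k 6, k 0, k 0; k 1, k 3, k 5, k 3]

theorem X1_eq : am 3 * am 3 = X1 := by decide +kernel
theorem X2_eq : am 1 * am 3 = X2 := by decide +kernel
theorem C12_eq : X1 * X2 = C12 := by decide +kernel
theorem AM_eq : am 0 * C12 = AM := by decide +kernel
theorem Y1_eq : am 0 * am 1 = Y1 := by decide +kernel
theorem Y2_eq : Y1 * am 3 = Y2 := by decide +kernel
theorem C12b_eq : X1 * Y2 = C12b := by decide +kernel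
theorem DM_eq : am 1 * C12b = DM := by decide +kernel

theorem DM_mul_AM : DM * AM = (k 6) • (AM * DM) := by decide +kernel

theorem k6_four : (k 6) ^ 4 = 1 ∧ (k 6) ^ 2 ≠ 1 := by decide +kernel

theorem AM_word : am 0 * ((am 3 * am 3) * (am 1 * am 3)) = AM := by rw [X1_eq, X2_eq, C12_eq, AM_eq]
theorem DM_word : am 1 * ((am 3 * am 3) * ((am 0 * am 1) * am 3)) = DM := by
  rw [X1_eq, Y1_eq, Y2_eq, C12b_eq, DM_eq]

/-- the regular unipotent element -/
def A3 : N3 := !![1, 1, ω; 0, 1, ω; 0, 0, 1]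
def D3 : N3 := !![1, ω, 1; 0, 1, ω2; 0, 0, 1]

theorem A3_word : gm 0 * ((gm 3 * gm 3) * (gm 1 * gm 3)) = A3 := by decide +kernel
theorem D3_word : gm 1 * ((gm 3 * gm 3) * ((gm 0 * gm 1) * gm 3)) = D3 := by decide +kernel
theorem A3_comm : D3 * A3 = A3 * D3 := by decide +kernel
theorem A3_four : A3 * A3 * (A3 * A3) = 1 := by decide +kernel

/-! ### the group `3²` -/

abbrev V := ZMod 3 × ZMod 3

def idx (u : V) : ℕ := 3 * u.1.val + u.2.val
def ofIdx (n : ℕ) : V := ((n / 3 : ℕ), (n : ℕ))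

/-- `e^i p^j` -/
def P (u : V) : N3 := Matrix.of fun r c => if (c.val : ZMod 3) = (r.val : ZMod 3) + u.2 then ω ^ (u.1.val * r.val) else 0

def Gm (k : ℕ) : N3 :=
  match k with
  | 0 => !![1, 1, 1; 1, ω, ω2; 1, ω2, ω]
  | _ => !![1, 1, ω2; 1, ω, ω; ω, 1, ω]

def par (u : V) : V := ofIdx (([0, 3, 6, 3, 1, 6, 1, 3, 7] : List ℕ).getD (idx u) 0)
def gen (u : V) : ℕ := ([0, 0, 0, 0, 1, 1, 0, 1, 0] : List ℕ).getD (idx u) 0
def scl (u : V) : ℕ := ([0, 0, 0, 0, 2, 2, 0, 0, 1] : List ℕ).getD (idx u) 0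

theorem det_Gm : ∀ k < 2, (Gm k).det = 1 := by decide +kernel
theorem gen_lt : ∀ u : V, gen u < 2 := by decide +kernel
theorem par_three : ∀ u : V, u ≠ 0 → par (par (par u)) = ofIdx 3 := by decide +kernel
theorem par_ne : ∀ u : V, u ≠ 0 → par u ≠ 0 := by decide +kernel
theorem fuse : ∀ u : V, u ≠ 0 → par u = u ∨ Gm (gen u) * P (par u) = ω ^ (scl u) • (P u * Gm (gen u)) := by
  decide +kernel
theorem det_P : ∀ u : V, (P u).det = 1 := by decide +kernel
theorem P_mul : ∀ u v : V, ∃ k < 3, P u * P v = ω ^ k • P (u + v) := by decide +kernel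
theorem P_comm : ∀ u : V, u ≠ 0 → ∃ v : V, P u * P v ≠ P v * P u := by decide +kernel
theorem om_pow : ω ^ 3 = 1 ∧ ω ≠ 1 := by decide +kernel

/-- the permutation matrix and the diagonal matrix -/
theorem P_rel : gm 3 * P (1, 0) = ω • (P (1, 0) * gm 3) := by decide +kernel
theorem P_one : P (1, 0) = Matrix.diagonal ![1, ω, ω2] := by decide +kernel
theorem P_pow : P (1, 0) * P (1, 0) * P (1, 0) = 1 := by decide +kernel

end Cfsg.Agent.H990.TC.L34
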