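import Mathlib
import Cfsg.Agent.H990.TC.SelfCent
import Cfsg.Agent.H990.TC.Univ
import Cfsg.Agent.H253.TwoComm.Deg
import Cfsg.Agent.H732.SelfCent
import Cfsg.Agent.H341.ThreeElts
import Cfsg.Agent.H324.Hall.Reps
import Cfsg.Agent.H559.USixSpec
import Cfsg.Agent.LieClassical.HermPerfect
import Cfsg.Agent.S2334
import Cfsg.Agent.S2089
import Cfsg.Agent.S2091
import Cfsg.Agent.S0279
import Cfsg.Agent.S0283
import Cfsg.Agent.H831.USix

/-!
# Two commutators: the row `U₆(2)`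
-/

set_option autoImplicit false
set_option linter.unusedVariables false

namespace Cfsg.Agent.H990.TC.RowU6

open Subgroup Cfsg.Agent.H253.TC Cfsg.Agent.H51.Mult

universe u v w

/-- from irreducible representations to all nontrivial ones, for a perfect group -/
theorem deg_of_irr {G : Type u} [Group G] [Finite G] (hG : commutator G = ⊤) {D : ℕ}
    (h : ∀ (k : ℕ) (ρ : Representation ℂ G (Fin k → ℂ)), ρ.IsIrreducible → 2 ≤ k → D ≤ k) (n : ℕ)
    (ρ : Representation ℂ G (Fin n → ℂ)) (hρ : ∃ g, ρ g ≠ 1) : D ≤ n := by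
  have hne : ρ ≠ 1 := by
    rintro rfl
    obtain ⟨g, hg⟩ := hρ
    exact hg rfl
  obtain ⟨k, τ, hτ, hτ1, hk⟩ := Cfsg.Agent.H324.Hall.exists_irr ρ hne
  rw [Module.finrank_fin_fun] at hk
  have hk2 : 2 ≤ k := by
    by_contra hcon
    exact hτ1 (Cfsg.Agent.H324.Hall.eq_one_of_finrank_le hG τ (by rw [Module.finrank_fin_fun]; omega))
  exact (h k τ hτ hk2).trans hk

/-- degrees for a group with trivial multiplier -/
theorem pd_of_trivial {G : Type u} [Group G] [Finite G] (hA : Cfsg.HasCyclicSchurMultiplier G 1) {D : ℕ}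
    (h : ∀ (n : ℕ) (ρ : Representation ℂ G (Fin n → ℂ)), (∃ g, ρ g ≠ 1) → D ≤ n) : PD G D := by
  intro L _ _ π hπ n ρ hρ
  have h1 := (Cfsg.Agent.H68.Bounds.ker_of_hasCyclic hA hπ).2
  have h2 : Function.Injective π := by
    rw [← MonoidHom.ker_eq_bot_iff]
    exact Subgroup.eq_bot_of_card_eq _ (Nat.dvd_one.1 h1)
  let e : L ≃* G := MulEquiv.ofBijective π ⟨h2, hπ.surj⟩
  refine h n ((ρ : L →* _).comp e.symm.toMonoidHom) ?_
  obtain ⟨g, hg⟩ := hρ
  exact ⟨e g, by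
    show ρ (e.symm (e g)) ≠ 1
    rwa [e.symm_apply_apply]⟩

variable {F : Type} [Field F] [Fintype F]

theorem pd_su5 (hF : Fintype.card F = 4) : PD (Cfsg.SU 5 F 2) 10 := by
  classical
  have hF2 : Fintype.card F = 2 ^ 2 := by rw [hF]; norm_num
  have hperf : commutator (Cfsg.SU 5 F 2) = ⊤ :=
    Cfsg.Agent.LieClassical.HermPerfect.commutator_SU_eq_top hF2 (by norm_num) (by norm_num)
  have hm := Cfsg.Agent.S2089.result (F := F) 5 2 hF2 (by norm_num) (by norm_num) (by simp)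
  rw [show Nat.gcd 5 (2 + 1) = 1 by norm_num] at hm
  have hc := Cfsg.Agent.S0279.result (F := F) hF2 5 (by norm_num)
  rw [show Nat.gcd 5 (2 + 1) = 1 by norm_num] at hc
  have hinj : Function.Injective (QuotientGroup.mk' (center (Cfsg.SU 5 F 2))) := by
    rw [← MonoidHom.ker_eq_bot_iff, QuotientGroup.ker_mk']
    exact Subgroup.eq_bot_of_card_eq _ hc
  let e : Cfsg.SU 5 F 2 ≃* Cfsg.PSU 5 F 2 := MulEquiv.ofBijective _ ⟨hinj, QuotientGroup.mk'_surjective _⟩
  have hm' : Cfsg.HasCyclicSchurMultiplier (Cfsg.SU 5 F 2) 1 :=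
    Cfsg.Agent.H487.HasSchurMultiplier.congr_left hm e.symm
  refine pd_of_trivial hm' (deg_of_irr hperf fun k ρ hρ hk => ?_)
  have := Cfsg.Agent.S2334.result (F := F) 5 2 (by norm_num) (by decide) hF2 (by simp) k ρ hρ hk
  simpa using this

/-- **the row `U₆(2)`** -/
theorem row_u6 (hF : Fintype.card F = 4) : Cfsg.Agent.H253.TC.Row (Cfsg.PSU 6 F 2) := by
  have hF2 : Fintype.card F = 2 ^ 2 := by rw [hF]; norm_num
  haveI : IsSimpleGroup (Cfsg.PSU 6 F 2) := Cfsg.Agent.S0283.result hF2 6 (by norm_num) (by norm_num)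
  have hcard := Cfsg.Agent.H831.USix.card_PSU' (F := F) hF
  have hperf : commutator (Cfsg.SU 5 F 2) = ⊤ :=
    Cfsg.Agent.LieClassical.HermPerfect.commutator_SU_eq_top hF2 (by norm_num) (by norm_num)
  have hD : PD (Cfsg.PSU 6 F 2) 10 := by
    refine PD.of_hom hperf (Cfsg.Agent.H341.ThreeElts.psuEmb hF2 0 (by norm_num : 0 + 5 ≤ 6)) ?_ (pd_su5 hF)
    haveI : Nontrivial (Cfsg.SU 5 F 2) := by
      haveI : IsSimpleGroup (Cfsg.PSU 5 F 2) := Cfsg.Agent.S0283.result hF2 5 (by norm_num) (by norm_num)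
      exact (QuotientGroup.mk'_surjective (center (Cfsg.SU 5 F 2))).nontrivial
    obtain ⟨x, hx⟩ := exists_ne (1 : Cfsg.SU 5 F 2)
    refine ⟨x, fun h => hx ?_⟩
    apply Cfsg.Agent.H341.ThreeElts.psuEmb_injective hF2 0 (by norm_num : 0 + 5 ≤ 6) (by norm_num) (by norm_num)
    rw [h, map_one]
  obtain ⟨R, hR, hc⟩ := Cfsg.Agent.H732.SelfCent.selfcent_of_orders (G := Cfsg.PSU 6 F 2) (r := 7) (by norm_num)
    (by rw [hcard]; norm_num) (by rw [hcard]; norm_num) (by
      intro s hs hsd hs7 g hg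
      have h1 := Cfsg.Agent.H559.USixSpec.seven hF g (by rw [hg]; exact dvd_mul_right _ _)
      have h2 := orderOf_dvd_of_pow_eq_one h1
      rw [hg] at h2
      have h3 : s ∣ 7 / 7 := by
        have h4 : 7 * s ∣ 7 * 1 := by simpa using h2
        simpa using Nat.dvd_of_mul_dvd_mul_left (by norm_num) h4
      have h5 : s ∣ 1 := by simpa using h3
      exact hs.one_lt.ne' (Nat.dvd_one.1 h5))
  -- a generator of `R`
  haveI : Fact (Nat.Prime 7) := ⟨by norm_num⟩
  haveI : IsCyclic R := isCyclic_of_prime_card hR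
  obtain ⟨x, hx⟩ := IsCyclic.exists_generator (α := R)
  have hcx : Nat.card (centralizer ({(x : Cfsg.PSU 6 F 2)} : Set (Cfsg.PSU 6 F 2))) ≤ 7 := by
    have h1 : centralizer ({(x : Cfsg.PSU 6 F 2)} : Set (Cfsg.PSU 6 F 2)) ≤ centralizer (R : Set (Cfsg.PSU 6 F 2)) := by
      intro y hy
      rw [mem_centralizer_iff]
      intro z hz'
      obtain ⟨j, hj⟩ := mem_zpowers_iff.1 (hx ⟨z, hz'⟩)
      have h2 : Commute (x : Cfsg.PSU 6 F 2) y := (mem_centralizer_singleton_iff.1 hy).symm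
      have h3 : z = (x : Cfsg.PSU 6 F 2) ^ j := (congrArg Subtype.val hj).symm
      rw [h3]
      exact (h2.zpow_left j).eq
    rw [hc] at h1
    calc Nat.card (centralizer ({(x : Cfsg.PSU 6 F 2)} : Set (Cfsg.PSU 6 F 2))) ≤ Nat.card R :=
        Nat.card_le_card_of_injective (Subgroup.inclusion h1) (Subgroup.inclusion_injective h1)
      _ = 7 := hR
  refine Cfsg.Agent.H253.TC.Row.of_mult (Cfsg.Agent.S2091.result hF) (x : Cfsg.PSU 6 F 2) hcx hD (by norm_num) ?_
  rw [show Nat.card (Multiplicative (ZMod 3 × ZMod 2 × ZMod 2)) = Nat.card (ZMod 3 × ZMod 2 × ZMod 2) from rfl,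
    Nat.card_prod, Nat.card_prod, Nat.card_zmod, Nat.card_zmod]
  norm_num

end Cfsg.Agent.H990.TC.RowU6
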