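import Mathlib
import Cfsg.Agent.H990.TC.RowLin
import Cfsg.Agent.S2089
import Cfsg.Agent.S0279
import Cfsg.Agent.S0822

/-!
# Two commutators in the covers of the unitary groups (without `U4(3)` and `U6(2)`), from `S2446`
-/

set_option autoImplicit false
set_option linter.unusedVariables false

namespace Cfsg.Agent.H990.TC

open Subgroup Cfsg.Agent.H51.Mult Cfsg.Agent.H68.Bounds

universe u v w

/-- **the unitary row** without `U4(3)`, `U6(2)`, from the commutator theorem for `SU` -/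
theorem row_psu {F : Type v} [Field F] [Fintype F] {n q : ℕ} (hF : Fintype.card F = q ^ 2) (hn : 3 ≤ n)
    (h3 : ¬ (n = 3 ∧ q = 2)) (h43 : ¬ (n = 4 ∧ q = 3)) (h62 : ¬ (n = 6 ∧ q = 2)) (hone : One (Cfsg.SU n F q)) :
    Row.{u} (Cfsg.PSU n F q) := by
  by_cases h42 : n = 4 ∧ q = 2
  · obtain ⟨rfl, rfl⟩ := h42
    haveI : Fact (Nat.Prime 3) := ⟨by norm_num⟩
    obtain ⟨e⟩ := Cfsg.Agent.S0822.result (F := F) (K := ZMod 3) (by rw [hF]; norm_num) (ZMod.card 3)
    refine Row.congr e.symm (row_psp le_rfl (fun _ => ?_) (by norm_num))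
    rw [ZMod.card]
  have hm := Cfsg.Agent.S2089.result n q hF hn h3 (by
    simp only [Set.mem_insert_iff, Set.mem_singleton_iff, Prod.mk.injEq, not_or]
    exact ⟨h42, h43, h62⟩)
  refine row_of_card hm (pce_mk (perf_of_one hone)) ?_ hone.two
  have h0 : Nat.gcd n (q + 1) ≠ 0 := (Nat.gcd_pos_of_pos_left _ (by omega)).ne'
  haveI : NeZero (Nat.gcd n (q + 1)) := ⟨h0⟩
  have h1 : Nat.card (Multiplicative (ZMod (Nat.gcd n (q + 1)))) = Nat.gcd n (q + 1) := Nat.card_zmod _
  rw [QuotientGroup.ker_mk', Cfsg.Agent.S0279.result hF n hn, h1]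

end Cfsg.Agent.H990.TC
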