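import Cfsg.Agent.H253.TwoComm.Crit

/-!
# Products of two commutators: explicit forms of the character sums and the absorption of central elements (S2494, helper990)

* `exists_of_sum` : every element is `[a,b] m^x (m⁻¹)^z`;
* `exists_of_sum₂` : every element is `m^x (m⁻¹)^z e^u (e⁻¹)^v`;
* `twoComm_of_absorb`, `twoComm_of_absorb₂` : the same modulo a central subgroup `N` absorbed by the elements.
-/

set_option autoImplicit false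

namespace Cfsg.Agent.H990.TC

open Cfsg Subgroup
open Cfsg.Agent.Characters.Core Cfsg.Agent.Characters.Central Cfsg.Agent.Characters.Counting
open Cfsg.Agent.H253.TC (TwoComm oneChar norm_le_one sum_eq_zero sum_erase_norm_sq)
open scoped ComplexConjugate

universe u

variable {G : Type u} [Group G]

section Sums

variable [Finite G]

/-- every element is `[a,b] m^x (m⁻¹)^z` -/
theorem exists_of_sum [Fintype (IrrCharacter G)] [DecidableEq (IrrCharacter G)] (m : G)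
    (h : ∑ χ ∈ Finset.univ.erase (oneChar G), ‖(χ : G → ℂ) m‖ ^ 2 / ‖(χ : G → ℂ) 1‖ ^ 2 < (1 : ℝ)) (g : G) :
    ∃ z x a b : G, a * b * a⁻¹ * b⁻¹ * (x * m * x⁻¹ * (z * m⁻¹ * z⁻¹)) = g := by
  by_contra hcon
  push Not at hcon
  have hz := sum_eq_zero m g⁻¹ (fun z x a b h0 => hcon z x a b (by
    rw [← mul_inv_eq_one, ← h0]
    group))
  rw [← Finset.add_sum_erase _ _ (Finset.mem_univ (oneChar G))] at hz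
  have h1 : ((oneChar G : IrrCharacter G) : G → ℂ) m * ((oneChar G : IrrCharacter G) : G → ℂ) m⁻¹ *
      ((oneChar G : IrrCharacter G) : G → ℂ) g⁻¹ / ((oneChar G : IrrCharacter G) : G → ℂ) 1 ^ 3 = 1 := by
    simp [oneChar]
  rw [h1] at hz
  have h2 : ‖∑ χ ∈ Finset.univ.erase (oneChar G),
      (χ : G → ℂ) m * (χ : G → ℂ) m⁻¹ * (χ : G → ℂ) g⁻¹ / (χ : G → ℂ) 1 ^ 3‖ = 1 := by
    have : ∑ χ ∈ Finset.univ.erase (oneChar G),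
      (χ : G → ℂ) m * (χ : G → ℂ) m⁻¹ * (χ : G → ℂ) g⁻¹ / (χ : G → ℂ) 1 ^ 3 = -1 := by
      linear_combination hz
    rw [this]; simp
  have h3 : ‖∑ χ ∈ Finset.univ.erase (oneChar G),
      (χ : G → ℂ) m * (χ : G → ℂ) m⁻¹ * (χ : G → ℂ) g⁻¹ / (χ : G → ℂ) 1 ^ 3‖ ≤
      ∑ χ ∈ Finset.univ.erase (oneChar G), ‖(χ : G → ℂ) m‖ ^ 2 / ‖(χ : G → ℂ) 1‖ ^ 2 := by
    refine (norm_sum_le _ _).trans (Finset.sum_le_sum fun χ _ => ?_)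
    have hpos : 0 < ‖(χ : G → ℂ) 1‖ := norm_pos_iff.mpr (irr_one_ne_zero χ.2)
    have hinv : ‖(χ : G → ℂ) m⁻¹‖ = ‖(χ : G → ℂ) m‖ := by
      rw [isCharacter_apply_inv (isIrr_isCharacter χ.2), RCLike.norm_conj]
    rw [norm_div, norm_pow, norm_mul, norm_mul, hinv, div_le_div_iff₀ (by positivity) (by positivity)]
    have h4 := norm_le_one χ.2 g⁻¹
    have h5 : 0 ≤ ‖(χ : G → ℂ) m‖ ^ 2 := by positivity
    calc ‖(χ : G → ℂ) m‖ * ‖(χ : G → ℂ) m‖ * ‖(χ : G → ℂ) g⁻¹‖ * ‖(χ : G → ℂ) 1‖ ^ 2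
        = ‖(χ : G → ℂ) m‖ ^ 2 * (‖(χ : G → ℂ) g⁻¹‖ * ‖(χ : G → ℂ) 1‖ ^ 2) := by ring
      _ ≤ ‖(χ : G → ℂ) m‖ ^ 2 * (‖(χ : G → ℂ) 1‖ * ‖(χ : G → ℂ) 1‖ ^ 2) := by gcongr
      _ = ‖(χ : G → ℂ) m‖ ^ 2 * ‖(χ : G → ℂ) 1‖ ^ 3 := by ring
  linarith

/-- the count for `m^x (m⁻¹)^z e^u (e⁻¹)^v`, in vanishing form -/
theorem sum_eq_zero₂ [Fintype (IrrCharacter G)] (m e h : G)
    (hne : ∀ x z u v : G,
      x * m * x⁻¹ * (z * m⁻¹ * z⁻¹ * (u * e * u⁻¹ * (v * e⁻¹ * v⁻¹ * h))) ≠ 1) :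
    ∑ χ : IrrCharacter G, (χ : G → ℂ) m * (χ : G → ℂ) m⁻¹ * ((χ : G → ℂ) e * (χ : G → ℂ) e⁻¹) *
      (χ : G → ℂ) h / (χ : G → ℂ) 1 ^ 3 = 0 := by
  classical
  have := Fintype.ofFinite G
  have hcard : (Nat.card G : ℂ) ≠ 0 := by exact_mod_cast Nat.card_pos.ne'
  have e0 : ∑ t : G × G × G × G, ∑ χ : IrrCharacter G, (χ : G → ℂ) 1 *
      (χ : G → ℂ) (t.2.2.2 * m * t.2.2.2⁻¹ * (t.2.2.1 * m⁻¹ * t.2.2.1⁻¹ * (t.2.1 * e * t.2.1⁻¹ *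
        (t.1 * e⁻¹ * t.1⁻¹ * h)))) = 0 := by
    refine Finset.sum_eq_zero fun t _ => ?_
    rw [sum_irr_one_mul, if_neg (hne _ _ _ _)]
  rw [Finset.sum_comm] at e0
  have e2 : ∀ χ : IrrCharacter G, ∑ t : G × G × G × G, (χ : G → ℂ) 1 *
      (χ : G → ℂ) (t.2.2.2 * m * t.2.2.2⁻¹ * (t.2.2.1 * m⁻¹ * t.2.2.1⁻¹ * (t.2.1 * e * t.2.1⁻¹ *
        (t.1 * e⁻¹ * t.1⁻¹ * h)))) =
      (Nat.card G : ℂ) ^ 4 * ((χ : G → ℂ) m * (χ : G → ℂ) m⁻¹ * ((χ : G → ℂ) e * (χ : G → ℂ) e⁻¹) *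
        (χ : G → ℂ) h / (χ : G → ℂ) 1 ^ 3) := by
    intro χ
    have h1 := irr_one_ne_zero χ.2
    have key : ∀ a b : G, ∑ x : G, (χ : G → ℂ) (x * a * x⁻¹ * b) =
        (Nat.card G : ℂ) * (χ : G → ℂ) a * (χ : G → ℂ) b / (χ : G → ℂ) 1 := fun a b => sum_char_conj_mul χ.2 a b
    rw [← Finset.mul_sum]
    simp only [Fintype.sum_prod_type]
    simp only [key]
    have e3 : ∀ (c : ℂ) (a : G) (b : G → G), ∑ z : G, (Nat.card G : ℂ) * c *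
        (χ : G → ℂ) (z * a * z⁻¹ * b a) / (χ : G → ℂ) 1 =
        (Nat.card G : ℂ) * c / (χ : G → ℂ) 1 * ((Nat.card G : ℂ) * (χ : G → ℂ) a * (χ : G → ℂ) (b a) / (χ : G → ℂ) 1) := by
      intro c a b
      rw [← key, Finset.mul_sum]
      exact Finset.sum_congr rfl fun z _ => by ring
    have e4 : ∀ b : G, ∑ z : G, (Nat.card G : ℂ) * (χ : G → ℂ) m * (χ : G → ℂ) (z * m⁻¹ * z⁻¹ * b) / (χ : G → ℂ) 1 =
        (Nat.card G : ℂ) ^ 2 * (χ : G → ℂ) m * (χ : G → ℂ) m⁻¹ / (χ : G → ℂ) 1 ^ 2 * (χ : G → ℂ) b := by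
      intro b
      rw [e3 _ m⁻¹ (fun _ => b)]
      field_simp
    simp only [e4]
    have e5 : ∀ b : G, ∑ u : G, (Nat.card G : ℂ) ^ 2 * (χ : G → ℂ) m * (χ : G → ℂ) m⁻¹ / (χ : G → ℂ) 1 ^ 2 *
        (χ : G → ℂ) (u * e * u⁻¹ * b) =
        (Nat.card G : ℂ) ^ 3 * (χ : G → ℂ) m * (χ : G → ℂ) m⁻¹ * (χ : G → ℂ) e / (χ : G → ℂ) 1 ^ 3 * (χ : G → ℂ) b := by
      intro b
      rw [← Finset.mul_sum, key]
      field_simp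
    simp only [e5]
    rw [← Finset.mul_sum, key]
    field_simp
  rw [Finset.sum_congr rfl fun χ _ => e2 χ, ← Finset.mul_sum] at e0
  exact (mul_eq_zero.mp e0).resolve_left (pow_ne_zero 4 hcard)

/-- every element is `m^x (m⁻¹)^z e^u (e⁻¹)^v` -/
theorem exists_of_sum₂ [Fintype (IrrCharacter G)] [DecidableEq (IrrCharacter G)] (m e : G)
    (h : ∑ χ ∈ Finset.univ.erase (oneChar G),
      ‖(χ : G → ℂ) m‖ ^ 2 * ‖(χ : G → ℂ) e‖ ^ 2 / ‖(χ : G → ℂ) 1‖ ^ 2 < (1 : ℝ)) (g : G) :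
    ∃ x z u v : G, x * m * x⁻¹ * (z * m⁻¹ * z⁻¹ * (u * e * u⁻¹ * (v * e⁻¹ * v⁻¹))) = g := by
  by_contra hcon
  push Not at hcon
  have hz := sum_eq_zero₂ m e g⁻¹ (fun x z u v h0 => hcon x z u v (by
    rw [← mul_inv_eq_one, ← h0]
    group))
  rw [← Finset.add_sum_erase _ _ (Finset.mem_univ (oneChar G))] at hz
  have h1 : ((oneChar G : IrrCharacter G) : G → ℂ) m * ((oneChar G : IrrCharacter G) : G → ℂ) m⁻¹ *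
      (((oneChar G : IrrCharacter G) : G → ℂ) e * ((oneChar G : IrrCharacter G) : G → ℂ) e⁻¹) *
      ((oneChar G : IrrCharacter G) : G → ℂ) g⁻¹ / ((oneChar G : IrrCharacter G) : G → ℂ) 1 ^ 3 = 1 := by
    simp [oneChar]
  rw [h1] at hz
  have h2 : ‖∑ χ ∈ Finset.univ.erase (oneChar G),
      (χ : G → ℂ) m * (χ : G → ℂ) m⁻¹ * ((χ : G → ℂ) e * (χ : G → ℂ) e⁻¹) *
        (χ : G → ℂ) g⁻¹ / (χ : G → ℂ) 1 ^ 3‖ = 1 := by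
    have : ∑ χ ∈ Finset.univ.erase (oneChar G),
      (χ : G → ℂ) m * (χ : G → ℂ) m⁻¹ * ((χ : G → ℂ) e * (χ : G → ℂ) e⁻¹) *
        (χ : G → ℂ) g⁻¹ / (χ : G → ℂ) 1 ^ 3 = -1 := by
      linear_combination hz
    rw [this]; simp
  have h3 : ‖∑ χ ∈ Finset.univ.erase (oneChar G),
      (χ : G → ℂ) m * (χ : G → ℂ) m⁻¹ * ((χ : G → ℂ) e * (χ : G → ℂ) e⁻¹) *
        (χ : G → ℂ) g⁻¹ / (χ : G → ℂ) 1 ^ 3‖ ≤
      ∑ χ ∈ Finset.univ.erase (oneChar G), ‖(χ : G → ℂ) m‖ ^ 2 * ‖(χ : G → ℂ) e‖ ^ 2 / ‖(χ : G → ℂ) 1‖ ^ 2 := by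
    refine (norm_sum_le _ _).trans (Finset.sum_le_sum fun χ _ => ?_)
    have hpos : 0 < ‖(χ : G → ℂ) 1‖ := norm_pos_iff.mpr (irr_one_ne_zero χ.2)
    have hinv : ∀ y : G, ‖(χ : G → ℂ) y⁻¹‖ = ‖(χ : G → ℂ) y‖ := fun y => by
      rw [isCharacter_apply_inv (isIrr_isCharacter χ.2), RCLike.norm_conj]
    rw [norm_div, norm_pow, norm_mul, norm_mul, norm_mul, norm_mul, hinv m, hinv e,
      div_le_div_iff₀ (by positivity) (by positivity)]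
    have h4 := norm_le_one χ.2 g⁻¹
    have h5 : 0 ≤ ‖(χ : G → ℂ) m‖ ^ 2 * ‖(χ : G → ℂ) e‖ ^ 2 := by positivity
    calc ‖(χ : G → ℂ) m‖ * ‖(χ : G → ℂ) m‖ * (‖(χ : G → ℂ) e‖ * ‖(χ : G → ℂ) e‖) *
          ‖(χ : G → ℂ) g⁻¹‖ * ‖(χ : G → ℂ) 1‖ ^ 2
        = (‖(χ : G → ℂ) m‖ ^ 2 * ‖(χ : G → ℂ) e‖ ^ 2) * (‖(χ : G → ℂ) g⁻¹‖ * ‖(χ : G → ℂ) 1‖ ^ 2) := by ring
      _ ≤ (‖(χ : G → ℂ) m‖ ^ 2 * ‖(χ : G → ℂ) e‖ ^ 2) * (‖(χ : G → ℂ) 1‖ * ‖(χ : G → ℂ) 1‖ ^ 2) := by gcongr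
      _ = (‖(χ : G → ℂ) m‖ ^ 2 * ‖(χ : G → ℂ) e‖ ^ 2) * ‖(χ : G → ℂ) 1‖ ^ 3 := by ring
  linarith

end Sums

/-! ### absorption -/

/-- `a` and `a⁻¹` conjugated: a commutator -/
theorem conj_mul_conj (m x z : G) :
    x * m * x⁻¹ * (z * m⁻¹ * z⁻¹) =
      (x * z⁻¹) * (z * m * z⁻¹) * (x * z⁻¹)⁻¹ * (z * m * z⁻¹)⁻¹ := by group

/-- Absorption of a central subgroup by one element. -/
theorem twoComm_of_absorb (N : Subgroup G) [N.Normal] (hN : N ≤ center G) (m : G)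
    (habs : ∀ n ∈ N, IsConj m (n * m))
    (h : ∀ g : G ⧸ N, ∃ z x a b : G ⧸ N,
      a * b * a⁻¹ * b⁻¹ * (x * (m : G ⧸ N) * x⁻¹ * (z * (m : G ⧸ N)⁻¹ * z⁻¹)) = g) : TwoComm G := by
  intro g
  obtain ⟨z, x, a, b, hg⟩ := h (g : G ⧸ N)
  obtain ⟨z, rfl⟩ := QuotientGroup.mk_surjective z
  obtain ⟨x, rfl⟩ := QuotientGroup.mk_surjective x
  obtain ⟨a, rfl⟩ := QuotientGroup.mk_surjective a
  obtain ⟨b, rfl⟩ := QuotientGroup.mk_surjective b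
  have h1 : ((a * b * a⁻¹ * b⁻¹ * (x * m * x⁻¹ * (z * m⁻¹ * z⁻¹)) : G) : G ⧸ N) = (g : G ⧸ N) := hg
  rw [QuotientGroup.eq] at h1
  obtain ⟨n, hn⟩ : ∃ n, n = (a * b * a⁻¹ * b⁻¹ * (x * m * x⁻¹ * (z * m⁻¹ * z⁻¹)))⁻¹ * g := ⟨_, rfl⟩
  rw [← hn] at h1
  obtain ⟨y, hy⟩ := isConj_iff.1 (habs n h1)
  have hc := mem_center_iff.1 (hN h1)
  refine ⟨a, b, (x * y) * z⁻¹, z * m * z⁻¹, ?_⟩
  rw [← conj_mul_conj m (x * y) z]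
  have e1 : (x * y) * m * (x * y)⁻¹ = n * (x * m * x⁻¹) := by
    calc (x * y) * m * (x * y)⁻¹ = x * (y * m * y⁻¹) * x⁻¹ := by group
      _ = (x * n) * (m * x⁻¹) := by rw [hy]; group
      _ = n * (x * m * x⁻¹) := by rw [hc x]; group
  rw [e1]
  calc a * b * a⁻¹ * b⁻¹ * (n * (x * m * x⁻¹) * (z * m⁻¹ * z⁻¹))
      = (a * b * a⁻¹ * b⁻¹ * n) * (x * m * x⁻¹ * (z * m⁻¹ * z⁻¹)) := by group
    _ = (a * b * a⁻¹ * b⁻¹) * (n * (x * m * x⁻¹ * (z * m⁻¹ * z⁻¹))) := by group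
    _ = (a * b * a⁻¹ * b⁻¹) * (x * m * x⁻¹ * (z * m⁻¹ * z⁻¹)) * n := by rw [← hc]; group
    _ = g := by rw [hn]; group

/-- Absorption of a central subgroup by two elements. -/
theorem twoComm_of_absorb₂ (N : Subgroup G) [N.Normal] (m e : G)
    (habs : ∀ n ∈ N, ∃ n₁ ∈ center G, ∃ n₂ ∈ center G, n = n₁ * n₂ ∧ IsConj m (n₁ * m) ∧ IsConj e (n₂ * e))
    (h : ∀ g : G ⧸ N, ∃ x z u v : G ⧸ N,
      x * (m : G ⧸ N) * x⁻¹ * (z * (m : G ⧸ N)⁻¹ * z⁻¹ *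
        (u * (e : G ⧸ N) * u⁻¹ * (v * (e : G ⧸ N)⁻¹ * v⁻¹))) = g) : TwoComm G := by
  intro g
  obtain ⟨x, z, u, v, hg⟩ := h (g : G ⧸ N)
  obtain ⟨z, rfl⟩ := QuotientGroup.mk_surjective z
  obtain ⟨x, rfl⟩ := QuotientGroup.mk_surjective x
  obtain ⟨u, rfl⟩ := QuotientGroup.mk_surjective u
  obtain ⟨v, rfl⟩ := QuotientGroup.mk_surjective v
  have h1 : ((x * m * x⁻¹ * (z * m⁻¹ * z⁻¹ * (u * e * u⁻¹ * (v * e⁻¹ * v⁻¹))) : G) : G ⧸ N) = (g : G ⧸ N) := hg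
  rw [QuotientGroup.eq] at h1
  obtain ⟨n, hn⟩ : ∃ n, n = (x * m * x⁻¹ * (z * m⁻¹ * z⁻¹ * (u * e * u⁻¹ * (v * e⁻¹ * v⁻¹))))⁻¹ * g := ⟨_, rfl⟩
  rw [← hn] at h1
  obtain ⟨n₁, hn1, n₂, hn2, hn12, hm, he⟩ := habs n h1
  obtain ⟨y, hy⟩ := isConj_iff.1 hm
  obtain ⟨w, hw⟩ := isConj_iff.1 he
  have hc1 := mem_center_iff.1 hn1
  have hc2 := mem_center_iff.1 hn2
  refine ⟨(x * y) * z⁻¹, z * m * z⁻¹, (u * w) * v⁻¹, v * e * v⁻¹, ?_⟩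
  rw [← conj_mul_conj m (x * y) z, ← conj_mul_conj e (u * w) v]
  have e1 : (x * y) * m * (x * y)⁻¹ = n₁ * (x * m * x⁻¹) := by
    calc (x * y) * m * (x * y)⁻¹ = x * (y * m * y⁻¹) * x⁻¹ := by group
      _ = (x * n₁) * (m * x⁻¹) := by rw [hy]; group
      _ = n₁ * (x * m * x⁻¹) := by rw [hc1 x]; group
  have e2 : (u * w) * e * (u * w)⁻¹ = n₂ * (u * e * u⁻¹) := by
    calc (u * w) * e * (u * w)⁻¹ = u * (w * e * w⁻¹) * u⁻¹ := by group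
      _ = (u * n₂) * (e * u⁻¹) := by rw [hw]; group
      _ = n₂ * (u * e * u⁻¹) := by rw [hc2 u]; group
  rw [e1, e2]
  have e3 : g = x * m * x⁻¹ * (z * m⁻¹ * z⁻¹ * (u * e * u⁻¹ * (v * e⁻¹ * v⁻¹))) * n := by rw [hn]; group
  have e4 : n₁ * (x * m * x⁻¹) * (z * m⁻¹ * z⁻¹) = (x * m * x⁻¹) * (z * m⁻¹ * z⁻¹) * n₁ := by
    rw [mul_assoc, ← hc1]
  have e5 : n₂ * (u * e * u⁻¹) * (v * e⁻¹ * v⁻¹) = (u * e * u⁻¹) * (v * e⁻¹ * v⁻¹) * n₂ := by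
    rw [mul_assoc, ← hc2]
  rw [e3, e4, e5, hn12]
  have e6 := hc1 ((u * e * u⁻¹) * (v * e⁻¹ * v⁻¹))
  calc (x * m * x⁻¹) * (z * m⁻¹ * z⁻¹) * n₁ * ((u * e * u⁻¹) * (v * e⁻¹ * v⁻¹) * n₂)
      = (x * m * x⁻¹) * (z * m⁻¹ * z⁻¹) * (n₁ * ((u * e * u⁻¹) * (v * e⁻¹ * v⁻¹))) * n₂ := by group
    _ = (x * m * x⁻¹) * (z * m⁻¹ * z⁻¹) * (((u * e * u⁻¹) * (v * e⁻¹ * v⁻¹)) * n₁) * n₂ := by rw [e6]
    _ = _ := by group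

end Cfsg.Agent.H990.TC
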