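import Cfsg.Agent.H674.ExplicitCases

/-!
# Explicit matrices of `SU₄(3)` (S2494, helper990)

The two-qubit Pauli group modulo scalars (`2⁴`), four elements of `SU₄(3)` fusing its involutions, and the monomial element `Y` of
order `8` with `W Y W⁻¹ = i Y`.
-/

set_option autoImplicit false
set_option maxRecDepth 100000

namespace Cfsg.Agent.H990.TC.U43

open Cfsg Matrix Cfsg.Agent.H674.Explicit Cfsg.Agent.H674.ExplicitCases

abbrev M4 := Matrix (Fin 4) (Fin 4) F9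

/-- `i` -/
def im : F9 := ⟨0, 1⟩

def Y : M4 := !![0, 0, 0, -1; 1, 0, 0, 0; 0, 1, 0, 0; 0, 0, 1, 0]

def W : M4 := !![⟨1, 1⟩, 0, ⟨2, 2⟩, 0; 0, ⟨2, 1⟩, 0, ⟨1, 2⟩; ⟨2, 2⟩, 0, ⟨2, 2⟩, 0; 0, ⟨1, 2⟩, 0, ⟨1, 2⟩]

theorem good_Y : good 3 Y = true := by decide +kernel
theorem good_W : good 3 W = true := by decide +kernel
theorem good_im : good 3 (im • (1 : M4)) = true := by decide +kernel
theorem W_mul_Y : W * Y = im • (1 : M4) * (Y * W) := by decide +kernel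
theorem im_pow : im ^ 4 = 1 ∧ im ^ 2 ≠ 1 := by decide +kernel

/-- the group `2⁴` -/
abbrev V := ZMod 2 × ZMod 2 × ZMod 2 × ZMod 2

def idx (u : V) : ℕ := 8 * u.1.val + 4 * u.2.1.val + 2 * u.2.2.1.val + u.2.2.2.val

def ofIdx (n : ℕ) : V := ((n / 8 : ℕ), (n / 4 : ℕ), (n / 2 : ℕ), (n : ℕ))

/-- the Pauli matrices `X^a Z^b` -/
def P (u : V) : M4 := Matrix.of fun i j =>
  if i.val = j.val ^^^ (2 * u.1.val + u.2.1.val) then
    (if u.2.2.1 * ((j.val / 2 : ℕ) : ZMod 2) + u.2.2.2 * ((j.val : ℕ) : ZMod 2) = 0 then 1 else -1) else 0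

/-- the fusing elements -/
def Gm (k : ℕ) : M4 :=
  match k with
  | 0 => !![1, 0, 0, 0; 0, 0, 0, 1; 0, 1, 0, 0; 0, 0, 1, 0]
  | 1 => !![1, 0, 0, 0; 0, ⟨0, 1⟩, 0, 0; 0, 0, ⟨0, 1⟩, 0; 0, 0, 0, -1]
  | 2 => !![1, 0, 0, 0; 0, 1, 0, 0; 0, 0, ⟨0, 1⟩, 0; 0, 0, 0, ⟨0, 2⟩]
  | _ => !![1, 1, 1, 1; 1, -1, 1, -1; 1, 1, -1, -1; 1, -1, -1, 1]

def par (u : V) : V := ofIdx (([0, 1, 3, 1, 1, 4, 4, 5, 4, 6, 8, 8, 3, 12, 15, 12] : List ℕ).getD (idx u) 0)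
def gen (u : V) : ℕ := ([0, 0, 0, 0, 3, 1, 2, 2, 0, 0, 1, 2, 3, 2, 2, 1] : List ℕ).getD (idx u) 0
def scl (u : V) : ℕ := ([0, 0, 0, 0, 0, 1, 0, 0, 0, 0, 1, 1, 0, 3, 3, 2] : List ℕ).getD (idx u) 0

theorem good_Gm : ∀ k < 4, good 3 (Gm k) = true := by decide +kernel
theorem gen_lt : ∀ u : V, gen u < 4 := by decide +kernel
theorem par_four : ∀ u : V, u ≠ 0 → par (par (par (par u))) = ofIdx 1 := by decide +kernel
theorem par_ne : ∀ u : V, u ≠ 0 → par u ≠ 0 := by decide +kernel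
theorem fuse : ∀ u : V, u ≠ 0 → par u = u ∨ Gm (gen u) * P (par u) = im ^ (scl u) • (P u * Gm (gen u)) := by
  decide +kernel

theorem good_P : ∀ u : V, good 3 (P u) = true := by decide +kernel

theorem P_mul : ∀ u v : V, P u * P v = P (u + v) ∨ P u * P v = -P (u + v) := by decide +kernel

theorem P_zero : P 0 = 1 := by decide +kernel

theorem P_comm : ∀ u : V, u ≠ 0 → ∃ k < 4, P u * P (ofIdx (2 ^ k)) ≠ P (ofIdx (2 ^ k)) * P u := by decide +kernel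

end Cfsg.Agent.H990.TC.U43
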