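import Mathlib

/-!
# Numerics for the unitary groups (S2494, helper990)
-/

set_option autoImplicit false

namespace Cfsg.Agent.H990.TC.UniGen

theorem dvd_aux (q m : ℕ) : q + 1 ∣ q ^ (2 * m) - 1 := by
  have h1 : q ^ 2 - 1 ∣ q ^ (2 * m) - 1 := by
    have := Nat.sub_dvd_pow_sub_pow (q ^ 2) 1 m
    rwa [one_pow, ← pow_mul] at this
  refine dvd_trans ?_ h1
  have h2 : q ^ 2 - 1 = (q + 1) * (q - 1) := by
    have := Nat.sq_sub_sq q 1
    rwa [one_pow] at this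
  exact ⟨q - 1, h2⟩

theorem odd_ineq {q n : ℕ} (hq : 2 ≤ q) (hn : 3 ≤ n) (ho : Odd n) (h : ¬ (n = 3 ∧ q = 2)) :
    q ^ n + 1 ≤ ((q ^ n - q) / (q + 1)) ^ 2 := by
  obtain ⟨m, hm⟩ := ho
  have hqX : q ≤ q ^ n := Nat.le_self_pow (by omega) q
  have hdvd : q + 1 ∣ q ^ n - q := by
    have h1 : q ^ n - q = q * (q ^ (2 * m) - 1) := by
      rw [Nat.mul_sub, mul_one, hm, pow_succ']
    rw [h1]
    exact Dvd.dvd.mul_left (dvd_aux q m) q
  obtain ⟨D, hD⟩ := hdvd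
  rw [hD, Nat.mul_div_cancel_left _ (by omega)]
  have hX : q ^ n = (q + 1) * D + q := by omega
  have key : ((q : ℤ) ^ n + 1) * (q + 1) ^ 2 ≤ (q ^ n - q) ^ 2 := by
    have hq' : (2 : ℤ) ≤ q := by exact_mod_cast hq
    by_cases hq3 : 3 ≤ q
    · have hq3' : (3 : ℤ) ≤ q := by exact_mod_cast hq3
      obtain ⟨t, ht⟩ : ∃ t : ℕ, q ^ n = q ^ 3 + t := by
        obtain ⟨t, ht⟩ := Nat.exists_eq_add_of_le (Nat.pow_le_pow_right (by omega : 0 < q) hn)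
        exact ⟨t, ht⟩
      have ht' : (q : ℤ) ^ n = q ^ 3 + t := by exact_mod_cast ht
      rw [ht']
      have ht0 : (0 : ℤ) ≤ t := by positivity
      obtain ⟨s, hs⟩ : ∃ s : ℤ, (q : ℤ) = 3 + s := ⟨q - 3, by ring⟩
      have hs0 : 0 ≤ s := by linarith
      rw [hs]
      nlinarith [mul_nonneg ht0 hs0, mul_nonneg ht0 (mul_nonneg hs0 hs0), mul_nonneg ht0 (mul_nonneg hs0 (mul_nonneg hs0 hs0)),
        mul_nonneg hs0 hs0, mul_nonneg hs0 (mul_nonneg hs0 hs0), mul_nonneg (mul_nonneg hs0 hs0) (mul_nonneg hs0 hs0),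
        mul_nonneg (mul_nonneg hs0 hs0) (mul_nonneg hs0 (mul_nonneg hs0 hs0)),
        mul_nonneg (mul_nonneg hs0 (mul_nonneg hs0 hs0)) (mul_nonneg hs0 (mul_nonneg hs0 hs0)), mul_nonneg ht0 ht0]
    · have hq2 : q = 2 := by omega
      subst hq2
      have hn5 : 5 ≤ n := by
        rcases Nat.lt_or_ge n 5 with h5 | h5
        · exfalso
          have : n = 3 := by omega
          exact h ⟨this, rfl⟩
        · exact h5
      have h32 : (32 : ℤ) ≤ 2 ^ n := by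
        have := Nat.pow_le_pow_right (by norm_num : 0 < 2) hn5
        have h6 : 2 ^ 5 = 32 := by norm_num
        rw [h6] at this
        exact_mod_cast this
      push_cast
      nlinarith
  have h1 : (((q + 1) * D : ℕ) : ℤ) = (q : ℤ) ^ n - q := by
    have : ((q : ℤ) ^ n) = ((q + 1) * D : ℕ) + q := by exact_mod_cast hX
    rw [this]; ring
  rw [← h1] at key
  have h2 : (q ^ n + 1) * (q + 1) ^ 2 ≤ D ^ 2 * (q + 1) ^ 2 := by
    have h3 : (((q ^ n + 1) * (q + 1) ^ 2 : ℕ) : ℤ) ≤ ((D ^ 2 * (q + 1) ^ 2 : ℕ) : ℤ) := by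
      push_cast
      push_cast at key
      linarith
    exact_mod_cast h3
  exact Nat.le_of_mul_le_mul_right h2 (by positivity)

theorem even_ineq {q n : ℕ} (hq : 2 ≤ q) (hn : 4 ≤ n) (he : Even n) (h2 : ¬ (n = 4 ∧ q = 2)) (h3 : ¬ (n = 4 ∧ q = 3)) :
    (q ^ (n - 1) + 1) * (4 * q) ≤ ((q ^ n - 1) / (q + 1)) ^ 2 := by
  obtain ⟨m, hm⟩ := he
  have hX1 : 1 ≤ q ^ n := Nat.one_le_pow _ _ (by omega)
  have hdvd : q + 1 ∣ q ^ n - 1 := by
    rw [hm, ← two_mul]; exact dvd_aux q m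
  obtain ⟨D, hD⟩ := hdvd
  rw [hD, Nat.mul_div_cancel_left _ (by omega)]
  have hX : q ^ n = (q + 1) * D + 1 := by omega
  have hL : (q ^ (n - 1) + 1) * (4 * q) = 4 * (q ^ n + q) := by
    obtain ⟨j, rfl⟩ : ∃ j, n = j + 1 := ⟨n - 1, by omega⟩
    rw [Nat.add_sub_cancel, pow_succ]; ring
  rw [hL]
  have key : 4 * ((q : ℤ) ^ n + q) * (q + 1) ^ 2 ≤ (q ^ n - 1) ^ 2 := by
    by_cases hq4 : 4 ≤ q
    · have hq4' : (4 : ℤ) ≤ q := by exact_mod_cast hq4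
      obtain ⟨t, ht⟩ : ∃ t : ℕ, q ^ n = q ^ 4 + t := by
        obtain ⟨t, ht⟩ := Nat.exists_eq_add_of_le (Nat.pow_le_pow_right (by omega : 0 < q) hn)
        exact ⟨t, ht⟩
      have ht' : (q : ℤ) ^ n = q ^ 4 + t := by exact_mod_cast ht
      rw [ht']
      have ht0 : (0 : ℤ) ≤ t := by positivity
      obtain ⟨s, hs⟩ : ∃ s : ℕ, q = 4 + s := ⟨q - 4, by omega⟩
      have hs0 : (0 : ℤ) ≤ s := by positivity
      rw [hs]
      push_cast
      have e : ((4 + (s : ℤ)) ^ 4 + t - 1) ^ 2 - 4 * ((4 + (s : ℤ)) ^ 4 + t + (4 + s)) * ((4 + (s : ℤ)) + 1) ^ 2 =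
        t ^ 2 + t * (2 * ((4 + (s : ℤ)) ^ 4 - 1) - 4 * ((4 + (s : ℤ)) + 1) ^ 2) +
          (((4 + (s : ℤ)) ^ 4 - 1) ^ 2 - 4 * ((4 + (s : ℤ)) ^ 4 + (4 + s)) * ((4 + (s : ℤ)) + 1) ^ 2) := by ring
      have e1 : (0 : ℤ) ≤ 2 * ((4 + (s : ℤ)) ^ 4 - 1) - 4 * ((4 + (s : ℤ)) + 1) ^ 2 := by
        have : 2 * ((4 + (s : ℤ)) ^ 4 - 1) - 4 * ((4 + (s : ℤ)) + 1) ^ 2 =
          2 * s ^ 4 + 32 * s ^ 3 + 188 * s ^ 2 + 472 * s + 410 := by ring
        rw [this]; positivity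
      have e2 : (0 : ℤ) ≤ ((4 + (s : ℤ)) ^ 4 - 1) ^ 2 - 4 * ((4 + (s : ℤ)) ^ 4 + (4 + s)) * ((4 + (s : ℤ)) + 1) ^ 2 := by
        have : ((4 + (s : ℤ)) ^ 4 - 1) ^ 2 - 4 * ((4 + (s : ℤ)) ^ 4 + (4 + s)) * ((4 + (s : ℤ)) + 1) ^ 2 =
          s ^ 8 + 32 * s ^ 7 + 444 * s ^ 6 + 3480 * s ^ 5 + 16794 * s ^ 4 + 50844 * s ^ 3 + 93576 * s ^ 2 +
            94460 * s + 39025 := by ring
        rw [this]; positivity
      have e3 : (0 : ℤ) ≤ t * (2 * ((4 + (s : ℤ)) ^ 4 - 1) - 4 * ((4 + (s : ℤ)) + 1) ^ 2) := mul_nonneg ht0 e1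
      have e4 : (0 : ℤ) ≤ (t : ℤ) ^ 2 := by positivity
      linarith
    · rcases (show q = 2 ∨ q = 3 by omega) with rfl | rfl
      · have hn6 : 6 ≤ n := by
          rcases Nat.lt_or_ge n 6 with h5 | h5
          · exfalso; exact h2 ⟨by omega, rfl⟩
          · exact h5
        have h64 : (64 : ℤ) ≤ 2 ^ n := by
          have := Nat.pow_le_pow_right (by norm_num : 0 < 2) hn6
          have h6 : 2 ^ 6 = 64 := by norm_num
          rw [h6] at this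
          exact_mod_cast this
        push_cast
        nlinarith
      · have hn6 : 6 ≤ n := by
          rcases Nat.lt_or_ge n 6 with h5 | h5
          · exfalso; exact h3 ⟨by omega, rfl⟩
          · exact h5
        have h64 : (729 : ℤ) ≤ 3 ^ n := by
          have := Nat.pow_le_pow_right (by norm_num : 0 < 3) hn6
          have h6 : 3 ^ 6 = 729 := by norm_num
          rw [h6] at this
          exact_mod_cast this
        push_cast
        nlinarith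
  have h1 : (((q + 1) * D : ℕ) : ℤ) = (q : ℤ) ^ n - 1 := by
    have : ((q : ℤ) ^ n) = ((q + 1) * D : ℕ) + 1 := by exact_mod_cast hX
    rw [this]; ring
  rw [← h1] at key
  have h2 : (4 * (q ^ n + q)) * (q + 1) ^ 2 ≤ D ^ 2 * (q + 1) ^ 2 := by
    have h3 : (((4 * (q ^ n + q)) * (q + 1) ^ 2 : ℕ) : ℤ) ≤ ((D ^ 2 * (q + 1) ^ 2 : ℕ) : ℤ) := by
      push_cast
      push_cast at key
      linarith
    exact_mod_cast h3
  exact Nat.le_of_mul_le_mul_right h2 (by positivity)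

end Cfsg.Agent.H990.TC.UniGen
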