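import Cfsg.Agent.H990.TC.CentDec
import Cfsg.Agent.H990.TC.OrthRow
import Cfsg.Agent.H990.TC.RowUni
import Cfsg.Agent.H990.TC.RowU6
import Cfsg.Agent.H990.TC.UniNum
import Cfsg.Agent.H253.TwoComm.Crit
import Cfsg.Agent.LieClassical.HermPerfect
import Cfsg.Agent.S0278
import Cfsg.Agent.S2334
import Cfsg.Agent.S2335

/-!
# Two commutators in `SU_n(q)` (S2494, helper990)

The Hermitian form gives a quadratic form over `F_q`; an element of prime order `r`, where the order of `q` modulo `r` is `2k`,
`k` the largest odd number `≤ n`, has a centralizer of order at most `q^k + 1` or `(q^k + 1) 4 q`.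
-/

set_option autoImplicit false
set_option linter.unusedVariables false
set_option linter.unusedSectionVars false

namespace Cfsg.Agent.H990.TC.UniGen

open Cfsg Subgroup Module
open Cfsg.Agent.LieClassical
open Cfsg.Agent.H253.TC (TwoComm twoComm_of_centralizer)
open Cfsg.Agent.Characters.Core

universe v

variable {F : Type v} [Field F] [Fintype F] {q n : ℕ}

/-- the subfield with `q` elements -/
def K0 (hF : Fintype.card F = q ^ 2) : Subfield F :=
  ((Cfsg.Agent.LieClassical.HermBasic.conj hF : F ≃+* F) : F →+* F).eqLocusField (RingHom.id F)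

open Cfsg.Agent.LieClassical.HermBasic

theorem mem_K0 (hF : Fintype.card F = q ^ 2) {x : F} : x ∈ K0 hF ↔ x ^ q = x := Iff.rfl

theorem card_K0 (hF : Fintype.card F = q ^ 2) : Nat.card (K0 hF) = q := card_fixed hF

theorem finrank_K0 (hF : Fintype.card F = q ^ 2) : finrank (K0 hF) F = 2 := by
  haveI : Finite (K0 hF) := inferInstance
  have h1 := Module.natCard_eq_pow_finrank (K := K0 hF) (V := F)
  rw [card_K0, Nat.card_eq_fintype_card, hF] at h1
  exact (Nat.pow_right_injective (two_le hF) h1).symm

theorem finrank_V (hF : Fintype.card F = q ^ 2) : finrank (K0 hF) (Fin n → F) = 2 * n := by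
  haveI : FiniteDimensional (K0 hF) F := Module.Finite.of_finite
  rw [Module.finrank_pi_fintype]
  simp only [finrank_K0, Finset.sum_const, Finset.card_univ, Fintype.card_fin, smul_eq_mul]
  ring

/-- the trace form of the Hermitian form -/
def trB (hF : Fintype.card F = q ^ 2) : LinearMap.BilinMap (K0 hF) (Fin n → F) (K0 hF) :=
  LinearMap.mk₂ (K0 hF)
    (fun u v => ⟨hermForm n F q u v + hermForm n F q v u, by
      rw [mem_K0, herm_swap hF u v]; exact trace_pow_q hF _⟩)
    (fun u u' v => Subtype.ext (by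
      show hermForm n F q (u + u') v + hermForm n F q v (u + u') =
        (hermForm n F q u v + hermForm n F q v u) + (hermForm n F q u' v + hermForm n F q v u')
      rw [herm_add_left, herm_add_right hF]; ring))
    (fun c u v => Subtype.ext (by
      show hermForm n F q ((c : F) • u) v + hermForm n F q v ((c : F) • u) =
        (c : F) * (hermForm n F q u v + hermForm n F q v u)
      rw [herm_smul_left, herm_smul_right, (mem_K0 hF).1 c.2]; ring))
    (fun u v v' => Subtype.ext (by
      show hermForm n F q u (v + v') + hermForm n F q (v + v') u =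
        (hermForm n F q u v + hermForm n F q v u) + (hermForm n F q u v' + hermForm n F q v' u)
      rw [herm_add_left, herm_add_right hF]; ring))
    (fun c u v => Subtype.ext (by
      show hermForm n F q u ((c : F) • v) + hermForm n F q ((c : F) • v) u =
        (c : F) * (hermForm n F q u v + hermForm n F q v u)
      rw [herm_smul_left, herm_smul_right, (mem_K0 hF).1 c.2]; ring))

theorem trB_apply (hF : Fintype.card F = q ^ 2) (u v : Fin n → F) :
    ((trB hF u v : K0 hF) : F) = hermForm n F q u v + hermForm n F q v u := rfl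

/-- the quadratic form over `F_q` -/
def QH (hF : Fintype.card F = q ^ 2) : QuadraticForm (K0 hF) (Fin n → F) where
  toFun v := ⟨hermForm n F q v v, herm_self_pow hF v⟩
  toFun_smul c v := Subtype.ext (by
    show hermForm n F q ((c : F) • v) ((c : F) • v) = (c : F) * (c : F) * hermForm n F q v v
    rw [herm_smul_left, herm_smul_right, (mem_K0 hF).1 c.2]; ring)
  exists_companion' := ⟨trB hF, fun u v => Subtype.ext (by
    show hermForm n F q (u + v) (u + v) = hermForm n F q u u + hermForm n F q v v +
      (hermForm n F q u v + hermForm n F q v u)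
    rw [herm_add_left, herm_add_right hF, herm_add_right hF]; ring)⟩

theorem QH_apply (hF : Fintype.card F = q ^ 2) (v : Fin n → F) :
    ((QH hF v : K0 hF) : F) = hermForm n F q v v := rfl

theorem polar_QH (hF : Fintype.card F = q ^ 2) (u v : Fin n → F) :
    ((QuadraticMap.polar (QH (n := n) hF) u v : K0 hF) : F) = hermForm n F q u v + hermForm n F q v u := by
  show hermForm n F q (u + v) (u + v) - hermForm n F q u u - hermForm n F q v v = _
  rw [herm_add_left, herm_add_right hF, herm_add_right hF]; ring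

theorem nondeg_QH (hF : Fintype.card F = q ^ 2) (u : Fin n → F)
    (h : ∀ v, QuadraticMap.polar (QH (n := n) hF) v u = 0) : u = 0 := by
  apply herm_nondeg hF
  intro v
  apply eq_zero_of_forall_trace hF
  intro c
  have h1 := congrArg (fun z : K0 hF => (z : F)) (h ((c ^ q) • v))
  simp only [polar_QH] at h1
  rw [herm_smul_left, herm_smul_right, herm_swap hF u v, pow_q_pow_q hF] at h1
  have h2 : (c ^ q * (hermForm n F q u v) ^ q + c * hermForm n F q u v : F) = 0 := h1
  rw [mul_pow]
  linear_combination h2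

/-- the linear map over `F_q` of a matrix -/
def lin (hF : Fintype.card F = q ^ 2) : Matrix (Fin n) (Fin n) F →* Module.End (K0 hF) (Fin n → F) where
  toFun M := (Matrix.mulVecLin M).restrictScalars (K0 hF)
  map_one' := by
    apply LinearMap.ext
    intro v
    show (1 : Matrix (Fin n) (Fin n) F).mulVec v = v
    exact Matrix.one_mulVec v
  map_mul' M N := by
    apply LinearMap.ext
    intro v
    show (M * N).mulVec v = M.mulVec (N.mulVec v)
    exact (Matrix.mulVec_mulVec v M N).symm

theorem lin_apply (hF : Fintype.card F = q ^ 2) (M : Matrix (Fin n) (Fin n) F) (v : Fin n → F) :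
    lin hF M v = M.mulVec v := rfl

theorem lin_injective (hF : Fintype.card F = q ^ 2) :
    Function.Injective (lin (n := n) hF) := by
  intro M N h
  apply Matrix.mulVec_injective
  funext v
  exact LinearMap.congr_fun h v

/-- the matrix of an element of `SU` -/
def mt : SU n F q →* Matrix (Fin n) (Fin n) F :=
  (Matrix.SpecialLinearGroup.coeMonoidHom).comp (SU n F q).subtype

theorem mt_injective : Function.Injective (mt : SU n F q →* Matrix (Fin n) (Fin n) F) :=
  (Matrix.SpecialLinearGroup.coeMonoidHom_injective).comp Subtype.val_injective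

theorem QH_lin (hF : Fintype.card F = q ^ 2) (g : SU n F q) (v : Fin n → F) :
    QH hF (lin hF (mt g) v) = QH hF v := by
  apply Subtype.ext
  exact (mem_SU_iff (g : Matrix.SpecialLinearGroup (Fin n) F)).1 g.2 v v

theorem card_cent_le' (hF : Fintype.card F = q ^ 2) (x : SU n F q) :
    Nat.card (centralizer ({x} : Set (SU n F q))) ≤
      Nat.card {y : Module.End (K0 hF) (Fin n → F) // Commute (lin hF (mt x)) y ∧ ∀ v, QH hF (y v) = QH hF v} := by
  haveI : Finite (Fin n → F) := inferInstance
  haveI : Finite (Module.End (K0 hF) (Fin n → F)) :=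
    Finite.of_injective (fun (f : Module.End (K0 hF) (Fin n → F)) => (f : (Fin n → F) → (Fin n → F)))
      DFunLike.coe_injective
  refine Nat.card_le_card_of_injective (fun g => ⟨lin hF (mt (g : SU n F q)), ?_, QH_lin hF _⟩) ?_
  · have h1 : x * (g : SU n F q) = (g : SU n F q) * x := (mem_centralizer_singleton_iff.1 g.2).symm
    show lin hF (mt x) * lin hF (mt (g : SU n F q)) = lin hF (mt (g : SU n F q)) * lin hF (mt x)
    rw [← map_mul, ← map_mul, ← map_mul, ← map_mul, h1]
  · intro g h hgh
    exact Subtype.ext (mt_injective (lin_injective hF (congrArg Subtype.val hgh)))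

/-- **the centralizers** -/
theorem exists_elt (hF : Fintype.card F = q ^ 2) {k : ℕ} (hk : Odd k) (hk3 : 3 ≤ k) (hkn : k ≤ n) (hnk : n ≤ k + 1)
    (h23 : ¬ (q = 2 ∧ k = 3)) : ∃ x : SU n F q, Nat.card (centralizer ({x} : Set (SU n F q))) ≤
      (q ^ k + 1) * (if n = k then 1 else 4 * q) := by
  classical
  have hq2 := two_le hF
  obtain ⟨r, hr, hr2, hord, hdvd, hrq⟩ := Cfsg.Agent.H990.TC.OrthRow.exists_prim hq2 (by omega : 2 ≤ k) h23
  haveI : Fact r.Prime := ⟨hr⟩
  -- `r` divides the order
  have hrd : r ∣ Nat.card (SU n F q) := by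
    have h1 := Cfsg.Agent.S0278.result hF n (by omega)
    have h2 : r ∣ (q + 1) * Nat.card (SU n F q) := by
      rw [h1]
      apply dvd_mul_of_dvd_right
      have h3 : k - 1 ∈ Finset.range n := by rw [Finset.mem_range]; omega
      refine dvd_trans ?_ (Finset.dvd_prod_of_mem _ h3)
      rw [if_pos (by obtain ⟨j, hj⟩ := hk; exact ⟨j, by omega⟩), show k - 1 + 1 = k by omega]
      exact hdvd
    rcases hr.dvd_mul.1 h2 with h3 | h3
    · exfalso
      have h4 : ((q : ℕ) : ZMod r) ^ 2 = 1 := by
        have h5 : ((q + 1 : ℕ) : ZMod r) = 0 := (ZMod.natCast_eq_zero_iff _ _).2 h3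
        push_cast at h5
        linear_combination ((q : ZMod r) - 1) * h5
      have h6 := orderOf_dvd_of_pow_eq_one h4
      rw [hord] at h6
      have := Nat.le_of_dvd (by norm_num) h6
      omega
    · exact h3
  obtain ⟨x, hx⟩ := exists_prime_orderOf_dvd_card' (G := SU n F q) r hrd
  refine ⟨x, (card_cent_le' hF x).trans ?_⟩
  haveI : FiniteDimensional (K0 hF) (Fin n → F) := Module.Finite.of_finite
  have hK : Nat.card (K0 hF) = q := card_K0 hF
  have hrF : ((r : ℕ) : K0 hF) ≠ 0 := by
    haveI : Fintype (K0 hF) := Fintype.ofFinite _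
    apply Cfsg.Agent.H990.TC.OrthRow.cast_ne_zero hr
    rw [← Nat.card_eq_fintype_card, hK]
    exact hrq
  have hx1 : lin hF (mt x) ≠ 1 := by
    intro h
    have h1 : x = 1 := mt_injective (lin_injective hF (by rw [h, map_one, map_one]))
    rw [h1, orderOf_one] at hx
    exact hr.one_lt.ne hx
  have hxr : (lin hF (mt x)) ^ r = 1 := by
    rw [← map_pow, ← map_pow, ← hx, pow_orderOf_eq_one, map_one, map_one]
  have hordK : orderOf ((Nat.card (K0 hF) : ℕ) : ZMod r) = 2 * k := by rw [hK]; exact hord
  have hdvdK : r ∣ Nat.card (K0 hF) ^ k + 1 := by rw [hK]; exact hdvd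
  rcases (show n = k ∨ n = k + 1 by omega) with hnk' | hnk'
  · rw [if_pos hnk', mul_one]
    have h := Cent.dec_zero (QH (n := n) hF) (nondeg_QH hF) hr hrF (lin hF (mt x)) hx1 hxr (QH_lin hF x) (by omega) hordK
      hdvdK (by rw [finrank_V, hnk'])
    rwa [hK] at h
  · rw [if_neg (by omega)]
    have h := Cent.dec_two (QH (n := n) hF) (nondeg_QH hF) hr hrF (lin hF (mt x)) hx1 hxr (QH_lin hF x) (by omega) hordK
      hdvdK (by rw [finrank_V, hnk']; ring)
    rwa [hK] at h

/-- **`SU_n(q)`: two commutators** -/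
theorem two_SU (hF : Fintype.card F = q ^ 2) (hn : 3 ≤ n) (h3 : ¬ (n = 3 ∧ q = 2)) (h42 : ¬ (n = 4 ∧ q = 2))
    (h43 : ¬ (n = 4 ∧ q = 3)) (h62 : ¬ (n = 6 ∧ q = 2)) : TwoComm (SU n F q) := by
  classical
  have hq2 := two_le hF
  have hperf : commutator (SU n F q) = ⊤ := HermPerfect.commutator_SU_eq_top hF hn h3
  have hdeg : ∀ {D : ℕ}, (∀ (k : ℕ) (ρ : Representation ℂ (SU n F q) (Fin k → ℂ)), ρ.IsIrreducible → 2 ≤ k → D ≤ k) →
      ∀ χ : SU n F q → ℂ, IsIrrCharacter (SU n F q) χ → χ ≠ 1 → (D : ℝ) ≤ ‖χ 1‖ := by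
    rintro D h χ ⟨m, ρ, hρ, rfl⟩ h1
    have h2 := RowU6.deg_of_irr hperf h m ρ (Cfsg.Agent.H253.TC.exists_ne_one hρ h1)
    rw [Representation.char_one, Complex.norm_natCast]
    simpa using h2
  rcases Nat.even_or_odd n with he | ho
  · -- even
    have hn4 : 4 ≤ n := by obtain ⟨j, hj⟩ := he; omega
    have hk : Odd (n - 1) := by obtain ⟨j, hj⟩ := he; exact ⟨j - 1, by omega⟩
    obtain ⟨x, hx⟩ := exists_elt (n := n) hF hk (by omega) (by omega) (by omega) (by
      rintro ⟨h1, h2⟩; exact h42 ⟨by omega, h1⟩)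
    rw [if_neg (by omega)] at hx
    have hD := Cfsg.Agent.S2335.result (F := F) n q hn4 he hF ⟨fun h => h42 (Prod.mk.inj h), fun h => h43 (Prod.mk.inj h)⟩
    have hnum := even_ineq hq2 hn4 he h42 h43
    refine twoComm_of_centralizer x (d := (q ^ n - 1) / (q + 1)) ?_ (hdeg hD) (hx.trans hnum)
    rw [Nat.pos_iff_ne_zero]
    intro h0
    rw [h0] at hnum
    have : 0 < (q ^ (n - 1) + 1) * (4 * q) := by positivity
    omega
  · -- odd
    obtain ⟨x, hx⟩ := exists_elt (n := n) hF ho hn le_rfl (by omega) (by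
      rintro ⟨h1, h2⟩; exact h3 ⟨h2, h1⟩)
    rw [if_pos rfl, mul_one] at hx
    have hD := Cfsg.Agent.S2334.result (F := F) n q hn ho hF (fun h => h3 (Prod.mk.inj h))
    have hnum := odd_ineq hq2 hn ho h3
    refine twoComm_of_centralizer x (d := (q ^ n - q) / (q + 1)) ?_ (hdeg hD) (hx.trans hnum)
    rw [Nat.pos_iff_ne_zero]
    intro h0
    rw [h0] at hnum
    omega

end Cfsg.Agent.H990.TC.UniGen
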